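import Groth.Agent.Sga3.H814.PolyThm
import Groth.Agent.Sga3B.RG.CentMax
import Groth.Agent.Sga3B.RG.NonComm
import Groth.Agent.Sga3B.RG.GaHom
import Groth.Agent.Sga3B.RG.DynUnip
import Groth.Agent.Sga3B.RG.BrRed
import Groth.Agent.Sga3B.RG.BrTorus
import Groth.Agent.Redsub.H674.UnipPts

/-!
# A connected affine group receiving only constant maps from the affine line is a torus

`K` algebraically closed.

* `eq_bot_of_unip`: closed connected unipotent subgroups are trivial;
* `isTorusSub_top`: the group is a torus (points form);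
* `isTorus`: scheme form.
-/

set_option autoImplicit false

universe u

open WithConv TensorProduct Coalgebra AlgebraicGeometry CategoryTheory MonoidalCategory CartesianMonoidalCategory
  MonObj GrpObj
open Groth.Agent.Sga3B.RG Groth.Agent.Sga3B.RG.BrPts Groth.Agent.Books.AffBridge Groth.Agent.Books.AffBridge2
open scoped LaurentPolynomial Polynomial

namespace K401.NoA1

section Alg

variable {K : Type u} [Field K]

/-- Every morphism from the affine line to `Spec A` is constant. -/
def NoLine (K A : Type u) [Field K] [CommRing A] [Algebra K A] : Prop :=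
  ∀ φ : A →ₐ[K] Polynomial K, ∃ g : A →ₐ[K] K, φ = (Algebra.ofId K (Polynomial K)).comp g

lemma NoLine.of_surjective {A B : Type u} [CommRing A] [Algebra K A] [CommRing B] [Algebra K B]
    (h : NoLine K A) (π : A →ₐ[K] B) (hπ : Function.Surjective π) : NoLine K B := by
  intro φ
  obtain ⟨g, hg⟩ := h (φ.comp π)
  have hC : Function.Injective (algebraMap K (Polynomial K)) := (algebraMap K (Polynomial K)).injective
  have hker : ∀ a ∈ RingHom.ker π, g a = 0 := by
    intro a ha
    apply hC
    rw [map_zero]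
    have h1 := DFunLike.congr_fun hg a
    rw [AlgHom.comp_apply, AlgHom.comp_apply, (RingHom.mem_ker).1 ha, map_zero] at h1
    exact h1.symm
  refine ⟨((Ideal.Quotient.liftₐ (RingHom.ker π) g hker).comp
    (Ideal.quotientKerAlgEquivOfSurjective hπ).symm.toAlgHom), ?_⟩
  apply AlgHom.ext
  intro b
  obtain ⟨a, rfl⟩ := hπ b
  have h1 := DFunLike.congr_fun hg a
  rw [AlgHom.comp_apply] at h1
  rw [h1, AlgHom.comp_apply, AlgHom.comp_apply]
  congr 1
  have h2 : (Ideal.quotientKerAlgEquivOfSurjective hπ).symm (π a) = Ideal.Quotient.mk (RingHom.ker π) a := by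
    rw [AlgEquiv.symm_apply_eq]
    rfl
  change g a = (Ideal.Quotient.liftₐ (RingHom.ker π) g hker) ((Ideal.quotientKerAlgEquivOfSurjective hπ).symm (π a))
  rw [h2]
  rfl

variable [IsAlgClosed K] {A : Type u} [CommRing A] [HopfAlgebra K A] [Algebra.FiniteType K A]

theorem subsingleton_of_unip [IsDomain A] (hU : ∀ g : Pt K A, IsUnip g) (h : NoLine K A) :
    Subsingleton (Pt K A) := by
  have hdom : IsDomain (K ⊗[K] A) :=
    (Algebra.TensorProduct.lid K A).toMulEquiv.isDomain
  obtain ⟨N, ⟨e⟩⟩ := Groth.Agent.Sga3.H814.PolyThm.exists_mvPolynomial K K A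
    (Groth.Agent.Redsub.H674.UnipPts.isUnipotent_of_forall_isUnip hU) A
    Groth.Agent.Sga3.H814.SubInv.isComodAlg_self
    (fun a ha => ⟨_, Groth.Agent.Sga3.H814.PolyThm.fixedPts_self ha⟩)
  rcases Nat.eq_zero_or_pos N with rfl | hN
  · constructor
    intro g g'
    apply Pt.ext'
    intro a
    obtain ⟨c, hc⟩ : ∃ c : K, e a = MvPolynomial.C c := by
      obtain ⟨c, hc⟩ := MvPolynomial.C_surjective (R := K) (Fin 0) (e a)
      exact ⟨c, hc.symm⟩
    have h1 : a = algebraMap K A c := by
      apply e.injective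
      rw [hc, AlgEquiv.commutes]
      rfl
    rw [h1]
    exact (g.ofConv.commutes c).trans (g'.ofConv.commutes c).symm
  · exfalso
    obtain ⟨g, hg⟩ := h ((MvPolynomial.aeval (fun _ : Fin N => (Polynomial.X : Polynomial K))).comp e.toAlgHom)
    have h1 := DFunLike.congr_fun hg (e.symm (MvPolynomial.X ⟨0, hN⟩))
    rw [AlgHom.comp_apply, AlgHom.comp_apply] at h1
    have h2 : e.toAlgHom (e.symm (MvPolynomial.X ⟨0, hN⟩)) = MvPolynomial.X ⟨0, hN⟩ := e.apply_symm_apply _
    rw [h2, MvPolynomial.aeval_X] at h1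
    have h3 := congrArg Polynomial.natDegree h1
    rw [Polynomial.natDegree_X] at h3
    have h4 : Polynomial.natDegree (Algebra.ofId K (Polynomial K) (g (e.symm (MvPolynomial.X ⟨0, hN⟩)))) = 0 :=
      Polynomial.natDegree_C _
    rw [h4] at h3
    exact one_ne_zero h3

/-- Closed connected unipotent subgroups are trivial. -/
theorem eq_bot_of_unip (h : NoLine K A) (N : Subgroup (Pt K A)) (hcl : IsCl (N : Set (Pt K A)))
    (hconn : IsConn (N : Set (Pt K A))) (hu : ∀ g ∈ N, IsUnip g) : N = ⊥ := by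
  have hp : (vanIdeal (N : Set (Pt K A))).IsPrime := hconn
  have hdom : IsDomain (A ⧸ vanIdeal (N : Set (Pt K A))) := Ideal.Quotient.isDomain _
  have hmk : Function.Surjective (Bialgebra.Quotient.mkBialgHom (R := K) (vanIdeal (N : Set (Pt K A)))) :=
    Ideal.Quotient.mk_surjective
  have h1 : ∀ g : Pt K (A ⧸ vanIdeal (N : Set (Pt K A))), quotMap (vanIdeal (N : Set (Pt K A))) g ∈ N := by
    intro g
    have h1 : quotMap (vanIdeal (N : Set (Pt K A))) g ∈
        (quotMap (K := K) (vanIdeal (N : Set (Pt K A)))).range := ⟨g, rfl⟩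
    rwa [range_quotMap_vanIdeal _ hcl] at h1
  have h2 : Subsingleton (Pt K (A ⧸ vanIdeal (N : Set (Pt K A)))) := by
    apply subsingleton_of_unip
    · intro g
      exact BrRed.isUnip_of_map hmk (hu _ (h1 g))
    · exact h.of_surjective (Ideal.Quotient.mkₐ K _) Ideal.Quotient.mk_surjective
  rw [eq_bot_iff, ← range_quotMap_vanIdeal N hcl]
  rintro _ ⟨g, rfl⟩
  rw [Subsingleton.elim g 1, map_one]
  exact one_mem _

/-- A connected affine group receiving only constant maps from the affine line is a torus. -/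
theorem isTorusSub_top [IsDomain A] (h : NoLine K A) : IsTorusSub (⊤ : Subgroup (Pt K A)) := by
  have hred : IsRedPt K A := fun N _ hcl hconn hu => eq_bot_of_unip h N hcl hconn hu
  obtain ⟨T, -, hT⟩ := GaHom.exists_isMaxTorusSub (K := K) (A := A) GaHom.isTorusSub_bot
  have h1 := K8.centralizer_eq hred hT
  obtain ⟨lam, -, h2⟩ := IsTorusSub.exists_coch hT.1
  have hU : ∀ mu : A →ₐc[K] K[T;T⁻¹], Usub mu = ⊥ := fun mu =>
    eq_bot_of_unip h _ (isCl_Usub mu) (isConn_Usub mu) (fun g hg => isUnip_of_mem_Usub hg)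
  have h3 := NC.Psub_eq_top (lam := lam) (hU _)
  rw [Psub_eq_sup, hU, sup_bot_eq, ← h2, h1] at h3
  rw [← h3]
  exact hT.1

end Alg

section Sch

variable (K : Type u) [Field K]

/-- The affine line. -/
noncomputable abbrev line : Over (Spec (CommRingCat.of K)) :=
  Over.mk (𝔸(PUnit.{u + 1}; Spec (CommRingCat.of K)) ↘ Spec (CommRingCat.of K))

/-- The affine line is `Spec K[X]`. -/
theorem nonempty_iso : Nonempty (line K ≅ SpecOver K (Polynomial K)) := by
  let e1 : line K ≅ SpecOver K (MvPolynomial PUnit.{u + 1} K) :=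
    Over.isoMk (AffineSpace.SpecIso PUnit.{u + 1} (CommRingCat.of K)) (by
      rw [← Iso.eq_inv_comp]
      exact (AffineSpace.SpecIso_inv_over (n := PUnit.{u + 1}) (CommRingCat.of K)).symm)
  let a : Polynomial K ≃ₐ[K] MvPolynomial PUnit.{u + 1} K := (MvPolynomial.uniqueAlgEquiv K PUnit.{u + 1}).symm
  let e2 : SpecOver K (MvPolynomial PUnit.{u + 1} K) ≅ SpecOver K (Polynomial K) :=
    { hom := specMap K a.toAlgHom
      inv := specMap K a.symm.toAlgHom
      hom_inv_id := by
        rw [← specMap_comp, ← specMap_id]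
        congr 1
        ext x
        simp
      inv_hom_id := by
        rw [← specMap_comp, ← specMap_id]
        congr 1
        apply AlgHom.ext
        intro x
        simp }
  exact ⟨e1 ≪≫ e2⟩

variable {K}

theorem noLine_of_const {B : Type u} [CommRing B] [Algebra K B]
    (h : ∀ f : line K ⟶ SpecOver K B, ∃ g : 𝟙_ (Over (Spec (CommRingCat.of K))) ⟶ SpecOver K B, f = toUnit _ ≫ g) :
    NoLine K B := by
  intro φ
  obtain ⟨e⟩ := nonempty_iso K
  obtain ⟨g, hg⟩ := h (e.hom ≫ specMap K φ)
  refine ⟨specPreimage K ((unitIso K).inv ≫ g), ?_⟩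
  apply specMap_injective K
  rw [specMap_comp, specMap_specPreimage, unitIso_inv, ← Category.assoc,
    show specMap K (Algebra.ofId K (Polynomial K)) ≫ toUnit (SpecOver K K) = e.inv ≫ toUnit _ from toUnit_unique _ _,
    Category.assoc, ← hg, Iso.inv_hom_id_assoc]

theorem const_of_noLine {B : Type u} [CommRing B] [Algebra K B] (h : NoLine K B)
    (f : line K ⟶ SpecOver K B) :
    ∃ g : 𝟙_ (Over (Spec (CommRingCat.of K))) ⟶ SpecOver K B, f = toUnit _ ≫ g := by
  obtain ⟨e⟩ := nonempty_iso K
  obtain ⟨g, hg⟩ := h (specPreimage K (e.inv ≫ f))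
  refine ⟨(unitIso K).hom ≫ specMap K g, ?_⟩
  rw [← cancel_epi e.inv, ← specMap_specPreimage K (e.inv ≫ f), hg, specMap_comp, ← Category.assoc,
    ← Category.assoc]
  congr 1
  have : IsIso (toUnit (SpecOver K K)) := ⟨(unitIso K).hom, by
    rw [← unitIso_inv]; exact (unitIso K).inv_hom_id, unitIso_hom_toUnit K⟩
  rw [← cancel_mono (toUnit (SpecOver K K))]
  exact toUnit_unique _ _

theorem noLine_monoidAlgebra (M : Type) [CommGroup M] : NoLine K (MonoidAlgebra K M) := by
  intro φ
  refine ⟨(Polynomial.aeval (0 : K)).comp φ, ?_⟩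
  refine MonoidAlgebra.algHom_ext ?_ (Subsingleton.elim _ _)
  intro m
  have h1 : IsUnit (φ (MonoidAlgebra.single m 1)) := by
    apply IsUnit.map φ
    refine ⟨⟨MonoidAlgebra.single m 1, MonoidAlgebra.single m⁻¹ 1, ?_, ?_⟩, rfl⟩
    · rw [MonoidAlgebra.single_mul_single, mul_inv_cancel, _root_.one_mul]; rfl
    · rw [MonoidAlgebra.single_mul_single, inv_mul_cancel, _root_.one_mul]; rfl
  obtain ⟨c, -, hc⟩ := Polynomial.isUnit_iff.1 h1
  rw [AlgHom.comp_apply, AlgHom.comp_apply, ← hc, Polynomial.aeval_C]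
  rfl

variable [IsAlgClosed K]

/-- A smooth connected affine group receiving only constant morphisms from the affine line is a torus. -/
theorem isTorus (L : Over (Spec (CommRingCat.of K))) [GrpObj L] [IsAffine L.left] [Smooth L.hom]
    [ConnectedSpace L.left]
    (h : ∀ f : line K ⟶ L, ∃ g : 𝟙_ (Over (Spec (CommRingCat.of K))) ⟶ L, f = toUnit _ ≫ g) : Red.IsTorus L := by
  obtain ⟨A, _, _, e, he⟩ := exists_hopf K L
  have hsm : Smooth (SpecOver K A).hom := by
    rw [show (SpecOver K A).hom = e.inv.left ≫ L.hom from (Over.w e.inv).symm]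
    have : IsIso e.inv.left := inferInstanceAs (IsIso ((Over.forget _).map e.inv))
    infer_instance
  have hcn : ConnectedSpace (SpecOver K A).left := by
    have : IsIso e.hom.left := inferInstanceAs (IsIso ((Over.forget _).map e.hom))
    exact e.hom.left.surjective.connectedSpace e.hom.left.continuous
  have hft : Algebra.FiniteType K A := (locallyOfFiniteType_specOver_iff K A).1 inferInstance
  have hdom : IsDomain A := (isDomain_iff (K := K) A).1 ⟨hsm, hcn⟩
  have hno : NoLine K A := noLine_of_const fun f => by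
    obtain ⟨g, hg⟩ := h (f ≫ e.inv)
    exact ⟨g ≫ e.hom, by rw [← Category.assoc, ← hg, Category.assoc, Iso.inv_hom_id, Category.comp_id]⟩
  obtain ⟨n, π, hπ, htop⟩ := isTorusSub_top hno
  have hinj : Function.Injective π := by
    rw [injective_iff_map_eq_zero]
    intro a ha
    apply eq_zero_of_forall_pt (K := K)
    intro g
    have hg : g ∈ (Pt.map π).range := by rw [← htop]; trivial
    obtain ⟨x, rfl⟩ := hg
    rw [Pt.map_apply, ha]
    exact map_zero x.ofConv
  let ε : A ≃ₐc[K] MonoidAlgebra K (Multiplicative (Fin n → ℤ)) := BialgEquiv.ofBijective π ⟨hinj, hπ⟩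
  have hi : IsIso (specMap K (π : A →ₐ[K] MonoidAlgebra K (Multiplicative (Fin n → ℤ)))) := by
    refine ⟨specMap K ((ε.symm : MonoidAlgebra K (Multiplicative (Fin n → ℤ)) →ₐc[K] A) : _ →ₐ[K] A), ?_, ?_⟩
    · rw [← specMap_comp, ← specMap_id]
      congr 1
      apply AlgHom.ext
      intro x
      exact ε.apply_symm_apply x
    · rw [← specMap_comp, ← specMap_id]
      congr 1
      apply AlgHom.ext
      intro x
      exact ε.symm_apply_apply x
  have hm : IsMonHom (specMap K (π : A →ₐ[K] MonoidAlgebra K (Multiplicative (Fin n → ℤ)))) := isMonHom_specMap K π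
  rw [BrTorus.isTorus_iff]
  refine ⟨n, e ≪≫ (asIso (specMap K (π : A →ₐ[K] MonoidAlgebra K (Multiplicative (Fin n → ℤ))))).symm, ?_⟩
  have : IsMonHom (asIso (specMap K (π : A →ₐ[K] MonoidAlgebra K (Multiplicative (Fin n → ℤ))))).hom := hm
  have : IsMonHom (asIso (specMap K (π : A →ₐ[K] MonoidAlgebra K (Multiplicative (Fin n → ℤ))))).inv := inferInstance
  exact inferInstanceAs (IsMonHom (e.hom ≫ (asIso (specMap K (π : A →ₐ[K] MonoidAlgebra K (Multiplicative (Fin n → ℤ))))).inv))

/-- Morphisms from the affine line to a torus are constant. -/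
theorem const_of_isTorus {T : Over (Spec (CommRingCat.of K))} [GrpObj T] (hT : Red.IsTorus T) (f : line K ⟶ T) :
    ∃ g : 𝟙_ (Over (Spec (CommRingCat.of K))) ⟶ T, f = toUnit _ ≫ g := by
  obtain ⟨n, e, -⟩ := BrTorus.isTorus_iff.1 hT
  obtain ⟨g, hg⟩ := const_of_noLine (noLine_monoidAlgebra (K := K) (Multiplicative (Fin n → ℤ))) (f ≫ e.hom)
  exact ⟨g ≫ e.inv, by rw [← Category.assoc, ← hg, Category.assoc, Iso.hom_inv_id, Category.comp_id]⟩

end Sch

end K401.NoA1
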