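import Groth.Agent.Books.AntiAffine
import Mathlib.AlgebraicGeometry.Noetherian

/-!
# Rigidity with an anti-affine factor

`X` quasi-compact quasi-separated over a field with `O(X) = k`, `f : X ⊗ Y ⟶ Z` constant on
`X × {y₀}`: then `f` factors through the second projection, when `Y` is integral, locally Noetherian.
-/

set_option autoImplicit false

open CategoryTheory Limits MonoidalCategory CartesianMonoidalCategory MonObj AlgebraicGeometry
open Groth.Agent.Books.AntiAffine

universe u
variable {K : Type u} [Field K]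

namespace K401.RigidAA

set_option backward.isDefEq.respectTransparency false in
theorem isIso_section_appTop (X : Over (Spec (.of K))) [CompactSpace X.left] [QuasiSeparatedSpace X.left]
    [IsIso X.hom.appTop] (x₀ : 𝟙_ (Over (Spec (.of K))) ⟶ X) (T : Over (Spec (.of K))) [IsAffine T.left] :
    IsIso (lift (toUnit T ≫ x₀) (𝟙 T)).left.appTop := by
  have H : IsPullback (fst X T).left (snd X T).left X.hom T.hom := IsPullback.of_hasPullback _ _
  have hflat : Flat T.hom := inferInstance
  have h := isPushout_appTop_of_flat H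
  have h1 : IsIso (snd X T).left.appTop := h.isIso_inr_of_isIso
  have h2 : (lift (toUnit T ≫ x₀) (𝟙 T)).left ≫ (snd X T).left = 𝟙 _ := by
    rw [← Over.comp_left]; simp
  have h3 := congr(($h2).appTop)
  rw [Scheme.Hom.comp_appTop] at h3
  have h4 : (lift (toUnit T ≫ x₀) (𝟙 T)).left.appTop = inv (snd X T).left.appTop := by
    rw [← cancel_epi (snd X T).left.appTop, h3]; simp
  rw [h4]
  infer_instance

/-- the morphism `(x, y) ↦ f (x₀, y)` -/
noncomputable abbrev res {X Y Z : Over (Spec (.of K))} (x₀ : 𝟙_ (Over (Spec (.of K))) ⟶ X) (f : X ⊗ Y ⟶ Z) : X ⊗ Y ⟶ Z :=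
  snd X Y ≫ lift (toUnit Y ≫ x₀) (𝟙 Y) ≫ f

theorem rigid_affine {X Y Z : Over (Spec (.of K))} [CompactSpace X.left] [QuasiSeparatedSpace X.left]
    [IsIso X.hom.appTop] (x₀ : 𝟙_ (Over (Spec (.of K))) ⟶ X) (f : X ⊗ Y ⟶ Z)
    (T P : Over (Spec (.of K))) [IsAffine T.left] (t : T ⟶ Y) (i : P ⟶ T) [Surjective i.left]
    (z₀ : 𝟙_ (Over (Spec (.of K))) ⟶ Z)
    (hi : (X ◁ (i ≫ t)) ≫ f = toUnit _ ≫ z₀) :
    (X ◁ t) ≫ f = (X ◁ t) ≫ res x₀ f := by
  obtain ⟨α, hα⟩ : ∃ α, α = (X ◁ t) ≫ f := ⟨_, rfl⟩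
  obtain ⟨β, hβ⟩ : ∃ β, β = (X ◁ t) ≫ res x₀ f := ⟨_, rfl⟩
  rw [← hα, ← hβ]
  let pt : (Spec (.of K)) := IsLocalRing.closedPoint K
  let e : Z.left := z₀.left pt
  obtain ⟨U, hU, hxU⟩ : ∃ U : Z.left.Opens, IsAffineOpen U ∧ e ∈ U := by
    obtain ⟨_, ⟨U, hU, rfl⟩, hxU, -⟩ := Z.left.isBasis_affineOpens.exists_subset_of_mem_open
      (Set.mem_univ e) isOpen_univ
    exact ⟨U, hU, hxU⟩
  have hs : Surjective (X ◁ i).left := whiskerLeft_left_mem @Surjective _ _ inferInstance
  have h1 : X ◁ i ≫ α = toUnit _ ≫ z₀ := by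
    rw [hα, ← Category.assoc, ← whiskerLeft_comp, hi]
  have h2 : X ◁ i ≫ β = toUnit _ ≫ z₀ := by
    have e1 : X ◁ i ≫ β = (snd X P ≫ lift (toUnit P ≫ x₀) (𝟙 P)) ≫ (X ◁ (i ≫ t)) ≫ f := by
      rw [hβ, res]
      simp only [← Category.assoc]
      congr 1
      ext1 <;> simp
    rw [e1, hi, ← Category.assoc]
    congr 1
    exact toUnit_unique _ _
  have h3 : ∀ (γ : X ⊗ T ⟶ Z), X ◁ i ≫ γ = toUnit _ ≫ z₀ → Set.range γ.left ⊆ Set.range U.ι := by
    rintro γ hγ _ ⟨x, rfl⟩
    obtain ⟨y, rfl⟩ := hs.surj x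
    rw [← Scheme.Hom.comp_apply, ← Over.comp_left, hγ, Over.comp_left, Scheme.Hom.comp_apply]
    have hsub : Subsingleton (𝟙_ (Over (Spec (.of K)))).left := inferInstanceAs (Subsingleton (Spec (.of K)))
    rw [Subsingleton.elim ((toUnit (X ⊗ P)).left y) pt]
    simpa using hxU
  have h4 := h3 α h1
  have h5 := h3 β h2
  have : IsAffine U.toScheme := hU
  let α' := IsOpenImmersion.lift U.ι α.left h4
  let β' := IsOpenImmersion.lift U.ι β.left h5
  have hα' : α' ≫ U.ι = α.left := IsOpenImmersion.lift_fac _ _ _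
  have hβ' : β' ≫ U.ι = β.left := IsOpenImmersion.lift_fac _ _ _
  let s := lift (toUnit T ≫ x₀) (𝟙 T)
  have hsα : s ≫ α = s ≫ β := by
    rw [hα, hβ, res]
    simp only [← Category.assoc]
    congr 1
    ext1 <;> simp [s]
  have hs' : s.left ≫ α' = s.left ≫ β' := by
    rw [← cancel_mono U.ι, Category.assoc, Category.assoc, hα', hβ', ← Over.comp_left, hsα, Over.comp_left]
  have hiso := isIso_section_appTop X x₀ T
  have h6 : α' = β' := by
    apply ext_of_isAffine
    have := congr(($hs').appTop)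
    rw [Scheme.Hom.comp_appTop, Scheme.Hom.comp_appTop] at this
    exact (cancel_mono _).mp this
  ext1
  rw [← hα', ← hβ', h6]

open IsLocalRing in
theorem exists_inf_point (Y : Over (Spec (.of K))) (y₀ : 𝟙_ (Over (Spec (.of K))) ⟶ Y) (n : ℕ) :
    ∃ i : 𝟙_ (Over (Spec (.of K))) ⟶ inf Y (y₀.left (closedPoint K)) n, Surjective i.left ∧
      i ≫ infι Y _ n ≫ locι Y _ = y₀ := by
  let e := y₀.left (closedPoint K)
  let φ : Y.left.presheaf.stalk e ⟶ .of K := Scheme.stalkClosedPointTo (R := .of K) y₀.left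
  have hφ : IsLocalHom φ.hom := Scheme.isLocalHom_stalkClosedPointTo (R := .of K) y₀.left
  have hker : ∀ a ∈ (maximalIdeal (Y.left.presheaf.stalk e)) ^ (n + 1), φ.hom a = 0 := by
    intro a ha
    have h1 : (maximalIdeal (Y.left.presheaf.stalk e)) ^ (n + 1) ≤ RingHom.ker φ.hom := by
      refine (Ideal.pow_le_self (by omega)).trans ?_
      intro x hx
      rw [RingHom.mem_ker]
      by_contra hne
      have : IsUnit (φ.hom x) := IsUnit.mk0 _ hne
      exact (mem_maximalIdeal _).mp hx (isUnit_of_map_unit φ.hom x this)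
    exact h1 ha
  let ψ : infRing Y.left e n ⟶ .of K := CommRingCat.ofHom (Ideal.Quotient.lift _ φ.hom hker)
  have hψ : infMk Y.left e n ≫ ψ = φ := by ext x; rfl
  have key : Spec.map ψ ≫ Spec.map (infMk Y.left e n) ≫ Y.left.fromSpecStalk e = y₀.left := by
    rw [← Spec.map_comp_assoc, hψ]
    exact Scheme.Spec_stalkClosedPointTo_fromSpecStalk (R := .of K) y₀.left
  refine ⟨Over.homMk (Spec.map ψ) ?_, ?_, ?_⟩
  · have := Over.w y₀
    rw [← key] at this
    simpa using this
  · constructor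
    intro x
    refine ⟨closedPoint K, ?_⟩
    change (PrimeSpectrum.comap ψ.hom) (closedPoint K) = x
    apply PrimeSpectrum.comap_injective_of_surjective (infMk Y.left e n).hom Ideal.Quotient.mk_surjective
    have : ∀ y : PrimeSpectrum (infRing Y.left e n), PrimeSpectrum.comap (infMk Y.left e n).hom y = closedPoint (Y.left.presheaf.stalk e) := by
      intro y
      ext1
      have hy := (PrimeSpectrum.comap (infMk Y.left e n).hom y).isPrime
      have h2 : maximalIdeal (Y.left.presheaf.stalk e) ≤ (PrimeSpectrum.comap (infMk Y.left e n).hom y).asIdeal := by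
        apply hy.le_of_pow_le (n := n + 1)
        intro z hz
        rw [PrimeSpectrum.comap_asIdeal, Ideal.mem_comap]
        have : (infMk Y.left e n).hom z = 0 := Ideal.Quotient.eq_zero_iff_mem.mpr hz
        rw [this]
        exact Ideal.zero_mem _
      exact (le_antisymm h2 (le_maximalIdeal hy.ne_top)).symm
    rw [this, this]
  · ext1
    exact key

/-- Two morphisms `X ⊗ loc Y e ⟶ Z` to a separated scheme which agree on all the infinitesimal
neighbourhoods `X ⊗ inf Y e n` are equal. -/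
theorem ext_of_inf {X Y Z : Over (Spec (.of K))} [IsLocallyNoetherian Y.left] [IsSeparated Z.hom] (e : Y.left)
    (a b : X ⊗ loc Y e ⟶ Z) (h1 : ∀ n, (X ◁ infι Y e n) ≫ a = (X ◁ infι Y e n) ≫ b) : a = b := by
  ext1
  let 𝒰 := X.left.affineCover
  refine Scheme.Cover.hom_ext (𝒰.pullback₁ (fst X (loc Y e)).left) _ _ ?_
  intro j
  let W : Over (Spec (.of K)) := Over.mk (𝒰.f j ≫ X.hom)
  let w : W ⟶ X := Over.homMk (𝒰.f j)
  have hpb : IsPullback (w ▷ loc Y e).left (fst W (loc Y e)).left (fst X (loc Y e)).left (𝒰.f j) :=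
    (isPullback_whiskerRight w (loc Y e)).map (Over.forget _)
  change pullback.fst (fst X (loc Y e)).left (𝒰.f j) ≫ a.left = pullback.fst (fst X (loc Y e)).left (𝒰.f j) ≫ b.left
  have h2 : (w ▷ loc Y e).left = hpb.isoPullback.hom ≫ pullback.fst (fst X (loc Y e)).left (𝒰.f j) := by
    simp
  rw [← cancel_epi hpb.isoPullback.hom, ← Category.assoc, ← Category.assoc, ← h2]
  have hW : IsAffine W.left := inferInstanceAs (IsAffine (𝒰.X j))
  have hWV : IsAffine (W ⊗ loc Y e).left := by
    have : IsAffine (pullback W.hom (loc Y e).hom) := inferInstance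
    exact this
  refine ext_of_affine _ _ Z.hom (by simp) (X' := fun n => (W ⊗ inf Y e n).left) (fun n => (W ◁ infι Y e n).left) ?_ ?_
  · exact fun s hs => section_eq_zero Y e W s hs
  · intro n
    have h3 : (W ◁ infι Y e n) ≫ (w ▷ loc Y e) = (w ▷ _) ≫ (X ◁ infι Y e n) := by
      exact (whisker_exchange _ _)
    have h4 := congr((w ▷ _) ≫ $(h1 n))
    rw [← Category.assoc, ← Category.assoc, ← h3, Category.assoc, Category.assoc] at h4
    have h5 := congr(($h4).left)
    simpa only [Over.comp_left] using h5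

theorem ext_of_loc {X Y Z : Over (Spec (.of K))} [IsSeparated Y.hom] [IsIntegral Y.left]
    [IsSeparated Z.hom] (e : Y.left)
    (a b : X ⊗ Y ⟶ Z) (h1 : (X ◁ locι Y e) ≫ a = (X ◁ locι Y e) ≫ b) : a = b := by
  have hdom : IsDominant (locι Y e).left := by
    constructor
    have h := Scheme.range_fromSpecStalk (X := Y.left) (x := e)
    rw [DenseRange]
    change Dense (Set.range (Y.left.fromSpecStalk e))
    rw [h, dense_iff_closure_eq, ← Set.univ_subset_iff]
    have h0 : closure {genericPoint Y.left} = Set.univ := genericPoint_spec Y.left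
    rw [← h0]
    apply closure_mono
    rintro _ rfl
    exact genericPoint_specializes e
  have hqc : QuasiCompact (locι Y e).left := by
    have h2 : QuasiCompact ((locι Y e).left ≫ Y.hom) := by
      have : IsAffineHom ((locι Y e).left ≫ Y.hom) := inferInstance
      infer_instance
    exact MorphismProperty.of_postcomp (W := @QuasiCompact) (W' := @QuasiSeparated) _ Y.hom inferInstance h2
  have hst : IsSchemeTheoreticallyDominant (locι Y e).left := .of_isDominant _
  have hst2 : IsSchemeTheoreticallyDominant (X ◁ locι Y e).left := by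
    have : Flat (snd X Y).left := by
      have : (snd X Y).left = pullback.snd _ _ := rfl
      rw [this]
      infer_instance
    exact IsSchemeTheoreticallyDominant.of_isPullback (f := (locι Y e).left) (g := (snd X Y).left)
      ((isPullback_whiskerLeft (locι Y e) X).flip.map (Over.forget _))
  have hsep : IsClosedImmersion (equalizer.ι a b).left := isClosedImmersion_equalizer_ι_left _ _
  have hst3 : IsSchemeTheoreticallyDominant (equalizer.ι a b).left := by
    have h3 : (equalizer.lift _ h1).left ≫ (equalizer.ι a b).left = (X ◁ locι Y e).left := by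
      rw [← Over.comp_left, equalizer.lift_ι]
    rw [isSchemeTheoreticallyDominant_iff]
    have h4 := (X ◁ locι Y e).left.ker_eq_bot
    rw [← h3] at h4
    exact le_bot_iff.mp (h4 ▸ Scheme.Hom.le_ker_comp _ _)
  have : IsIso (equalizer.ι a b).left := by
    have h5 := (equalizer.ι a b).left.ker_eq_bot
    exact IsClosedImmersion.isIso_iff_ker_eq_bot.mpr h5
  have h6 := congr(($(equalizer.condition a b)).left)
  rw [Over.comp_left, Over.comp_left] at h6
  ext1
  exact (cancel_epi _).mp h6

/-- Rigidity lemma with an anti-affine factor. -/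
theorem rigid {X Y Z : Over (Spec (.of K))} [CompactSpace X.left] [QuasiSeparatedSpace X.left]
    [IsIso X.hom.appTop] [IsSeparated Y.hom] [IsLocallyNoetherian Y.left] [IsIntegral Y.left] [IsSeparated Z.hom]
    (x₀ : 𝟙_ (Over (Spec (.of K))) ⟶ X) (y₀ : 𝟙_ (Over (Spec (.of K))) ⟶ Y) (f : X ⊗ Y ⟶ Z)
    (z₀ : 𝟙_ (Over (Spec (.of K))) ⟶ Z)
    (hf : (X ◁ y₀) ≫ f = toUnit _ ≫ z₀) : f = res x₀ f := by
  apply ext_of_loc (y₀.left (IsLocalRing.closedPoint K))
  apply ext_of_inf
  intro n
  obtain ⟨i, hi, hi'⟩ := exists_inf_point Y y₀ n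
  have := rigid_affine x₀ f (inf Y (y₀.left (IsLocalRing.closedPoint K)) n) (𝟙_ _) (infι Y _ n ≫ locι Y _) i z₀
    (by rw [hi', hf])
  simpa only [whiskerLeft_comp, Category.assoc] using this

end K401.RigidAA
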