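import Groth.Agent.Brauer.K443.PnMor
import Groth.Agent.GIT.K690.EqMat
import Groth.Agent.AlgGrp.K408.AssocAff
import Groth.Prelude.Def_AGF

/-!
# Equivariant compactifications: projective space over `k` by its points, equivariant embedding data

* `Pn k n`: projective space as an object over `Spec k`; `up v hv`: its point with values in a `k`-algebra given by a
  unimodular vector; `up_eq_iff`, `comp_up`, `exists_local_up`.
* `EmbData a π ρ`: for a torsor `π : G ⟶ Q` under `M` (left action `a` of `M` on `G`) and a matrix representation `ρ` of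
  `M`, matrices on a flat covering of `Q` embedding the vector bundle associated with `ρ` into a power of a line bundle.
-/

set_option autoImplicit false
universe u
open CategoryTheory CategoryTheory.Limits MonoidalCategory CartesianMonoidalCategory
  AlgebraicGeometry

namespace K401.CompDef

open CoactBr K443.PnUni K443.PnMor K690.Chart K690.EqMat

variable {k : Type u} [Field k]

/-- Projective space over `k`. -/
noncomputable abbrev Pn (k : Type u) [Field k] (n : ℕ) : Over (Spec (CommRingCat.of k)) :=
  Over.mk (CohB1.ProjSpace.toSpec n k)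

section points

variable {n : ℕ} {C : Type u} [CommRing C] [Algebra k C] {C' : Type u} [CommRing C'] [Algebra k C']

/-- The point of projective space with values in a `k`-algebra given by a unimodular vector. -/
noncomputable def up (v : Fin (n + 1) → C) (hv : IsUni v) : sp k C ⟶ Pn k n :=
  Over.homMk (uPt (algebraMap k C) v hv) (uPt_toSpec _ _ _)

theorem up_left (v : Fin (n + 1) → C) (hv : IsUni v) :
    (up (k := k) v hv).left = uPt (algebraMap k C) v hv := rfl

theorem up_congr {v w : Fin (n + 1) → C} (h : v = w) (hv : IsUni v) (hw : IsUni w) :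
    up (k := k) v hv = up w hw := by
  subst h; rfl

theorem comp_up (φ : C →ₐ[k] C') (v : Fin (n + 1) → C) (hv : IsUni v) (hv' : IsUni (φ ∘ v)) :
    pt φ ≫ up v hv = up (k := k) (φ ∘ v) hv' := by
  ext1
  rw [Over.comp_left, pt_left, up_left, up_left]
  refine (spec_uPt' (algebraMap k C) v hv φ.toRingHom hv').trans ?_
  exact uPt_congr φ.comp_algebraMap rfl _ _

theorem up_smul (v : Fin (n + 1) → C) (hv : IsUni v) (c : C) (hcv : IsUni (c • v)) :
    up (k := k) (c • v) hcv = up v hv := by
  ext1
  exact uPt_smul _ v hv c hcv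

/-- The points given by two unimodular vectors agree exactly when the vectors are proportional. -/
theorem up_eq_iff (v w : Fin (n + 1) → C) (hv : IsUni v) (hw : IsUni w) :
    up (k := k) v hv = up w hw ↔ ∃ c : Cˣ, w = (c : C) • v := by
  constructor
  · intro h
    have h0 : uPt (algebraMap k C) v hv = uPt (algebraMap k C) w hw := congrArg CommaMorphism.left h
    have h1 : ∀ i j, v i * w j = v j * w i := by
      intro i j
      have h2 : ∀ l : Fin (n + 1), ∃ N : ℕ, v l ^ N * (v i * w j - v j * w i) = 0 := by
        intro l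
        let T := Localization.Away (v l)
        let θ : C →+* T := algebraMap C T
        have hl : IsUnit ((θ ∘ v) l) := IsLocalization.Away.algebraMap_isUnit (v l)
        obtain ⟨c, hc⟩ := exists_smul_of_uPt_eq (θ.comp (algebraMap k C)) (θ ∘ v) (θ ∘ w) (hv.map θ) (hw.map θ) l hl
          (by rw [← spec_uPt' _ v hv θ (hv.map θ), ← spec_uPt' _ w hw θ (hw.map θ), h0])
        have hc' : ∀ m, θ (v m) = c * θ (w m) := fun m => congrFun hc m
        have h3 : θ (v i * w j - v j * w i) = 0 := by
          rw [map_sub, map_mul, map_mul, hc' i, hc' j]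
          ring
        obtain ⟨⟨_, N, rfl⟩, hN⟩ := (IsLocalization.map_eq_zero_iff (Submonoid.powers (v l)) T _).1 h3
        exact ⟨N, hN⟩
      choose N hN using h2
      have h4 : Ideal.span (Set.range fun l => v l ^ (N l)) = ⊤ := by
        have h5 := Ideal.span_pow_eq_top (Set.range v) hv (∑ l, N l)
        rw [eq_top_iff, ← h5, Ideal.span_le]
        rintro _ ⟨_, ⟨l, rfl⟩, rfl⟩
        have h6 : N l ≤ ∑ l, N l := Finset.single_le_sum (fun _ _ => Nat.zero_le _) (Finset.mem_univ l)
        have h7 : v l ^ (∑ l, N l) = v l ^ (∑ l, N l - N l) * v l ^ N l := by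
          rw [← pow_add, Nat.sub_add_cancel h6]
        change v l ^ (∑ l, N l) ∈ _
        rw [h7]
        exact Ideal.mul_mem_left _ _ (Ideal.subset_span ⟨l, rfl⟩)
      have h8 : v i * w j - v j * w i = 0 := by
        have h9 : ∀ x ∈ Ideal.span (Set.range fun l => v l ^ (N l)), x * (v i * w j - v j * w i) = 0 := by
          intro x hx
          induction hx using Submodule.span_induction with
          | mem x hx => obtain ⟨l, rfl⟩ := hx; exact hN l
          | zero => rw [zero_mul]
          | add x y _ _ hx hy => rw [add_mul, hx, hy, add_zero]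
          | smul a x _ hx => rw [smul_eq_mul, mul_assoc, hx, mul_zero]
        have h10 := h9 1 (by rw [h4]; trivial)
        rwa [one_mul] at h10
      exact sub_eq_zero.1 h8
    have h11 : (1 : C) ∈ Ideal.span (Set.range v) := by rw [hv]; trivial
    obtain ⟨a, ha⟩ := (Ideal.mem_span_range_iff_exists_fun).1 h11
    have h12 : (1 : C) ∈ Ideal.span (Set.range w) := by rw [hw]; trivial
    obtain ⟨b, hb⟩ := (Ideal.mem_span_range_iff_exists_fun).1 h12
    have h13 : ∀ j, w j = (∑ i, a i * w i) * v j := by
      intro j
      rw [Finset.sum_mul]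
      calc w j = (∑ i, a i * v i) * w j := by rw [ha, one_mul]
        _ = ∑ i, a i * v i * w j := Finset.sum_mul _ _ _
        _ = _ := Finset.sum_congr rfl fun i _ => by rw [mul_assoc, h1 i j]; ring
    have h14 : (∑ i, a i * w i) * (∑ j, b j * v j) = 1 := by
      rw [Finset.mul_sum, ← hb]
      exact Finset.sum_congr rfl fun j _ => by rw [h13 j]; ring
    refine ⟨⟨_, _, h14, by rw [mul_comm]; exact h14⟩, ?_⟩
    funext j
    exact h13 j
  · rintro ⟨c, rfl⟩
    exact (up_smul v hv c hw).symm

/-- Locally every point is given by a unimodular vector. -/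
theorem exists_local_up (x : sp k C ⟶ Pn k n) (p : PrimeSpectrum C) :
    ∃ g : C, g ∉ p.asIdeal ∧ ∃ (v : Fin (n + 1) → Localization.Away g) (hv : IsUni v),
      pt (IsScalarTower.toAlgHom k C (Localization.Away g)) ≫ x = up v hv := by
  obtain ⟨g, hg, j, v, i, hi, h⟩ := exists_local_jPt (x.left : Spec (CommRingCat.of C) ⟶ CohB1.ProjSpace n k) p
  have hj : j = algebraMap k (Localization.Away g) := by
    have h2 : (x.left : Spec (CommRingCat.of C) ⟶ CohB1.ProjSpace n k) ≫ CohB1.ProjSpace.toSpec n k =
        Spec.map (CommRingCat.ofHom (algebraMap k C)) := Over.w x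
    have h3 : Spec.map (CommRingCat.ofHom (algebraMap C (Localization.Away g))) ≫
        Spec.map (CommRingCat.ofHom (algebraMap k C)) = Spec.map (CommRingCat.ofHom j) := by
      rw [← h2, ← jPt_toSpec j v i hi, ← h, Category.assoc]
      rfl
    rw [← Spec.map_comp, Spec.map_inj] at h3
    have h4 : (algebraMap C (Localization.Away g)).comp (algebraMap k C) = j := congr(($h3).hom)
    rw [← h4, ← IsScalarTower.algebraMap_eq]
  subst hj
  refine ⟨g, hg, v, isUni_of_isUnit hi, ?_⟩
  ext1
  rw [Over.comp_left, pt_left, up_left, uPt_eq_jPt _ _ _ i hi]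
  exact h

end points

/-- Embedding data for the vector bundle associated with the torsor `π : G ⟶ Q` under `M` and the matrix
representation `ρ` of `M`. -/
structure EmbData {M G Q : Over (Spec (CommRingCat.of k))} [GrpObj M] (a : AlgGrp.Action M G)
    (π : G ⟶ Q) {n : ℕ} (ρ : MatRep k M (n + 1)) where
  /-- the number of charts -/
  r : ℕ
  /-- the coordinate rings of the charts -/
  R : Fin r → Type u
  [ring : ∀ j, CommRing (R j)]
  [alg : ∀ j, Algebra k (R j)]
  /-- the charts -/
  s : ∀ j, sp k (R j) ⟶ G
  flat : ∀ j, Flat (s j ≫ π).left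
  cover : ∀ q : Q.left, ∃ j, q ∈ Set.range (s j ≫ π).left
  /-- the dimension of the target -/
  m : ℕ
  /-- the embedding -/
  F : ∀ j, Matrix (Fin (m + 1)) (Fin (n + 1)) (R j)
  /-- a left inverse of the embedding -/
  F' : ∀ j, Matrix (Fin (n + 1)) (Fin (m + 1)) (R j)
  inv : ∀ j, F' j * F j = 1
  compat : ∀ (j l : Fin r) (C : Type u) [CommRing C] [Algebra k C] (x : R j →ₐ[k] C) (y : R l →ₐ[k] C)
    (g : sp k C ⟶ M), lift g (pt y ≫ s l) ≫ a.act = pt x ≫ s j →
    ∃ c : Cˣ, (F j).map x * ρ.c g = (c : C) • (F l).map y

end K401.CompDef
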