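import Groth.Agent.Books.BorelOrb
import Groth.Prelude.Def_ActBC

/-!
# Restricting an action to a stable "subobject" over another base

`h : S' ⟶ S`, `a` an action of the `S`-group `A` on `X`, `V` an `S'`-scheme with `j : V ⟶ X` over `h`, injective on
`S'`-points and such that the image is stable under `A`.

* `exists_action`: `A ×_S S'` acts on `V`, compatibly with `j`;
* `isIso_of_torsor`: the action is simply transitive if that of `A` is so on the points of `V`.
-/

set_option autoImplicit false
universe u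
open CategoryTheory CategoryTheory.Limits MonoidalCategory CartesianMonoidalCategory MonObj GrpObj AlgebraicGeometry
open Groth.Agent.Books.BorelOrb

namespace K401.ActGen

variable {S S' : Scheme.{u}} (h : S' ⟶ S) {A X : Over S} [GrpObj A]

/-- A point of the base change as a point over the smaller base. -/
noncomputable def dn {T : Over S'} (b : T ⟶ Red.bc h A) : (Over.map h).obj T ⟶ A :=
  ((Over.mapPullbackAdj h).homEquiv T A).symm b

/-- The inverse of `dn`. -/
noncomputable def up {T : Over S'} (b : (Over.map h).obj T ⟶ A) : T ⟶ Red.bc h A :=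
  (Over.mapPullbackAdj h).homEquiv T A b

omit [GrpObj A] in
lemma dn_up {T : Over S'} (b : (Over.map h).obj T ⟶ A) : dn h (up h b) = b := Equiv.symm_apply_apply _ _

omit [GrpObj A] in
lemma up_dn {T : Over S'} (b : T ⟶ Red.bc h A) : up h (dn h b) = b := Equiv.apply_symm_apply _ _

omit [GrpObj A] in
lemma dn_injective {T : Over S'} : Function.Injective (dn h (A := A) (T := T)) := Equiv.injective _

omit [GrpObj A] in
lemma dn_comp {T T' : Over S'} (t : T' ⟶ T) (b : T ⟶ Red.bc h A) : dn h (t ≫ b) = (Over.map h).map t ≫ dn h b :=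
  (Over.mapPullbackAdj h).homEquiv_naturality_left_symm t b

lemma dn_mul {T : Over S'} (b c : T ⟶ Red.bc h A) : dn h (b * c) = dn h b * dn h c := by
  apply (Over.mapPullbackAdj h).homEquiv T A |>.injective
  rw [AlgGrp.Action.homEquiv_mul]
  simp only [dn, Equiv.apply_symm_apply]

lemma dn_one {T : Over S'} : dn h (1 : T ⟶ Red.bc h A) = 1 := by
  have h1 := dn_mul h (1 : T ⟶ Red.bc h A) 1
  rw [_root_.mul_one] at h1
  exact (left_eq_mul.1 h1)

lemma dn_pow {T : Over S'} (b : T ⟶ Red.bc h A) (n : ℕ) : dn h (b ^ n) = dn h b ^ n := by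
  induction n with
  | zero => rw [pow_zero, pow_zero, dn_one]
  | succ n ih => rw [pow_succ, pow_succ, dn_mul, ih]

variable (a : AlgGrp.Action A X) {V : Over S'} (j : (Over.map h).obj V ⟶ X)

theorem exists_action
    (hinj : ∀ {T : Over S'} (x y : T ⟶ V), (Over.map h).map x ≫ j = (Over.map h).map y ≫ j → x = y)
    (hact : ∀ {T : Over S'} (b : (Over.map h).obj T ⟶ A) (x : T ⟶ V),
      ∃ y : T ⟶ V, (Over.map h).map y ≫ j = sm a b ((Over.map h).map x ≫ j)) :
    ∃ a' : AlgGrp.Action (Red.bc h A) V, ∀ {T : Over S'} (b : T ⟶ Red.bc h A) (x : T ⟶ V),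
      (Over.map h).map (sm a' b x) ≫ j = sm a (dn h b) ((Over.map h).map x ≫ j) := by
  obtain ⟨m, hm⟩ := hact (dn h (fst (Red.bc h A) V)) (snd (Red.bc h A) V)
  have key : ∀ {T : Over S'} (b : T ⟶ Red.bc h A) (x : T ⟶ V),
      (Over.map h).map (lift b x ≫ m) ≫ j = sm a (dn h b) ((Over.map h).map x ≫ j) := by
    intro T b x
    rw [Functor.map_comp, Category.assoc, hm, comp_sm, ← dn_comp, lift_fst, ← Category.assoc, ← Functor.map_comp,
      lift_snd]
  refine ⟨{ act := m, one_act := ?_, mul_act := ?_ }, fun b x => key b x⟩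
  · apply hinj
    have h1 : (η[Red.bc h A] ▷ V) = lift (1 : 𝟙_ (Over S') ⊗ V ⟶ Red.bc h A) (snd _ _) := by
      ext1
      · rw [lift_fst, whiskerRight_fst, Hom.one_def]
        congr 1
      · rw [lift_snd, whiskerRight_snd]
    rw [h1, key, dn_one, one_sm, leftUnitor_hom]
  · apply hinj
    have h1 : (μ[Red.bc h A] ▷ V) = lift ((fst _ _ ≫ fst (Red.bc h A) (Red.bc h A)) * (fst _ _ ≫ snd _ _))
        (snd (Red.bc h A ⊗ Red.bc h A) V) := by
      ext1
      · rw [lift_fst, whiskerRight_fst, Hom.mul_def, ← comp_lift, lift_fst_snd, Category.comp_id]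
      · rw [lift_snd, whiskerRight_snd]
    have h2 : (α_ (Red.bc h A) (Red.bc h A) V).hom ≫ (Red.bc h A ◁ m) =
        lift (fst _ _ ≫ fst (Red.bc h A) (Red.bc h A)) (lift (fst _ _ ≫ snd _ _) (snd _ _) ≫ m) := by
      ext1
      · rw [lift_fst, Category.assoc, whiskerLeft_fst, associator_hom_fst]
      · rw [lift_snd, Category.assoc, whiskerLeft_snd, ← Category.assoc]
        congr 1
        ext1 <;> simp
    rw [h1, key, ← Category.assoc (α_ _ _ _).hom, h2, key, key, dn_mul, mul_sm]

theorem isIso_of_torsor (a' : AlgGrp.Action (Red.bc h A) V)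
    (hinj : ∀ {T : Over S'} (x y : T ⟶ V), (Over.map h).map x ≫ j = (Over.map h).map y ≫ j → x = y)
    (hc : ∀ {T : Over S'} (b : T ⟶ Red.bc h A) (x : T ⟶ V),
      (Over.map h).map (sm a' b x) ≫ j = sm a (dn h b) ((Over.map h).map x ≫ j))
    (hex : ∀ {T : Over S'} (x y : T ⟶ V), ∃ b : (Over.map h).obj T ⟶ A,
      sm a b ((Over.map h).map x ≫ j) = (Over.map h).map y ≫ j)
    (huniq : ∀ {T : Over S'} (x : T ⟶ V) (b b' : (Over.map h).obj T ⟶ A),
      sm a b ((Over.map h).map x ≫ j) = sm a b' ((Over.map h).map x ≫ j) → b = b') :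
    IsIso (lift a'.act (snd (Red.bc h A) V)) := by
  have h1 : ∀ T : Over S', Function.Bijective (fun x : T ⟶ Red.bc h A ⊗ V => x ≫ lift a'.act (snd (Red.bc h A) V)) := by
    intro T
    constructor
    · intro x y hxy
      dsimp only at hxy
      have e1 : x ≫ snd _ _ = y ≫ snd _ _ := by
        have := congrArg (fun z => z ≫ snd _ _) hxy
        simpa using this
      have e2 : x ≫ a'.act = y ≫ a'.act := by
        have := congrArg (fun z => z ≫ fst _ _) hxy
        simpa using this
      have hx : x ≫ a'.act = sm a' (x ≫ fst _ _) (x ≫ snd _ _) := by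
        rw [sm, ← comp_lift, lift_fst_snd, Category.comp_id]
      have hy : y ≫ a'.act = sm a' (y ≫ fst _ _) (y ≫ snd _ _) := by
        rw [sm, ← comp_lift, lift_fst_snd, Category.comp_id]
      rw [hx, hy, ← e1] at e2
      have e3 := congrArg (fun z => (Over.map h).map z ≫ j) e2
      rw [hc, hc] at e3
      have e4 := dn_injective h (huniq _ _ _ e3)
      ext1
      · exact e4
      · exact e1
    · intro y
      obtain ⟨b, hb⟩ := hex (y ≫ snd _ _) (y ≫ fst _ _)
      refine ⟨lift (up h b) (y ≫ snd _ _), ?_⟩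
      ext1
      · rw [Category.assoc, lift_fst]
        apply hinj
        refine (hc (up h b) (y ≫ snd _ _)).trans ?_
        rw [dn_up, hb]
      · rw [Category.assoc, lift_snd, lift_snd]
  rw [isIso_iff_yoneda_map_bijective]
  exact h1

end K401.ActGen
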