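import Groth.Agent.AlgGrp.K401.Frob
import Groth.Agent.AlgGrp.K395.Pts
import Groth.Agent.Sga3B.KerGrp
import Groth.Agent.Books.AlgPtsGrp

/-!
# Homomorphisms to proper groups with affine kernel: transport along Frobenius data
-/

set_option autoImplicit false
open CategoryTheory MonoidalCategory CartesianMonoidalCategory MonObj GrpObj AlgebraicGeometry CategoryTheory.Limits
universe u

namespace K401.AffKer

open Groth.Agent.Sga3B.BcPts Groth.Agent.Sga3B K401.Frob

/-- `G` has a homomorphism to a proper group whose kernel is an affine scheme. -/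
def HasAK {S : Scheme.{u}} (G : Over S) [GrpObj G] : Prop :=
  ∃ (P : Over S) (_ : GrpObj P) (u : G ⟶ P), IsMonHom u ∧ IsProper P.hom ∧ IsAffine (KerGrp.kerObj u).left

variable {S S' : Scheme.{u}} {f : S' ⟶ S} (D : Data f)

lemma isAffineHom_φ [IsSeparated f] (G : Over S) : IsAffineHom (D.φ G).left := by
  have h1 : IsAffineHom ((D.φ G).left ≫ pullback.fst G.hom f) := by
    rw [D.φ_left_fst]
    have := D.integral G.hom
    infer_instance
  exact MorphismProperty.of_postcomp (W := @IsAffineHom) (W' := @IsSeparated) _ (pullback.fst G.hom f)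
    inferInstance h1

section hom

variable {G : Over S} [GrpObj G] {G' : Over S'} [GrpObj G'] (j : G' ⟶ Red.bc f G) [IsMonHom j] [Mono j]
  (φ' : (Over.map D.σ).obj G ⟶ G') (hφ : φ' ≫ j = D.φ G)

include hφ in
lemma rho_mul {T : Over S} (x y : T ⟶ G) :
    (Over.map D.σ).map (x * y) ≫ φ' = ((Over.map D.σ).map x ≫ φ') * ((Over.map D.σ).map y ≫ φ') := by
  rw [← cancel_mono j, MonObj.mul_comp, Category.assoc, Category.assoc, Category.assoc, hφ, ← D.θ_eq,
    ← D.θ_eq, ← D.θ_eq, D.θ_mul]

/-- The homomorphism `G ⟶ σ^* Q`. -/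
noncomputable def desc {Q : Over S'} (q : G' ⟶ Q) : G ⟶ Red.bc D.σ Q :=
  bcEquiv D.σ G Q (φ' ≫ q)

lemma comp_desc {Q : Over S'} (q : G' ⟶ Q) {T : Over S} (x : T ⟶ G) :
    x ≫ desc D φ' q = bcEquiv D.σ T Q (((Over.map D.σ).map x ≫ φ') ≫ q) := by
  rw [desc, Category.assoc, comp_bcEquiv]

include hφ in
lemma isMonHom_desc {Q : Over S'} [GrpObj Q] (q : G' ⟶ Q) [IsMonHom q] : IsMonHom (desc D φ' q) := by
  apply K395.Pts.isMonHom_of_pts
  intro T x y
  rw [comp_desc, comp_desc, comp_desc, ← bcEquiv_mul, rho_mul D j φ' hφ, MonObj.mul_comp]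

lemma desc_eq_one_iff {Q : Over S'} [GrpObj Q] (q : G' ⟶ Q) {T : Over S} (x : T ⟶ G) :
    x ≫ desc D φ' q = 1 ↔ ((Over.map D.σ).map x ≫ φ') ≫ q = 1 := by
  rw [comp_desc, ← bcEquiv_one (f := D.σ)]
  exact (bcEquiv D.σ T Q).injective.eq_iff

include hφ in
/-- Descent of `HasAK`. -/
theorem hasAK_of_data [IsAffineHom φ'.left] (h : HasAK G') : HasAK G := by
  obtain ⟨Q, _, q, hq, hQ, hK⟩ := h
  refine ⟨Red.bc D.σ Q, inferInstance, desc D φ' q, isMonHom_desc D j φ' hφ q,
    inferInstanceAs (IsProper (pullback.snd Q.hom D.σ)), ?_⟩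
  have hP : IsProper (Red.bc D.σ Q).hom := inferInstanceAs (IsProper (pullback.snd Q.hom D.σ))
  let u := desc D φ' q
  let A : Scheme.{u} := pullback φ'.left (KerGrp.kerι q).left
  have hA : IsAffine A := isAffine_of_isAffineHom (pullback.snd φ'.left (KerGrp.kerι q).left)
  -- the kernel maps to the kernel
  obtain ⟨t, ht⟩ := KerGrp.exists_lift q ((Over.map D.σ).map (KerGrp.kerι u) ≫ φ') (by
    rw [← desc_eq_one_iff D φ' q, KerGrp.kerι_comp])
  have e : (KerGrp.kerι u).left ≫ φ'.left = t.left ≫ (KerGrp.kerι q).left :=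
    (congrArg Over.Hom.left ht).symm
  let a : (KerGrp.kerObj u).left ⟶ A := pullback.lift (KerGrp.kerι u).left t.left e
  have ha : a ≫ pullback.fst φ'.left (KerGrp.kerι q).left = (KerGrp.kerι u).left := pullback.lift_fst _ _ _
  have hcl : IsClosedImmersion (a ≫ pullback.fst φ'.left (KerGrp.kerι q).left) := by
    rw [ha]; infer_instance
  have hcl' : IsClosedImmersion a := IsClosedImmersion.of_comp a (pullback.fst φ'.left (KerGrp.kerι q).left)
  exact isAffine_of_isAffineHom a

end hom

/-- Descent of `HasAK` along a Frobenius datum. -/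
theorem hasAK_of_bc [IsSeparated f] (D : Data f) {G : Over S} [GrpObj G] (h : HasAK (Red.bc f G)) :
    HasAK G := by
  have := isAffineHom_φ D G
  exact hasAK_of_data D (𝟙 (Red.bc f G)) (D.φ G) (Category.comp_id _) h

/-- Descent of `HasAK` along a Frobenius datum such that `φ` factors through a closed subgroup. -/
theorem hasAK_of_factor [IsSeparated f] (D : Data f) {G : Over S} [GrpObj G] {G' : Over S'} [GrpObj G']
    (j : G' ⟶ Red.bc f G) [IsMonHom j] [IsClosedImmersion j.left] (φ' : (Over.map D.σ).obj G ⟶ G')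
    (hφ : φ' ≫ j = D.φ G) (h : HasAK G') : HasAK G := by
  have hj : Mono j := Over.mono_of_mono_left j
  have h1 := isAffineHom_φ D G
  have h2 : IsAffineHom (φ'.left ≫ j.left) := by
    have : φ'.left ≫ j.left = (D.φ G).left := congrArg Over.Hom.left hφ
    rw [this]; exact h1
  have h3 : IsAffineHom φ'.left :=
    MorphismProperty.of_postcomp (W := @IsAffineHom) (W' := @IsSeparated) φ'.left j.left inferInstance h2
  exact hasAK_of_data D j φ' hφ h

end K401.AffKer
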