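import Groth.Agent.AlgGrp.K401.Compact
import Groth.Agent.AlgGrp.K395.Dense
import Groth.Agent.Ega2.Normal

/-!
# The action of `G × G` on `G` by left and right translations

* `biAct G`: `(g, h) · x = g x h⁻¹`; `isQuotient_biAct`: `G = (G × G) / diagonal`.
* `left a`, `right a`: the two commuting actions of `G` deduced from an action of `G × G`.
* `isIntegral_of_ker`: a scheme with a quasi-compact schematically dominant morphism from an integral scheme is integral.
-/

set_option autoImplicit false
set_option linter.unusedSectionVars false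
universe u
open CategoryTheory MonoidalCategory CartesianMonoidalCategory MonObj GrpObj AlgebraicGeometry CategoryTheory.Limits

namespace K401.BiAct

open K401.Compact

theorem isIntegral_of_ker {X Y : Scheme.{u}} (f : X ⟶ Y) [QuasiCompact f] [IsIntegral X] (h : f.ker = ⊥) :
    IsIntegral Y := by
  have h1 : IsIntegral f.image := Groth.Agent.Ega2.Normal.isIntegral_image f
  have h2 : IsIso f.imageι := by
    rw [Scheme.isIso_subschemeι_iff_eq_bot]
    exact h
  have h3 : Nonempty Y := ⟨f (Classical.arbitrary X)⟩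
  exact isIntegral_of_isOpenImmersion (inv f.imageι)

variable {S : Scheme.{u}}

section act
variable (G : Over S) [GrpObj G]

theorem lift_bi {T : Over S} (t : T ⟶ G ⊗ G) (x : T ⟶ G) :
    lift t x ≫ ((fst (G ⊗ G) G ≫ fst G G) * snd (G ⊗ G) G * (fst (G ⊗ G) G ≫ snd G G)⁻¹) =
      (t ≫ fst G G) * x * (t ≫ snd G G)⁻¹ := by
  rw [MonObj.comp_mul, MonObj.comp_mul, GrpObj.comp_inv, lift_snd, lift_fst_assoc, lift_fst_assoc]

instance isMonHom_fst : IsMonHom (fst G G) where
instance isMonHom_snd : IsMonHom (snd G G) where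

theorem mul_fst {T : Over S} (g h : T ⟶ G ⊗ G) : (g * h) ≫ fst G G = (g ≫ fst G G) * (h ≫ fst G G) :=
  MonObj.mul_comp _ _ _

theorem mul_snd {T : Over S} (g h : T ⟶ G ⊗ G) : (g * h) ≫ snd G G = (g ≫ snd G G) * (h ≫ snd G G) :=
  MonObj.mul_comp _ _ _

theorem inv_fst {T : Over S} (g : T ⟶ G ⊗ G) : (g⁻¹) ≫ fst G G = (g ≫ fst G G)⁻¹ := GrpObj.inv_comp _ _

theorem inv_snd {T : Over S} (g : T ⟶ G ⊗ G) : (g⁻¹) ≫ snd G G = (g ≫ snd G G)⁻¹ := GrpObj.inv_comp _ _

theorem one_fst {T : Over S} : (1 : T ⟶ G ⊗ G) ≫ fst G G = 1 := MonObj.one_comp _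

theorem one_snd {T : Over S} : (1 : T ⟶ G ⊗ G) ≫ snd G G = 1 := MonObj.one_comp _

/-- The action of `G × G` on `G`, `(g, h) · x = g x h⁻¹`. -/
noncomputable def biAct : AlgGrp.Action (G ⊗ G) G :=
  mkAct ((fst (G ⊗ G) G ≫ fst G G) * snd (G ⊗ G) G * (fst (G ⊗ G) G ≫ snd G G)⁻¹)
    (fun T x => by rw [lift_bi, one_fst, one_snd, inv_one, _root_.mul_one, _root_.one_mul])
    (fun T g h x => by
      rw [lift_bi, lift_bi, lift_bi, mul_fst, mul_snd, _root_.mul_inv_rev]; group)

theorem lift_biAct {T : Over S} (t : T ⟶ G ⊗ G) (x : T ⟶ G) :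
    lift t x ≫ (biAct G).act = (t ≫ fst G G) * x * (t ≫ snd G G)⁻¹ := lift_bi G t x

/-- The diagonal homomorphism. -/
noncomputable abbrev diag : G ⟶ G ⊗ G := lift (𝟙 G) (𝟙 G)

instance isMonHom_diag : IsMonHom (diag G) where
  one_hom := by
    apply CartesianMonoidalCategory.hom_ext
    · rw [Category.assoc, lift_fst, Category.comp_id, IsMonHom.one_hom]
    · rw [Category.assoc, lift_snd, Category.comp_id, IsMonHom.one_hom]
  mul_hom := by
    apply CartesianMonoidalCategory.hom_ext
    · rw [Category.assoc, lift_fst, Category.comp_id, Category.assoc, IsMonHom.mul_hom,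
        MonoidalCategory.tensorHom_comp_tensorHom_assoc, lift_fst, tensorHom_id, id_whiskerRight, Category.id_comp]
    · rw [Category.assoc, lift_snd, Category.comp_id, Category.assoc, IsMonHom.mul_hom,
        MonoidalCategory.tensorHom_comp_tensorHom_assoc, lift_snd, tensorHom_id, id_whiskerRight, Category.id_comp]

theorem orbitMap_biAct : (biAct G).orbitMap η[G] = fst G G * (snd G G)⁻¹ := by
  rw [AlgGrp.Action.orbitMap, lift_biAct, Category.id_comp, Category.id_comp]
  have h1 : toUnit (G ⊗ G) ≫ η[G] = 1 := rfl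
  rw [h1, _root_.mul_one]

/-- `(a, b) ↦ (a b⁻¹, b)`. -/
noncomputable def shear : G ⊗ G ≅ G ⊗ G where
  hom := lift (fst G G * (snd G G)⁻¹) (snd G G)
  inv := lift (fst G G * snd G G) (snd G G)
  hom_inv_id := by
    apply CartesianMonoidalCategory.hom_ext
    · rw [Category.assoc, lift_fst, MonObj.comp_mul, lift_fst, lift_snd, Category.id_comp]; group
    · rw [Category.assoc, lift_snd, lift_snd, Category.id_comp]
  inv_hom_id := by
    apply CartesianMonoidalCategory.hom_ext
    · rw [Category.assoc, lift_fst, MonObj.comp_mul, GrpObj.comp_inv, lift_fst, lift_snd, Category.id_comp]; group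
    · rw [Category.assoc, lift_snd, lift_snd, Category.id_comp]

theorem orbitMap_eq_shear : (biAct G).orbitMap η[G] = (shear G).hom ≫ fst G G := by
  rw [orbitMap_biAct]; exact (lift_fst _ _).symm

theorem isQuotient_biAct [LocallyOfFiniteType G.hom] [Flat G.hom] :
    AGF.IsQuotient (diag G) G (biAct G) η[G] := by
  have h1 : IsIso (shear G).hom.left := inferInstance
  have hs : Surjective G.hom := by
    have h2 : η[G].left ≫ G.hom = 𝟙 _ := Over.w _
    have h3 : Surjective (η[G].left ≫ G.hom) := by rw [h2]; infer_instance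
    exact Surjective.of_comp η[G].left G.hom
  have h2 : Flat (fst G G).left := by
    have : (fst G G).left = pullback.fst G.hom G.hom := rfl
    rw [this]; infer_instance
  have h3 : Surjective (fst G G).left := by
    have : (fst G G).left = pullback.fst G.hom G.hom := rfl
    rw [this]; infer_instance
  refine ⟨inferInstance, ?_, ?_, ?_⟩
  · rw [orbitMap_eq_shear, Over.comp_left]; infer_instance
  · rw [orbitMap_eq_shear, Over.comp_left]; infer_instance
  · have key : ∀ {T : Over S} (x : T ⟶ G ⊗ G), x ≫ (biAct G).orbitMap η[G] = (x ≫ fst G G) * (x ≫ snd G G)⁻¹ := by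
      intro T x
      rw [orbitMap_biAct, MonObj.comp_mul, GrpObj.comp_inv]
    have key2 : ∀ {T : Over S} (x : T ⟶ G ⊗ G) (g : T ⟶ G), lift x g ≫ ((G ⊗ G) ◁ diag G) ≫ μ[G ⊗ G] =
        x * lift g g := by
      intro T x g
      rw [Hom.mul_def, lift_whiskerLeft_assoc, comp_lift, Category.comp_id]
    refine ⟨⟨?_⟩, ⟨PullbackCone.IsLimit.mk _ (fun s => lift s.fst ((s.fst ≫ snd G G)⁻¹ * (s.snd ≫ snd G G)))
      (fun s => lift_fst _ _) (fun s => ?_) (fun s m h1 h2 => ?_)⟩⟩
    · have h4 := key2 (fst (G ⊗ G) G) (snd (G ⊗ G) G)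
      rw [lift_fst_snd, Category.id_comp] at h4
      rw [key, h4, key, mul_fst, mul_snd, lift_fst, lift_snd]; group
    · have h5 := s.condition
      rw [key, key] at h5
      rw [key2]
      apply CartesianMonoidalCategory.hom_ext
      · rw [mul_fst, lift_fst]
        rw [eq_mul_inv_iff_mul_eq] at h5
        rw [← h5]; group
      · rw [mul_snd, lift_snd]; group
    · apply CartesianMonoidalCategory.hom_ext
      · rw [lift_fst]; exact h1
      · rw [lift_snd, ← h1, ← h2]
        have h6 : m = lift (m ≫ fst (G ⊗ G) G) (m ≫ snd (G ⊗ G) G) := by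
          apply CartesianMonoidalCategory.hom_ext
          · rw [lift_fst]
          · rw [lift_snd]
        have h7 : m ≫ ((G ⊗ G) ◁ diag G) ≫ μ[G ⊗ G] = (m ≫ fst (G ⊗ G) G) * lift (m ≫ snd (G ⊗ G) G) (m ≫ snd (G ⊗ G) G) := by
          conv_lhs => rw [h6]
          rw [key2]
        rw [h7, mul_snd, lift_snd]; group

end act

section lr
variable {G X : Over S} [GrpObj G] (a : AlgGrp.Action (G ⊗ G) X)

theorem act_one' {T : Over S} (x : T ⟶ X) : lift 1 x ≫ a.act = x := by
  have h1 := congrArg (lift (toUnit T) x ≫ ·) a.one_act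
  simp only [lift_whiskerRight_assoc, leftUnitor_hom, lift_snd] at h1
  exact h1

theorem act_mul' {T : Over S} (g h : T ⟶ G ⊗ G) (x : T ⟶ X) :
    lift (g * h) x ≫ a.act = lift g (lift h x ≫ a.act) ≫ a.act := by
  have h1 := congrArg (lift (lift g h) x ≫ ·) a.mul_act
  simp only [lift_whiskerRight_assoc] at h1
  rw [← Hom.mul_def] at h1
  rw [h1, lift_lift_associator_hom_assoc, lift_whiskerLeft_assoc]

theorem lift_one_one {T : Over S} : lift (1 : T ⟶ G) (1 : T ⟶ G) = 1 := by
  apply CartesianMonoidalCategory.hom_ext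
  · rw [lift_fst, one_fst]
  · rw [lift_snd, one_snd]

/-- The action of the first factor. -/
noncomputable def left : AlgGrp.Action G X :=
  mkAct (lift (lift (fst G X) 1) (snd G X) ≫ a.act)
    (fun T x => by
      rw [comp_lift_assoc, comp_lift, lift_fst, lift_snd, MonObj.comp_one, lift_one_one]
      exact act_one' a x)
    (fun T g h x => by
      rw [comp_lift_assoc, comp_lift, lift_fst, lift_snd, MonObj.comp_one, comp_lift_assoc, comp_lift, lift_fst,
        lift_snd, MonObj.comp_one, comp_lift_assoc, comp_lift, lift_fst, lift_snd, MonObj.comp_one, ← act_mul']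
      congr 2
      apply CartesianMonoidalCategory.hom_ext
      · rw [mul_fst, lift_fst, lift_fst, lift_fst]
      · rw [mul_snd, lift_snd, lift_snd, lift_snd, _root_.mul_one])

/-- The action of the second factor. -/
noncomputable def right : AlgGrp.Action G X :=
  mkAct (lift (lift 1 (fst G X)) (snd G X) ≫ a.act)
    (fun T x => by
      rw [comp_lift_assoc, comp_lift, lift_fst, lift_snd, MonObj.comp_one, lift_one_one]
      exact act_one' a x)
    (fun T g h x => by
      rw [comp_lift_assoc, comp_lift, lift_fst, lift_snd, MonObj.comp_one, comp_lift_assoc, comp_lift, lift_fst,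
        lift_snd, MonObj.comp_one, comp_lift_assoc, comp_lift, lift_fst, lift_snd, MonObj.comp_one, ← act_mul']
      congr 2
      apply CartesianMonoidalCategory.hom_ext
      · rw [mul_fst, lift_fst, lift_fst, lift_fst, _root_.mul_one]
      · rw [mul_snd, lift_snd, lift_snd, lift_snd])

theorem lift_left {T : Over S} (g : T ⟶ G) (x : T ⟶ X) : lift g x ≫ (left a).act = lift (lift g 1) x ≫ a.act := by
  change lift g x ≫ lift (lift (fst G X) 1) (snd G X) ≫ a.act = _
  rw [comp_lift_assoc, comp_lift, lift_fst, lift_snd, MonObj.comp_one]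

theorem lift_right {T : Over S} (g : T ⟶ G) (x : T ⟶ X) : lift g x ≫ (right a).act = lift (lift 1 g) x ≫ a.act := by
  change lift g x ≫ lift (lift 1 (fst G X)) (snd G X) ≫ a.act = _
  rw [comp_lift_assoc, comp_lift, lift_fst, lift_snd, MonObj.comp_one]

theorem left_right {T : Over S} (g h : T ⟶ G) (x : T ⟶ X) :
    lift g (lift h x ≫ (right a).act) ≫ (left a).act = lift (lift g h) x ≫ a.act := by
  rw [lift_left, lift_right, ← act_mul']
  congr 2
  apply CartesianMonoidalCategory.hom_ext
  · rw [mul_fst, lift_fst, lift_fst, lift_fst, _root_.mul_one]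
  · rw [mul_snd, lift_snd, lift_snd, lift_snd, _root_.one_mul]

theorem right_left {T : Over S} (g h : T ⟶ G) (x : T ⟶ X) :
    lift h (lift g x ≫ (left a).act) ≫ (right a).act = lift (lift g h) x ≫ a.act := by
  rw [lift_left, lift_right, ← act_mul']
  congr 2
  apply CartesianMonoidalCategory.hom_ext
  · rw [mul_fst, lift_fst, lift_fst, lift_fst, _root_.one_mul]
  · rw [mul_snd, lift_snd, lift_snd, lift_snd, _root_.mul_one]

end lr

end K401.BiAct
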