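import Groth.Agent.AbSch.K448.Rigidity
import Groth.Agent.Books.BorelOrb
import Groth.Agent.Books.AlgPts
import Groth.Agent.Books.AntiAffine
import Groth.Agent.Sga3C.GrpIrr
import Groth.Agent.Pi1A.SteinEtale
import Groth.Agent.S3567

/-!
# Blanchard's lemma

`f : X ⟶ Y` proper with `O_Y = f_* O_X` over a field `k`, `G` a connected `k`-group scheme of finite type
acting on `X`.  Then the action descends to `Y`.  Nothing is assumed separated or reduced.
-/

set_option autoImplicit false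
universe u

open CategoryTheory MonoidalCategory CartesianMonoidalCategory MonObj GrpObj AlgebraicGeometry Limits
open Groth.Agent.Books.BorelOrb K448.Rigidity Groth.Agent.Books.AntiAffine

namespace K401.Blanchard

theorem surjective_of_isIso_app {A B : Scheme.{u}} (f : A ⟶ B) (hcl : IsClosed (Set.range f))
    (hf : ∀ U : B.Opens, IsIso (f.app U)) : Surjective f := by
  refine ⟨fun y => ?_⟩
  by_contra hy
  let U : B.Opens := ⟨(Set.range f)ᶜ, hcl.isOpen_compl⟩
  have hyU : y ∈ U := hy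
  have hne : Nonempty U := ⟨⟨y, hyU⟩⟩
  have h1 : Nontrivial Γ(B, U) := inferInstance
  have h2 : f ⁻¹ᵁ U = ⊥ := by
    ext x
    simp only [TopologicalSpace.Opens.coe_bot, Set.mem_empty_iff_false, iff_false]
    intro hx
    exact hx ⟨x, rfl⟩
  have h3 : Subsingleton Γ(A, f ⁻¹ᵁ U) := by
    rw [h2]
    exact CommRingCat.subsingleton_of_isTerminal A.sheaf.isTerminalOfEmpty
  have := hf U
  have h4 : Function.Injective (f.app U).hom := (ConcreteCategory.bijective_of_isIso (f.app U)).1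
  exact not_subsingleton Γ(B, U) h4.subsingleton

section general

variable {S : Scheme.{u}} {G X Y : Over S} [GrpObj G] (f : X ⟶ Y) (a : AlgGrp.Action G X)

/-- The set of `(g, y)` such that `f ∘ g` is constant on the fibre of `f` at `y`. -/
abbrev Om : Set (G ⊗ Y).left := collapsed (G ◁ f).left (a.act ≫ f).left

theorem eq_of_mem (hcl : IsClosedMap (G ◁ f).left) [Surjective (G ◁ f).left]
    (hO : ∀ V : (G ⊗ Y).left.Opens, IsIso ((G ◁ f).left.app V)) {T : Over S} [Subsingleton T.left]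
    (t₀ : T.left) (g : T ⟶ G) (x₁ x₂ : T ⟶ X) (hx : x₁ ≫ f = x₂ ≫ f)
    (hm : (lift g (x₁ ≫ f)).left t₀ ∈ Om f a) : sm a g x₁ ≫ f = sm a g x₂ ≫ f := by
  obtain ⟨U, htU, k, hk⟩ := exists_nhd (G ◁ f).left hcl hO (a.act ≫ f).left _ hm
  have hp : ∀ x : T ⟶ X, lift g x ≫ (G ◁ f) = lift g (x ≫ f) := by intro x; simp
  have key : ∀ (x : T ⟶ X), x ≫ f = x₁ ≫ f → ∃ l : T.left ⟶ ((G ◁ f).left ⁻¹ᵁ U),
      l ≫ ((G ◁ f).left ⁻¹ᵁ U).ι = (lift g x).left := by
    intro x hx'
    have hr : Set.range (lift g x).left ⊆ Set.range ((G ◁ f).left ⁻¹ᵁ U).ι := by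
      rintro _ ⟨t, rfl⟩
      rw [Scheme.Opens.range_ι]
      change (G ◁ f).left ((lift g x).left t) ∈ U
      rw [← Scheme.Hom.comp_apply, ← Over.comp_left, hp, hx', Subsingleton.elim t t₀]
      exact htU
    exact ⟨IsOpenImmersion.lift _ _ hr, IsOpenImmersion.lift_fac _ _ _⟩
  obtain ⟨l₁, hl₁⟩ := key x₁ rfl
  obtain ⟨l₂, hl₂⟩ := key x₂ hx.symm
  have h12 : l₁ ≫ ((G ◁ f).left ∣_ U) = l₂ ≫ ((G ◁ f).left ∣_ U) := by
    rw [← cancel_mono U.ι, Category.assoc, Category.assoc, morphismRestrict_ι, ← Category.assoc,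
      ← Category.assoc, hl₁, hl₂, ← Over.comp_left, ← Over.comp_left, hp, hp, hx]
  ext1
  have e : ∀ (x : T ⟶ X) (l : T.left ⟶ ((G ◁ f).left ⁻¹ᵁ U)), l ≫ ((G ◁ f).left ⁻¹ᵁ U).ι = (lift g x).left →
      (sm a g x ≫ f).left = l ≫ ((G ◁ f).left ∣_ U) ≫ k := by
    intro x l hl
    rw [← hk, ← Category.assoc, hl, ← Over.comp_left]
    rfl
  rw [e x₁ l₁ hl₁, e x₂ l₂ hl₂, ← Category.assoc, h12, Category.assoc]

theorem isPullback_unit : IsPullback (lift (1 : X ⟶ G) (𝟙 X)) f (G ◁ f) (lift (1 : Y ⟶ G) (𝟙 Y)) := by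
  refine ⟨⟨by ext1 <;> simp⟩, ⟨PullbackCone.IsLimit.mk _ (fun s => s.fst ≫ snd _ _) ?_ ?_ ?_⟩⟩
  · intro s
    have h1 := congr($(s.condition) ≫ fst _ _)
    simp only [Category.assoc, whiskerLeft_fst, lift_fst, comp_one] at h1
    ext1
    · simp [h1]
    · simp
  · intro s
    have h1 := congr($(s.condition) ≫ snd _ _)
    simpa using h1
  · intro s m h1 h2
    rw [← h1]
    simp

theorem unit_mem {T : Over S} (y : T ⟶ Y) (t : T.left) : (lift (1 : T ⟶ G) y).left t ∈ Om f a := by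
  have e : lift (1 : T ⟶ G) y = y ≫ lift (1 : Y ⟶ G) (𝟙 Y) := by ext1 <;> simp
  rw [e, Over.comp_left, Scheme.Hom.comp_apply]
  generalize y.left t = y₀
  have key : ∀ z : (G ⊗ X).left, (G ◁ f).left z = (lift (1 : Y ⟶ G) (𝟙 Y)).left y₀ → (a.act ≫ f).left z = y₀ := by
    intro z hz
    have hpb := (isPullback_unit (G := G) f).map (Over.forget _)
    obtain ⟨w, hw1, hw2⟩ : ∃ w : X.left, (lift (1 : X ⟶ G) (𝟙 X)).left w = z ∧ f.left w = y₀ := by
      obtain ⟨v, hv1, hv2⟩ := Scheme.Pullback.exists_preimage_pullback (f := (G ◁ f).left)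
        (g := (lift (1 : Y ⟶ G) (𝟙 Y)).left) z y₀ hz
      refine ⟨hpb.isoPullback.inv v, ?_, ?_⟩
      · change ((Over.forget _).map (lift (1 : X ⟶ G) (𝟙 X))) (hpb.isoPullback.inv v) = z
        rw [← Scheme.Hom.comp_apply, hpb.isoPullback_inv_fst]
        exact hv1
      · change ((Over.forget _).map f) (hpb.isoPullback.inv v) = y₀
        rw [← Scheme.Hom.comp_apply, hpb.isoPullback_inv_snd]
        exact hv2
    rw [← hw1, ← Scheme.Hom.comp_apply, ← Over.comp_left, ← Category.assoc]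
    have h3 : lift (1 : X ⟶ G) (𝟙 X) ≫ a.act = 𝟙 X := one_sm a (𝟙 X)
    rw [h3, Category.id_comp, hw2]
  rintro _ ⟨z, hz, rfl⟩ _ ⟨z', hz', rfl⟩
  rw [key z hz, key z' hz']

end general

section field

variable {k : Type u} [Field k] {G X Y : Over (Spec (CommRingCat.of k))} [GrpObj G] (f : X ⟶ Y) (a : AlgGrp.Action G X)

theorem irreducibleSpace_tensor [LocallyOfFiniteType G.hom] [QuasiCompact G.hom] [ConnectedSpace G.left]
    (K : Type u) [Field K] (s : Spec (CommRingCat.of K) ⟶ Spec (CommRingCat.of k)) :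
    IrreducibleSpace (G ⊗ Over.mk s).left := by
  have : GrpObj (Over.mk G.hom) := inferInstanceAs (GrpObj G)
  have h := Groth.Agent.Sga3C.GrpIrr.geometricallyIrreducible_of_connectedSpace G.hom
  exact h.geometrically_irreducibleSpace s _ _ (IsPullback.of_hasPullback G.hom s)

/-- Translates of fibres are contained in fibres, on geometric points. -/
theorem sm_eq [LocallyOfFiniteType G.hom] [QuasiCompact G.hom] [ConnectedSpace G.left]
    (hcl : IsClosedMap (G ◁ f).left) [Surjective (G ◁ f).left]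
    (hO : ∀ V : (G ⊗ Y).left.Opens, IsIso ((G ◁ f).left.app V))
    (K : Type u) [Field K] [IsAlgClosed K] (s : Spec (CommRingCat.of K) ⟶ Spec (CommRingCat.of k))
    (g : Over.mk s ⟶ G) (x₁ x₂ : Over.mk s ⟶ X) (hx : x₁ ≫ f = x₂ ≫ f) : sm a g x₁ ≫ f = sm a g x₂ ≫ f := by
  let T : Over (Spec (CommRingCat.of k)) := Over.mk s
  have hsub : Subsingleton T.left := inferInstanceAs (Subsingleton (Spec (CommRingCat.of K)))
  let t₀ : T.left := (IsLocalRing.closedPoint K : Spec (CommRingCat.of K))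
  have hirr := irreducibleSpace_tensor (G := G) K s
  let α : G ⊗ T ⟶ G ⊗ Y := lift (fst G T * (snd G T ≫ g)) (snd G T ≫ x₁ ≫ f)
  let β : G ⊗ T ⟶ G ⊗ Y := lift (fst G T)⁻¹ (sm a (fst G T * (snd G T ≫ g)) (snd G T ≫ x₁) ≫ f)
  have hop : IsOpen (Om f a) := isOpen_collapsed _ hcl hO _
  have hA : IsOpen (α.left ⁻¹' Om f a) := hop.preimage α.left.continuous
  have hB : IsOpen (β.left ⁻¹' Om f a) := hop.preimage β.left.continuous
  have hα : ∀ u : T ⟶ G, lift u (𝟙 T) ≫ α = lift (u * g) (x₁ ≫ f) := by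
    intro u
    ext1
    · simp [α, comp_mul]
    · simp [α]
  have hβ : ∀ u : T ⟶ G, lift u (𝟙 T) ≫ β = lift u⁻¹ (sm a (u * g) x₁ ≫ f) := by
    intro u
    ext1
    · simp [β, GrpObj.comp_inv]
    · simp only [β, comp_lift, lift_snd, ← Category.assoc, comp_sm, comp_mul, lift_fst, Category.id_comp]
  have hAne : (α.left ⁻¹' Om f a).Nonempty := by
    refine ⟨(lift g⁻¹ (𝟙 T)).left t₀, ?_⟩
    change α.left ((lift g⁻¹ (𝟙 T)).left t₀) ∈ Om f a
    rw [← Scheme.Hom.comp_apply, ← Over.comp_left, hα, inv_mul_cancel]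
    exact unit_mem f a _ _
  have hBne : (β.left ⁻¹' Om f a).Nonempty := by
    refine ⟨(lift 1 (𝟙 T)).left t₀, ?_⟩
    change β.left ((lift 1 (𝟙 T)).left t₀) ∈ Om f a
    rw [← Scheme.Hom.comp_apply, ← Over.comp_left, hβ, inv_one]
    exact unit_mem f a _ _
  have hAB := nonempty_preirreducible_inter hA hB hAne hBne
  let X' : Over (Spec (CommRingCat.of K)) := Over.mk (snd G T).left
  have hft : LocallyOfFiniteType X'.hom :=
    inferInstanceAs (LocallyOfFiniteType (pullback.snd G.hom s))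
  obtain ⟨c, hc⟩ := Groth.Agent.Books.AlgPts.exists_pt_mem (X := X') hAB (hA.inter hB).isLocallyClosed
  have hcw : c.left ≫ (snd G T).left = 𝟙 _ := Over.w c
  let u' : T ⟶ G ⊗ T := Over.homMk c.left (by
    have h1 : (snd G T).left ≫ T.hom = (G ⊗ T).hom := Over.w _
    rw [← h1, ← Category.assoc, hcw]
    exact Category.id_comp _)
  have hu2 : u' ≫ snd G T = 𝟙 T := by
    ext1
    exact hcw
  have hu' : u' = lift (u' ≫ fst G T) (𝟙 T) := by
    ext1
    · simp
    · simp [hu2]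
  have hpt : Groth.Agent.Books.AlgPts.pt c = u'.left t₀ := rfl
  rw [hpt] at hc
  generalize hu : u' ≫ fst G T = u at hu'
  rw [hu'] at hc
  obtain ⟨hc1, hc2⟩ := hc
  change α.left ((lift u (𝟙 T)).left t₀) ∈ Om f a at hc1
  change β.left ((lift u (𝟙 T)).left t₀) ∈ Om f a at hc2
  rw [← Scheme.Hom.comp_apply, ← Over.comp_left, hα] at hc1
  rw [← Scheme.Hom.comp_apply, ← Over.comp_left, hβ] at hc2
  have h1 := eq_of_mem f a hcl hO t₀ (u * g) x₁ x₂ hx hc1
  have h2 := eq_of_mem f a hcl hO t₀ u⁻¹ (sm a (u * g) x₁) (sm a (u * g) x₂) h1 hc2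
  rwa [← mul_sm, ← mul_sm, inv_mul_cancel_left] at h2

/-- `f ∘ a` is constant on the fibres of `G × f`. -/
theorem collapse_all [LocallyOfFiniteType G.hom] [QuasiCompact G.hom] [ConnectedSpace G.left]
    (hcl : IsClosedMap (G ◁ f).left) [Surjective (G ◁ f).left]
    (hO : ∀ V : (G ⊗ Y).left.Opens, IsIso ((G ◁ f).left.app V)) (z₁ z₂ : (G ⊗ X).left)
    (h : (G ◁ f).left z₁ = (G ◁ f).left z₂) : (a.act ≫ f).left z₁ = (a.act ≫ f).left z₂ := by
  obtain ⟨w, hw1, hw2⟩ := Scheme.Pullback.exists_preimage_pullback (f := (G ◁ f).left)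
        (g := (G ◁ f).left) z₁ z₂ h
  let P := pullback (G ◁ f).left (G ◁ f).left
  let K := AlgebraicClosure (P.residueField w)
  let ζ : Spec (CommRingCat.of K) ⟶ P := Spec.map (CommRingCat.ofHom (algebraMap (P.residueField w) K)) ≫
    P.fromSpecResidueField w
  let t₀ : Spec (CommRingCat.of K) := IsLocalRing.closedPoint K
  have hζ : ζ t₀ = w := by
    simp only [ζ, Scheme.Hom.comp_apply]
    exact Scheme.fromSpecResidueField_apply _ _
  let s : Spec (CommRingCat.of K) ⟶ Spec (CommRingCat.of k) := ζ ≫ pullback.fst _ _ ≫ (G ⊗ X).hom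
  let ζ₁ : Over.mk s ⟶ G ⊗ X := Over.homMk (ζ ≫ pullback.fst _ _) (by simp [s])
  have e2 : ζ ≫ pullback.snd (G ◁ f).left (G ◁ f).left ≫ (G ⊗ X).hom = s := by
    have h1 : (G ◁ f).left ≫ (G ⊗ Y).hom = (G ⊗ X).hom := Over.w _
    simp only [s]
    rw [← h1, pullback.condition_assoc]
  let ζ₂ : Over.mk s ⟶ G ⊗ X := Over.homMk (ζ ≫ pullback.snd _ _) (by
    rw [Category.assoc]
    exact e2)
  have h12 : ζ₁ ≫ (G ◁ f) = ζ₂ ≫ (G ◁ f) := by
    apply Over.OverMorphism.ext
    rw [Over.comp_left, Over.comp_left]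
    change (ζ ≫ pullback.fst _ _) ≫ (G ◁ f).left = (ζ ≫ pullback.snd _ _) ≫ (G ◁ f).left
    exact (Category.assoc _ _ _).trans ((congrArg (ζ ≫ ·) pullback.condition).trans (Category.assoc _ _ _).symm)
  have hg : ζ₁ ≫ fst G X = ζ₂ ≫ fst G X := by
    have := congr($h12 ≫ fst _ _)
    simpa using this
  have hx : (ζ₁ ≫ snd G X) ≫ f = (ζ₂ ≫ snd G X) ≫ f := by
    have := congr($h12 ≫ snd _ _)
    simpa using this
  have key := sm_eq f a hcl hO K s (ζ₁ ≫ fst G X) _ _ hx
  have h3 : ∀ z : Over.mk s ⟶ G ⊗ X, sm a (z ≫ fst G X) (z ≫ snd G X) ≫ f = z ≫ a.act ≫ f := by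
    intro z
    have : lift (z ≫ fst G X) (z ≫ snd G X) = z := by ext1 <;> simp
    rw [sm, this, Category.assoc]
  rw [h3, hg, h3] at key
  have h4 := congr(($key).left t₀)
  simp only [Over.comp_left, Scheme.Hom.comp_apply] at h4
  have h5 : ζ₁.left t₀ = z₁ := by
    change (ζ ≫ pullback.fst _ _) t₀ = z₁
    rw [Scheme.Hom.comp_apply, hζ, hw1]
  have h6 : ζ₂.left t₀ = z₂ := by
    change (ζ ≫ pullback.snd _ _) t₀ = z₂
    rw [Scheme.Hom.comp_apply, hζ, hw2]
  rw [h5, h6] at h4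
  simpa only [Over.comp_left, Scheme.Hom.comp_apply] using h4

theorem isIso_c_of_isIso_app {A B : Scheme.{u}} (f : A ⟶ B) (hf : ∀ U : B.Opens, IsIso (f.app U)) : IsIso f.c := by
  have : ∀ U, IsIso (f.c.app U) := fun U => hf U.unop
  exact NatIso.isIso_of_isIso_app f.c

variable [IsProper f.left] (hf : ∀ U : Y.left.Opens, IsIso (f.left.app U))

include hf

theorem whisker_props (T : Over (Spec (CommRingCat.of k))) :
    IsClosedMap (T ◁ f).left ∧ Surjective (T ◁ f).left ∧ (∀ V : (T ⊗ Y).left.Opens, IsIso ((T ◁ f).left.app V)) ∧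
    IsIso (T ◁ f).left.c ∧ Topology.IsQuotientMap (T ◁ f).left.base := by
  have h1 : IsProper (T ◁ f).left := whiskerLeft_left_mem @IsProper f T inferInstance
  have hcl : IsClosedMap (T ◁ f).left := (T ◁ f).left.isClosedMap
  have hO : ∀ V : (T ⊗ Y).left.Opens, IsIso ((T ◁ f).left.app V) := by
    have sq : IsPullback (snd T X).left (T ◁ f).left f.left (snd T Y).left :=
      ((isPullback_whiskerLeft f T).map (Over.forget _)).flip
    have hfl : Flat (snd T Y).left := by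
      have : (snd T Y).left = Limits.pullback.snd T.hom Y.hom := rfl
      rw [this]
      infer_instance
    intro U
    exact Groth.Agent.Pi1A.SteinEtale.isIso_app_of_flat sq hf U
  have hs : Surjective (T ◁ f).left := surjective_of_isIso_app _ hcl.isClosed_range hO
  exact ⟨hcl, hs, hO, isIso_c_of_isIso_app _ hO, hcl.isQuotientMap (T ◁ f).left.continuous hs.surj⟩

theorem cancel_whisker {T : Over (Spec (CommRingCat.of k))} {Z : Over (Spec (CommRingCat.of k))}
    {b c : T ⊗ Y ⟶ Z} (h : (T ◁ f) ≫ b = (T ◁ f) ≫ c) : b = c := by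
  obtain ⟨h1, h2, h3, h4, h5⟩ := whisker_props f hf T
  ext1
  exact (Groth.Agent.S3567.result (T ◁ f).left h5 Z.left).1 _ _ (by rw [← Over.comp_left, h, Over.comp_left])

/-- **Blanchard's lemma.** -/
theorem existsUnique_action [LocallyOfFiniteType G.hom] [QuasiCompact G.hom] [ConnectedSpace G.left] :
    ∃! b : AlgGrp.Action G Y, (G ◁ f) ≫ b.act = a.act ≫ f := by
  obtain ⟨h1, h2, h3, h4, h5⟩ := whisker_props f hf G
  obtain ⟨v, hv⟩ := (Groth.Agent.S3567.result (G ◁ f).left h5 Y.left).2 (a.act ≫ f).left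
    (collapse_all f a h1 h3)
  let b : G ⊗ Y ⟶ Y := Over.homMk v (by
    apply (Groth.Agent.S3567.result (G ◁ f).left h5 _).1
    rw [← Category.assoc, hv, Over.w, Over.w])
  have hb : (G ◁ f) ≫ b = a.act ≫ f := by
    ext1
    exact hv
  refine ⟨⟨b, ?_, ?_⟩, hb, ?_⟩
  · apply cancel_whisker f hf
    rw [← Category.assoc, whisker_exchange, Category.assoc, hb, ← Category.assoc, a.one_act]
    simp
  · apply cancel_whisker f hf
    rw [← Category.assoc, whisker_exchange, Category.assoc, hb, ← Category.assoc, a.mul_act]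
    simp only [Category.assoc]
    have e1 : (G ⊗ G) ◁ f ≫ (α_ G G Y).hom = (α_ G G X).hom ≫ G ◁ (G ◁ f) := by simp
    rw [← hb, ← Category.assoc ((G ⊗ G) ◁ f), e1, Category.assoc]
    congr 1
    rw [← Category.assoc (G ◁ a.act), ← Category.assoc (G ◁ (G ◁ f)), ← MonoidalCategory.whiskerLeft_comp,
      ← MonoidalCategory.whiskerLeft_comp, hb]
  · intro b' hb'
    have : b'.act = b := by
      apply cancel_whisker f hf
      rw [hb', hb]
    cases b'
    simp only at this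
    subst this
    rfl

end field

end K401.Blanchard
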