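import Groth.Agent.Sga3.H794.ChevKer
import Groth.Agent.Sga3B.RG.BrPts
import Groth.Agent.Sga3.H821.AffProper
import Groth.Agent.Ega2.SigmaMap
import Groth.Agent.S3030
import Groth.Agent.AlgGrp.K395.Pts

/-!
# Chevalley subgroup of a smooth, possibly non connected group over an algebraically closed field
-/

set_option autoImplicit false
open CategoryTheory MonoidalCategory CartesianMonoidalCategory MonObj GrpObj AlgebraicGeometry CategoryTheory.Limits
universe u

namespace K401.ChevSm

open Groth.Agent Groth.Agent.Books.AlgPts Groth.Agent.Books.AlgPtsGrp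

variable {K : Type u} [Field K] [IsAlgClosed K]

/-- A group covered by finitely many translates of the image of a proper scheme is proper. -/
theorem isProper_of_cosets {R C : Over (Spec (CommRingCat.of K))} [GrpObj R] [LocallyOfFiniteType R.hom]
    [IsSeparated R.hom] [IsProper C.hom] (ψ : C ⟶ R) {J : Type u} [Finite J]
    (y : J → (𝟙_ (Over (Spec (CommRingCat.of K))) ⟶ R))
    (h : ∀ x : 𝟙_ (Over (Spec (CommRingCat.of K))) ⟶ R, ∃ (i : J) (c : 𝟙_ (Over (Spec (CommRingCat.of K))) ⟶ C),
      x = (c ≫ ψ) * y i) : IsProper R.hom := by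
  let a : J → (C ⟶ R) := fun i => ψ * (toUnit C ≫ y i)
  let d : (∐ fun _ : J => C.left) ⟶ R.left := Sigma.desc (fun i => (a i).left)
  have hd : d ≫ R.hom = Sigma.desc (fun _ : J => C.hom) := by
    refine Limits.Sigma.hom_ext _ _ fun i => ?_
    rw [Sigma.ι_desc_assoc, Sigma.ι_desc, Over.w]
  have hp : IsProper (d ≫ R.hom) := by
    rw [hd]
    exact Ega2.SigmaMap.isProper_sigmaDesc _ fun _ => inferInstance
  have hp' : IsProper d := MorphismProperty.of_postcomp (W := @IsProper) (W' := @IsSeparated) d R.hom inferInstance hp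
  have hs : Surjective d := by
    refine ⟨fun z => ?_⟩
    have hc : IsClosed (Set.range d) := d.isClosedMap.isClosed_range
    refine subset_of_forall_pt (U := Set.univ) isOpen_univ.isLocallyClosed hc ?_ (Set.mem_univ z)
    intro x _
    obtain ⟨i, c, hx⟩ := h x
    have hx' : x = c ≫ a i := by
      rw [hx, MonObj.comp_mul, ← Category.assoc, toUnit_unique (c ≫ toUnit C) (𝟙 _), Category.id_comp]
    refine ⟨(Limits.Sigma.ι (fun _ : J => C.left) i) (pt c), ?_⟩
    rw [hx', pt_comp, ← Scheme.Hom.comp_apply, Sigma.ι_desc]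
  have huc : UniversallyClosed R.hom := by
    have : UniversallyClosed (d ≫ R.hom) := inferInstance
    exact UniversallyClosed.of_comp_surjective d R.hom
  exact { }

section

variable (G U L C : Over (Spec (CommRingCat.of K))) [GrpObj G] [GrpObj U] [GrpObj L] [GrpObj C]
  [Smooth G.hom] [QuasiCompact G.hom] (u : U ⟶ G) [IsMonHom u] [IsClosedImmersion u.left]
  (hu : Set.range u.left = connectedComponent (pt η[G])) [ConnectedSpace U.left] [Smooth U.hom]
  (l : L ⟶ U) [IsMonHom l] [IsClosedImmersion l.left] [IsAffine L.left] [Smooth L.hom] [ConnectedSpace L.left]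
  (q : U ⟶ C) [IsMonHom q] [Surjective q.left] [Flat q.left] (hk : AlgGrp.IsKernel l q) [IsProper C.hom]

include hu in
/-- Conjugation by a rational point preserves the identity component. -/
theorem exists_conj (g : 𝟙_ (Over (Spec (CommRingCat.of K))) ⟶ G) :
    ∃ c : U ⟶ U, IsMonHom c ∧ c ≫ u = (toUnit U ≫ g) * u * (toUnit U ≫ g)⁻¹ := by
  have hred : IsReduced U.left := Etcore.SmoothRed.isReduced_of_smooth U.hom
  have hmono : Mono u := mono_of_isClosedImmersion u
  let c0 : U ⟶ G := (toUnit U ≫ g) * u * (toUnit U ≫ g)⁻¹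
  have h1 : Set.range c0.left ⊆ Set.range u.left := by
    rw [hu]
    refine (isPreconnected_range c0.left.continuous).subset_connectedComponent ?_
    have h2 : η[U] ≫ c0 = η[G] := by
      simp only [c0]
      rw [MonObj.comp_mul, MonObj.comp_mul, GrpObj.comp_inv, IsMonHom.one_hom u, ← Category.assoc,
        toUnit_unique (η[U] ≫ toUnit U) (𝟙 _), Category.id_comp, one_eq_one, _root_.mul_one, mul_inv_cancel]
    rw [← h2, pt_comp]
    exact ⟨_, rfl⟩
  obtain ⟨c, hc⟩ := exists_lift u c0 h1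
  refine ⟨c, ?_, hc⟩
  apply K395.Pts.isMonHom_of_pts
  intro T x y
  have e1 : (x ≫ c * y ≫ c) ≫ u = ((x ≫ c) ≫ u) * ((y ≫ c) ≫ u) := MonObj.mul_comp _ _ _
  rw [← cancel_mono u, e1, Category.assoc, Category.assoc, Category.assoc, hc]
  have e : ∀ t : T ⟶ U, t ≫ c0 = (toUnit T ≫ g) * (t ≫ u) * (toUnit T ≫ g)⁻¹ := fun t => by
    simp only [c0, MonObj.comp_mul, GrpObj.comp_inv]
    rw [← Category.assoc t, toUnit_unique (t ≫ toUnit U) (toUnit T)]
  have e2 : (x * y) ≫ u = (x ≫ u) * (y ≫ u) := MonObj.mul_comp _ _ _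
  rw [e, e, e, e2]
  group

include hu hk in
theorem isNormalHom_comp : AlgGrp.IsNormalHom (l ≫ u) := by
  have hcl : IsClosedImmersion (l ≫ u).left := by
    rw [Over.comp_left]; infer_instance
  apply Sga3B.RG.BrPts.isNormalHom_of_points
  intro g n
  obtain ⟨c, hc, hcu⟩ := exists_conj G U u hu g
  have h1 : l ≫ c ≫ q = 1 := by
    have : IsMonHom (l ≫ c ≫ q) := inferInstance
    exact Sga3.H821.AffProper.hom_eq_one K L C (l ≫ c ≫ q)
  obtain ⟨n', hn'⟩ := K395.Pts.exists_of_comp_eq_one hk (n ≫ l ≫ c) (by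
    rw [Category.assoc, Category.assoc, h1, MonObj.comp_one])
  refine ⟨n', ?_⟩
  rw [← Category.assoc n', hn', Category.assoc, Category.assoc, hcu, MonObj.comp_mul, MonObj.comp_mul, GrpObj.comp_inv,
    MonObj.comp_mul, MonObj.comp_mul, GrpObj.comp_inv]
  have e : n ≫ l ≫ toUnit U ≫ g = g := by
    rw [← Category.assoc, ← Category.assoc, toUnit_unique ((n ≫ l) ≫ toUnit U) (𝟙 _), Category.id_comp]
  rw [e]

include hu hk in
theorem exists_quot : ∃ (Q : Over (Spec (CommRingCat.of K))) (_ : GrpObj Q) (p : G ⟶ Q), IsMonHom p ∧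
    Surjective p.left ∧ Flat p.left ∧ AlgGrp.IsKernel (l ≫ u) p ∧ IsProper Q.hom := by
  have hmono : Mono (l ≫ u) := by
    have := mono_of_isClosedImmersion l
    have := mono_of_isClosedImmersion u
    infer_instance
  have hcl : IsClosedImmersion (l ≫ u).left := by
    rw [Over.comp_left]; infer_instance
  have hN := isNormalHom_comp G U L C u hu l q hk
  have hq1 : QuasiCompact (l ≫ u).left := by
    rw [Over.comp_left]; infer_instance
  obtain ⟨Q, _, p, hp1, hp2, hp3, hp4, hp5, hp6, hp7, hp8⟩ := S3030.result K L G (l ≫ u) hN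
  refine ⟨Q, inferInstance, p, hp1, hp3, hp2, hp5, ?_⟩
  -- local finiteness of the quotient
  have hQs : Smooth Q.hom := hp8 inferInstance
  -- the map from `C`
  have hql : LocallyOfFiniteType q.left := by
    have : LocallyOfFiniteType (q.left ≫ C.hom) := by rw [Over.w]; infer_instance
    exact locallyOfFiniteType_of_comp q.left C.hom
  have hCn : IsLocallyNoetherian C.left := LocallyOfFiniteType.isLocallyNoetherian C.hom
  have hql' : LocallyOfFinitePresentation q.left :=
    LocallyOfFinitePresentation.iff_locallyOfFiniteType.mpr hql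
  obtain ⟨ψ, hψ1, hψ2⟩ := Sga3.H794.ChevKer.exists_desc_hom l q hk (u ≫ p) (by
    have := hp5.w
    rw [← Category.assoc, this]
    rw [Hom.one_def])
  -- cosets
  let r : Setoid (𝟙_ (Over (Spec (CommRingCat.of K))) ⟶ G) :=
    { r := fun x y => ∃ w : 𝟙_ (Over (Spec (CommRingCat.of K))) ⟶ U, w ≫ u = x * y⁻¹
      iseqv := ⟨fun x => ⟨1, by rw [MonObj.one_comp, mul_inv_cancel]⟩,
        fun {x y} ⟨w, hw⟩ => ⟨w⁻¹, by rw [GrpObj.inv_comp, hw]; group⟩,
        fun {x y z} ⟨w, hw⟩ ⟨w', hw'⟩ => ⟨w * w', by rw [MonObj.mul_comp, hw, hw']; group⟩⟩ }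
  have hfin : (Set.range (Quotient.mk r)).Finite :=
    Sga3.H794.ChevKer.finite_range u hu (Quotient.mk r) fun x y h => Quotient.sound h
  have hr : Set.range (Quotient.mk r) = Set.univ := Set.range_eq_univ.mpr fun z => Quotient.exists_rep z
  rw [hr] at hfin
  have hfin' : Finite (Quotient r) := Set.finite_univ_iff.mp hfin
  refine isProper_of_cosets ψ (J := Quotient r) (fun i => i.out ≫ p) fun x => ?_
  obtain ⟨x', hx'⟩ := exists_comp_eq_of_pt_mem_range p x (hp3.surj _)
  obtain ⟨w, hw⟩ : ∃ w : 𝟙_ (Over (Spec (CommRingCat.of K))) ⟶ U, w ≫ u = x' * (Quotient.mk r x').out⁻¹ :=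
    Quotient.exact (s := r) (Quotient.out_eq (Quotient.mk r x')).symm
  refine ⟨Quotient.mk r x', w ≫ q, ?_⟩
  rw [Category.assoc, hψ2, ← Category.assoc, hw, MonObj.mul_comp, GrpObj.inv_comp, hx', inv_mul_cancel_right]

end

end K401.ChevSm
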