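import Groth.Agent.Books.BorelOrb3

/-!
# Existence of a closed orbit, target not necessarily proper
-/

set_option autoImplicit false
universe u
open CategoryTheory MonoidalCategory CartesianMonoidalCategory MonObj GrpObj AlgebraicGeometry
open Groth.Agent.Books.BorelOrb Groth.Agent.Books.BorelOrb2 Groth.Agent.Books.BorelOrb3 TopologicalSpace

namespace K401.ClosedOrbit

variable {k : Type u} [Field k] [IsAlgClosed k]
variable {G X : Over (Spec (CommRingCat.of k))} [GrpObj G] (a : AlgGrp.Action G X)

theorem exists_orbit [LocallyOfFiniteType G.hom] [QuasiCompact G.hom] [IsReduced G.left]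
    [LocallyOfFiniteType X.hom] [QuasiCompact X.hom] [IsSeparated X.hom] [Nonempty X.left] :
    ∃ y : 𝟙_ (Over (Spec (CommRingCat.of k))) ⟶ X, Surjective (p a y) := by
  have hXn : IsLocallyNoetherian X.left := LocallyOfFiniteType.isLocallyNoetherian X.hom
  have hXc : CompactSpace X.left := QuasiCompact.compactSpace_of_compactSpace X.hom
  have hXn' : IsNoetherian X.left := {}
  have : JacobsonSpace X.left := LocallyOfFiniteType.jacobsonSpace X.hom
  have : JacobsonSpace G.left := LocallyOfFiniteType.jacobsonSpace G.hom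
  obtain ⟨Z, hZ1, hZ2, hZ3⟩ := exists_minimal a
  obtain ⟨z, hz1, hz2⟩ := nonempty_inter_closedPoints hZ1 Z.isClosed.isLocallyClosed
  obtain ⟨y, hy⟩ := exists_section X z hz2
  refine ⟨y, ?_⟩
  have h1 := quasiCompact_p a y
  have h2 := locallyOfFiniteType_p a y
  have h3 : IsLocallyNoetherian (Y a y) :=
    LocallyOfFiniteType.isLocallyNoetherian (inc a y ≫ X.hom)
  have h4 : Flat (p a y) := flat_p a y
  have hopen : IsOpen (Set.range (p a y)) := (p a y).isOpenMap.isOpen_range
  -- the image of the orbit map lies in `Z`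
  have hmem : ∀ g : G.left, (a.orbitMap y).left g ∈ Z := by
    by_contra! hne
    obtain ⟨g, hg⟩ := hne
    obtain ⟨c, hc1, hc2⟩ := nonempty_inter_closedPoints
      (Z := ((a.orbitMap y).left ⁻¹' (Z : Set X.left))ᶜ) ⟨g, hg⟩
      (Z.isClosed.preimage (a.orbitMap y).left.continuous).isOpen_compl.isLocallyClosed
    obtain ⟨c', hc'⟩ := exists_section G c hc2
    apply hc1
    have h := congrArg (fun f => f.left (IsLocalRing.closedPoint k)) (section_orbitMap a c' y)
    simp only [Over.comp_left, Scheme.Hom.comp_apply, hc', hy] at h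
    change (a.orbitMap y).left c ∈ Z
    rw [h]
    exact hZ2 c' z hz1
  have hrange : Set.range (inc a y) ⊆ Z := by
    have := quasiCompact_orbitMap a y
    rw [Scheme.IdealSheafData.range_subschemeι, Scheme.Hom.support_ker]
    refine closure_minimal ?_ Z.isClosed
    rintro _ ⟨g, rfl⟩
    exact hmem g
  have hemb : Topology.IsClosedEmbedding (inc a y) := (inc a y).isClosedEmbedding
  let T : Closeds X.left := ⟨inc a y '' (Set.range (p a y))ᶜ,
    hemb.isClosedMap _ hopen.isClosed_compl⟩
  have hTZ : T ≤ Z := by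
    rintro _ ⟨w, -, rfl⟩
    exact hrange ⟨w, rfl⟩
  have hTs : Stable a (T : Set X.left) := by
    rintro g _ ⟨w, hw, rfl⟩
    refine ⟨psi a y g w, ?_, ?_⟩
    · rintro ⟨v, hv⟩
      apply hw
      refine ⟨(ltr g⁻¹).left v, ?_⟩
      have h := p_psi a y g⁻¹
      rw [← Scheme.Hom.comp_apply, ← h, Scheme.Hom.comp_apply, hv, ← Scheme.Hom.comp_apply,
        psi_psi_inv]
      rfl
    · rw [← Scheme.Hom.comp_apply, psi_inc, Scheme.Hom.comp_apply]
  have hTne : ¬ (T : Set X.left).Nonempty := by
    intro hTn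
    have hTZ' := hZ3 T hTn hTs hTZ
    have hzT : z ∈ T := by
      rw [hTZ']
      exact hz1
    obtain ⟨w, hw, hwz⟩ := hzT
    apply hw
    let e : G.left := (1 : 𝟙_ (Over (Spec (CommRingCat.of k))) ⟶ G).left (IsLocalRing.closedPoint k)
    refine ⟨e, hemb.injective ?_⟩
    rw [hwz, ← Scheme.Hom.comp_apply, p_inc]
    have h := congrArg (fun f => f.left (IsLocalRing.closedPoint k)) (one_orbitMap a y)
    simp only [Over.comp_left, Scheme.Hom.comp_apply, hy] at h
    exact h
  constructor
  intro w
  by_contra hw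
  exact hTne ⟨inc a y w, w, hw, rfl⟩


theorem exists_isClosed_range_orbitMap [LocallyOfFiniteType G.hom] [QuasiCompact G.hom] [IsReduced G.left]
    [LocallyOfFiniteType X.hom] [QuasiCompact X.hom] [IsSeparated X.hom] [Nonempty X.left] :
    ∃ y : 𝟙_ (Over (Spec (CommRingCat.of k))) ⟶ X, IsClosed (Set.range (a.orbitMap y).left) := by
  obtain ⟨y, hy⟩ := exists_orbit a
  refine ⟨y, ?_⟩
  have h : Set.range (a.orbitMap y).left = Set.range (inc a y) := by
    rw [← p_inc a y]
    ext x
    constructor
    · rintro ⟨g, rfl⟩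
      exact ⟨p a y g, by rw [Scheme.Hom.comp_apply]⟩
    · rintro ⟨w, rfl⟩
      obtain ⟨g, rfl⟩ := hy.surj w
      exact ⟨g, by rw [Scheme.Hom.comp_apply]⟩
  rw [h]
  exact (inc a y).isClosedEmbedding.isClosed_range

end K401.ClosedOrbit
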