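import Groth.Agent.GIT.K690.TorsorTower
import Groth.Agent.GrpQ.K185.SubDesc

/-!
# Twisted forms inside a constant scheme; descent of an action along a torsor

* `exists_twist`: `π : R ⟶ Q` a torsor under `M`, `Y` an `M`-scheme, `F : R ⊗ Y ⟶ Z` an invariant morphism such that
  `(r, y) ↦ (r, F(r, y))` is a closed immersion.  Then there is a closed subscheme `W` of `Q ⊗ Z` with
  `R ⊗ Y = R ×_Q W`: the twisted form of `Y`.
* `exists_action_desc`: an action of `G` commuting with the action of `M` on the total space of a torsor descends.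
-/

set_option autoImplicit false
universe u
open CategoryTheory CategoryTheory.Limits MonoidalCategory CartesianMonoidalCategory
  AlgebraicGeometry

namespace K401.TwistDesc

open K690.LocSec K690.Torsor K690.TorsorTower K690.NormalTors K185.SubDesc AlgGrp.Action

section lsPred

variable {E X : Scheme.{u}} (Φ : E ⟶ X)

/-- The morphism `h` factors locally through `Φ`. -/
def LocFac ⦃T : Scheme.{u}⦄ (h : T ⟶ X) : Prop :=
  ∃ R : Presieve T, R ∈ Scheme.fpqcPrecoverage T ∧ ∀ ⦃T' : Scheme.{u}⦄ (g : T' ⟶ T), R g → ∃ e : T' ⟶ E, e ≫ Φ = g ≫ h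

theorem isFpqcLocal_locFac : IsFpqcLocal (LocFac Φ) where
  comp T T' g h := by
    rintro ⟨R, hR, H⟩
    obtain ⟨I, V, v, rfl⟩ := R.exists_eq_ofArrows
    refine ⟨_, Precoverage.mem_coverings_of_isPullback v hR g (fun i => pullback.fst g (v i))
      (fun i => pullback.snd g (v i)) (fun i => IsPullback.of_hasPullback _ _), ?_⟩
    rintro S' _ ⟨i⟩
    obtain ⟨e, he⟩ := H (v i) (Presieve.ofArrows.mk i)
    refine ⟨pullback.snd g (v i) ≫ e, ?_⟩
    rw [Category.assoc, he, pullback.condition_assoc]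
  loc T h R hR H := by
    obtain ⟨J, W, w, rfl⟩ := R.exists_eq_ofArrows
    have H' : ∀ j : J, LocFac Φ (w j ≫ h) := fun j => H (w j) (Presieve.ofArrows.mk j)
    choose R' hR' H'' using H'
    have h1 : ∀ j, ∃ (I : Type (u + 1)) (V : I → Scheme.{u}) (v : ∀ i, V i ⟶ W j), R' j = Presieve.ofArrows V v := by
      intro j
      obtain ⟨I, V, v, hv⟩ := (R' j).exists_eq_ofArrows
      exact ⟨I, V, v, hv⟩
    choose I V v hv using h1
    have h2 : ∀ j, Presieve.ofArrows (V j) (v j) ∈ Scheme.fpqcPrecoverage (W j) := fun j => hv j ▸ hR' j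
    refine ⟨_, Precoverage.comp_mem_coverings w hR v h2, ?_⟩
    rintro S' _ ⟨⟨j, i⟩⟩
    obtain ⟨e, he⟩ := H'' j (v j i) (by rw [hv]; exact Presieve.ofArrows.mk i)
    exact ⟨e, by rw [he, Category.assoc]⟩

theorem locFac_of_eq {T : Scheme.{u}} {h : T ⟶ X} (e : T ⟶ E) (he : e ≫ Φ = h) : LocFac Φ h := by
  refine ⟨Presieve.singleton (𝟙 T), Precoverage.mem_coverings_of_isIso (𝟙 T), ?_⟩
  rintro S' g ⟨⟩
  exact ⟨e, by rw [he, Category.id_comp]⟩

end lsPred

section twist

variable {S : Scheme.{u}} {M R Q Y Z : Over S} [GrpObj M] (a : AlgGrp.Action M R) (b : AlgGrp.Action M Y)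
  (π : R ⟶ Q)

/-- **The twisted form of `Y` by the torsor `π`**, inside `Q ⊗ Z`. -/
theorem exists_twist (hcart : IsPullback a.act (snd M R) π π)
    [Flat π.left] [Surjective π.left] [QuasiCompact π.left] (F : R ⊗ Y ⟶ Z)
    (hF : ∀ (T : Over S) (m : T ⟶ M) (r : T ⟶ R) (y : T ⟶ Y),
      lift (lift m r ≫ a.act) (lift m y ≫ b.act) ≫ F = lift r y ≫ F)
    [IsClosedImmersion (lift (fst R Y) F).left] :
    ∃ (W : Over S) (i : W ⟶ Q ⊗ Z) (Ψ : R ⊗ Y ⟶ W), IsClosedImmersion i.left ∧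
      Ψ ≫ i = lift (fst R Y ≫ π) F ∧ IsPullback Ψ (fst R Y) (i ≫ fst Q Z) π := by
  have hact := (isPullback_act_iff a π).1 hcart
  let i' : R ⊗ Y ⟶ R ⊗ Z := lift (fst R Y) F
  let f : R ⊗ Z ⟶ Q ⊗ Z := π ▷ Z
  have hif : i' ≫ f = lift (fst R Y ≫ π) F := by
    apply CartesianMonoidalCategory.hom_ext <;> simp [i', f]
  let Φ : R ⊗ Y ⟶ Q ⊗ Z := lift (fst R Y ≫ π) F
  have hmono : Mono i' := by
    have : IsClosedImmersion i'.left := ‹_›
    have : Mono i'.left := inferInstance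
    exact Over.mono_of_mono_left i'
  have hfsq := K686.Whisk.isPullback_whiskerRight_left π Z
  have hf1 : Flat f.left := MorphismProperty.of_isPullback (P := @Flat) hfsq.flip ‹_›
  have hf2 : Surjective f.left := MorphismProperty.of_isPullback (P := @Surjective) hfsq.flip ‹_›
  have hf3 : QuasiCompact f.left := MorphismProperty.of_isPullback (P := @QuasiCompact) hfsq.flip ‹_›
  obtain ⟨Z', z, hz, hZ⟩ := exists_closed (isFpqcLocal_locFac Φ.left) (ι := PUnit) (fun _ => f.left)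
    (by
      have h1 := Scheme.Hom.singleton_mem_fpqcPrecoverage f.left
      rwa [← Presieve.ofArrows_pUnit] at h1)
    (fun _ => ⟨(R ⊗ Y).left, i'.left, inferInstanceAs (IsClosedImmersion (lift (fst R Y) F).left), by
      intro T x
      constructor
      · rintro ⟨P, hP, H⟩
        refine exists_fac_of_local i'.left x P hP fun T' g hg => ?_
        obtain ⟨e, he⟩ := H g hg
        -- everything over `S`
        let T₁ : Over S := Over.mk ((g ≫ x) ≫ (R ⊗ Z).hom)
        let x₁ : T₁ ⟶ R ⊗ Z := Over.homMk (g ≫ x)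
        have he' : e ≫ (R ⊗ Y).hom = T₁.hom := by
          change _ = (g ≫ x) ≫ (R ⊗ Z).hom
          rw [← Over.w Φ, ← Category.assoc, he, ← Over.w f]
          simp only [Category.assoc]
        let e₁ : T₁ ⟶ R ⊗ Y := Over.homMk e he'
        have h1 : e₁ ≫ Φ = x₁ ≫ f := by
          apply Over.OverMorphism.ext
          change e ≫ Φ.left = (g ≫ x) ≫ f.left
          rw [he, Category.assoc]
        have h2 : (e₁ ≫ fst R Y) ≫ π = (x₁ ≫ fst R Z) ≫ π := by
          have h3 := congrArg (· ≫ fst Q Z) h1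
          simpa [Φ, f] using h3
        have h4 : e₁ ≫ F = x₁ ≫ snd R Z := by
          have h3 := congrArg (· ≫ snd Q Z) h1
          simpa [Φ, f] using h3
        obtain ⟨m, hm, -⟩ := hact.2 T₁ (x₁ ≫ fst R Z) (e₁ ≫ fst R Y) h2.symm
        have h5 : lift (x₁ ≫ fst R Z) (lift m (e₁ ≫ snd R Y) ≫ b.act) ≫ i' = x₁ := by
          apply CartesianMonoidalCategory.hom_ext
          · simp [i']
          · rw [Category.assoc, lift_snd, ← hm, hF, ← h4]
            congr 1
            apply CartesianMonoidalCategory.hom_ext <;> simp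
        exact ⟨(lift (x₁ ≫ fst R Z) (lift m (e₁ ≫ snd R Y) ≫ b.act)).left, congrArg CommaMorphism.left h5⟩
      · rintro ⟨v, rfl⟩
        refine locFac_of_eq _ v ?_
        rw [Category.assoc, ← Over.comp_left, hif]⟩)
  let W : Over S := Over.mk (z ≫ (Q ⊗ Z).hom)
  let i : W ⟶ Q ⊗ Z := Over.homMk z
  obtain ⟨ψ, hψ⟩ := (hZ Φ.left).1 (locFac_of_eq _ (𝟙 _) (Category.id_comp _))
  let Ψ : R ⊗ Y ⟶ W := Over.homMk ψ (by
    change ψ ≫ z ≫ (Q ⊗ Z).hom = _
    rw [← Category.assoc, hψ, Over.w])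
  have hΨ : Ψ ≫ i = Φ := Over.OverMorphism.ext hψ
  have hi : Mono i := by
    have : IsClosedImmersion i.left := hz
    exact Over.mono_of_mono_left i
  refine ⟨W, i, Ψ, hz, hΨ, ⟨⟨?_⟩, ⟨?_⟩⟩⟩
  · rw [← Category.assoc, hΨ]
    exact lift_fst _ _
  have key : ∀ (T : Over S) (w : T ⟶ W) (r : T ⟶ R), w ≫ i ≫ fst Q Z = r ≫ π →
      ∃ v : T ⟶ R ⊗ Y, v ≫ Ψ = w ∧ v ≫ fst R Y = r := by
    intro T w r h
    let x : T ⟶ R ⊗ Z := lift r (w ≫ i ≫ snd Q Z)
    have hx : x ≫ f = w ≫ i := by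
      apply CartesianMonoidalCategory.hom_ext
      · simp only [x, f, Category.assoc, whiskerRight_fst, lift_fst_assoc, h]
      · simp only [x, f, Category.assoc, whiskerRight_snd, lift_snd]
    -- the point `x` satisfies the predicate
    have h1 : LocFac Φ.left (x ≫ f).left := by
      rw [hx]
      exact (hZ (w ≫ i).left).2 ⟨w.left, rfl⟩
    obtain ⟨P, hP, H⟩ := h1
    obtain ⟨v, hv⟩ := exists_fac_of_local i'.left x.left P hP fun T' g hg => by
      obtain ⟨e, he⟩ := H g hg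
      let T₁ : Over S := Over.mk (g ≫ T.hom)
      let g₁ : T₁ ⟶ T := Over.homMk g
      have he' : e ≫ (R ⊗ Y).hom = T₁.hom := by
        change _ = g ≫ T.hom
        rw [← Over.w Φ, ← Category.assoc, he, Category.assoc, Over.w]
      let e₁ : T₁ ⟶ R ⊗ Y := Over.homMk e he'
      have h1 : e₁ ≫ Φ = (g₁ ≫ x) ≫ f := by
        apply Over.OverMorphism.ext
        rw [Category.assoc]
        exact he
      have h2 : (e₁ ≫ fst R Y) ≫ π = ((g₁ ≫ x) ≫ fst R Z) ≫ π := by
        have h3 := congrArg (· ≫ fst Q Z) h1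
        simpa [Φ, f] using h3
      have h4 : e₁ ≫ F = (g₁ ≫ x) ≫ snd R Z := by
        have h3 := congrArg (· ≫ snd Q Z) h1
        simpa [Φ, f] using h3
      obtain ⟨m, hm, -⟩ := hact.2 T₁ ((g₁ ≫ x) ≫ fst R Z) (e₁ ≫ fst R Y) h2.symm
      have h5 : lift ((g₁ ≫ x) ≫ fst R Z) (lift m (e₁ ≫ snd R Y) ≫ b.act) ≫ i' = g₁ ≫ x := by
        apply CartesianMonoidalCategory.hom_ext
        · simp [i']
        · rw [Category.assoc, lift_snd, ← hm, hF, ← h4]
          congr 1
          apply CartesianMonoidalCategory.hom_ext <;> simp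
      exact ⟨(lift ((g₁ ≫ x) ≫ fst R Z) (lift m (e₁ ≫ snd R Y) ≫ b.act)).left,
        congrArg CommaMorphism.left h5⟩
    let v₁ : T ⟶ R ⊗ Y := Over.homMk v (by
      rw [← Over.w i', ← Category.assoc, hv, Over.w])
    have hv₁ : v₁ ≫ i' = x := Over.OverMorphism.ext hv
    refine ⟨v₁, ?_, ?_⟩
    · rw [← cancel_mono i, Category.assoc, hΨ, ← hx, ← hv₁, Category.assoc, hif]
    · have h3 := congrArg (· ≫ fst R Z) hv₁
      simpa [i', x] using h3
  refine PullbackCone.IsLimit.mk _ (fun s => (key s.pt s.fst s.snd s.condition).choose)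
    (fun s => (key s.pt s.fst s.snd s.condition).choose_spec.1)
    (fun s => (key s.pt s.fst s.snd s.condition).choose_spec.2) fun s m h1 h2 => ?_
  obtain ⟨h3, h4⟩ := (key s.pt s.fst s.snd s.condition).choose_spec
  rw [← cancel_mono i']
  apply CartesianMonoidalCategory.hom_ext
  · rw [Category.assoc, Category.assoc, lift_fst, h2, h4]
  · rw [Category.assoc, Category.assoc, lift_snd]
    have h5 : F = Ψ ≫ i ≫ snd Q Z := by
      rw [← Category.assoc, hΨ]
      exact (lift_snd _ _).symm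
    rw [h5, reassoc_of% h1, reassoc_of% h3]

end twist

section action

variable {S : Scheme.{u}} {G E W : Over S} [GrpObj G]

open MonObj in
/-- **Descent of an action** along a morphism with local sections. -/
theorem exists_action_desc (c : AlgGrp.Action G E) (Ψ : E ⟶ W) (hΨ : LS Ψ.left)
    (h : ∀ (T : Over S) (g : T ⟶ G) (x x' : T ⟶ E), x ≫ Ψ = x' ≫ Ψ →
      (lift g x ≫ c.act) ≫ Ψ = (lift g x' ≫ c.act) ≫ Ψ) :
    ∃ aW : AlgGrp.Action G W, (G ◁ Ψ) ≫ aW.act = c.act ≫ Ψ := by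
  have h1 : LS (G ◁ Ψ).left := ls_whiskerLeft Ψ hΨ G
  obtain ⟨d, hd⟩ := exists_desc (G ◁ Ψ) h1 (c.act ≫ Ψ) fun T x₁ x₂ hx => by
    have e1 : x₁ ≫ fst G E = x₂ ≫ fst G E := by
      have := congrArg (· ≫ fst G W) hx
      simpa using this
    have e2 : (x₁ ≫ snd G E) ≫ Ψ = (x₂ ≫ snd G E) ≫ Ψ := by
      have := congrArg (· ≫ snd G W) hx
      simpa using this
    have h2 := h T (x₁ ≫ fst G E) _ _ e2
    rw [Category.assoc, Category.assoc] at h2
    have e3 : x₁ = lift (x₁ ≫ fst G E) (x₁ ≫ snd G E) := by rw [← comp_lift, lift_fst_snd, Category.comp_id]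
    have e4 : x₂ = lift (x₁ ≫ fst G E) (x₂ ≫ snd G E) := by rw [e1, ← comp_lift, lift_fst_snd, Category.comp_id]
    rw [e3, e4]
    simpa only [lift_fst, lift_snd, comp_lift] using h2
  have e1 := epi_of_ls Ψ hΨ
  have e2 := epi_of_ls (G ◁ Ψ) h1
  have e3 : Epi ((G ⊗ G) ◁ Ψ) := epi_of_ls _ (ls_whiskerLeft Ψ hΨ (G ⊗ G))
  have e4 : Epi (𝟙_ (Over S) ◁ Ψ) := epi_of_ls _ (ls_whiskerLeft Ψ hΨ _)
  refine ⟨⟨d, ?_, ?_⟩, hd⟩
  · rw [← cancel_epi (𝟙_ (Over S) ◁ Ψ), whisker_exchange_assoc, hd, ← Category.assoc, c.one_act,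
      leftUnitor_naturality]
  · rw [← cancel_epi ((G ⊗ G) ◁ Ψ), whisker_exchange_assoc, hd, ← Category.assoc, c.mul_act]
    simp only [Category.assoc]
    rw [← hd, ← MonoidalCategory.whiskerLeft_comp_assoc, ← hd, MonoidalCategory.whiskerLeft_comp_assoc,
      associator_naturality_right_assoc]

end action

end K401.TwistDesc
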