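import Groth.Agent.AlgGrp.K401.PnEmb
import Groth.Agent.AlgGrp.K401.TwistDesc
import Groth.Agent.AlgGrp.K395.Act
import Groth.Agent.IntMult.K304.SegreEmb

/-!
# A projective `G`-scheme with a point of prescribed stabiliser

* `rAct m`: the action `(t, x) ↦ x m(t)⁻¹` of a subgroup on the group.
* `exists_proj_action`: from a closed subgroup `M` of `G` with projective quotient `Q = G/M`, embedding data for a
  representation `ρ` of `M` and a line in it with stabiliser `H`, a projective scheme with an action of `G` and a rational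
  point with stabiliser `H`.
-/

set_option autoImplicit false
universe u
open CategoryTheory CategoryTheory.Limits MonoidalCategory CartesianMonoidalCategory
  AlgebraicGeometry
open scoped MonObj

namespace K401.Compact

open CoactBr K443.PnUni K690.Chart K690.EqMat K690.Torsor K690.LocSec K690.NormalTors K401.CompDef K401.RelHom K401.PnAct
  K401.PnEmb K401.TwistDesc AlgGrp.Action

section gen

variable {S : Scheme.{u}}

/-- An action from its effect on points. -/
noncomputable def mkAct {G X : Over S} [GrpObj G] (f : G ⊗ X ⟶ X)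
    (h1 : ∀ (T : Over S) (x : T ⟶ X), lift 1 x ≫ f = x)
    (h2 : ∀ (T : Over S) (g h : T ⟶ G) (x : T ⟶ X), lift (g * h) x ≫ f = lift g (lift h x ≫ f) ≫ f) :
    AlgGrp.Action G X where
  act := f
  one_act := by
    have h3 := h1 (𝟙_ (Over S) ⊗ X) (snd _ _)
    rw [leftUnitor_hom, ← h3]
    congr 1
  mul_act := by
    have h3 := h2 ((G ⊗ G) ⊗ X) (fst _ _ ≫ fst _ _) (fst _ _ ≫ snd _ _) (snd _ _)
    have e1 : lift ((fst (G ⊗ G) X ≫ fst G G) * (fst (G ⊗ G) X ≫ snd G G)) (snd (G ⊗ G) X) = μ[G] ▷ X := by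
      apply CartesianMonoidalCategory.hom_ext
      · rw [whiskerRight_fst, lift_fst, Hom.mul_def, ← comp_lift, lift_fst_snd, Category.comp_id]
      · rw [whiskerRight_snd, lift_snd]
    have e2 : lift (fst (G ⊗ G) X ≫ fst G G) (lift (fst (G ⊗ G) X ≫ snd G G) (snd (G ⊗ G) X) ≫ f) =
        (α_ G G X).hom ≫ (G ◁ f) := by
      apply CartesianMonoidalCategory.hom_ext
      · simp
      · rw [lift_snd, Category.assoc, whiskerLeft_snd, ← Category.assoc]
        congr 1
        apply CartesianMonoidalCategory.hom_ext <;> simp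
    rw [e1, e2, Category.assoc] at h3
    exact h3

@[simp] theorem mkAct_act {G X : Over S} [GrpObj G] (f : G ⊗ X ⟶ X)
    (h1 : ∀ (T : Over S) (x : T ⟶ X), lift 1 x ≫ f = x)
    (h2 : ∀ (T : Over S) (g h : T ⟶ G) (x : T ⟶ X), lift (g * h) x ≫ f = lift g (lift h x ≫ f) ≫ f) :
    (mkAct f h1 h2).act = f := rfl

variable {M G : Over S} [GrpObj M] [GrpObj G] (m : M ⟶ G) [IsMonHom m]

omit [GrpObj M] [IsMonHom m] in
theorem lift_rmul {T : Over S} (t : T ⟶ M) (x : T ⟶ G) :
    lift t x ≫ (snd M G * (fst M G ≫ m)⁻¹) = x * (t ≫ m)⁻¹ := by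
  rw [MonObj.comp_mul, GrpObj.comp_inv, lift_snd, lift_fst_assoc]

/-- The action of a subgroup on the group by `(t, x) ↦ x m(t)⁻¹`. -/
noncomputable def rAct : AlgGrp.Action M G :=
  mkAct (snd M G * (fst M G ≫ m)⁻¹)
    (fun T x => by rw [lift_rmul, MonObj.one_comp, inv_one, mul_one])
    (fun T g h x => by
      rw [lift_rmul, lift_rmul, lift_rmul, MonObj.mul_comp, mul_inv_rev, mul_assoc])

theorem lift_rAct {T : Over S} (t : T ⟶ M) (x : T ⟶ G) : lift t x ≫ (rAct m).act = x * (t ≫ m)⁻¹ :=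
  lift_rmul m t x

/-- The torsor property of the quotient. -/
theorem isPullback_rAct [Mono m] {Q : Over S} (π : G ⟶ Q)
    (hπ : ∀ (T : Over S) (x x' : T ⟶ G), x ≫ π = x' ≫ π ↔ ∃ t : T ⟶ M, t ≫ m = x⁻¹ * x') :
    IsPullback (rAct m).act (snd M G) π π := by
  rw [isPullback_act_iff]
  constructor
  · have h1 := (hπ (M ⊗ G) (lift (fst M G) (snd M G) ≫ (rAct m).act) (snd M G)).2 ⟨fst M G, by
      rw [lift_rAct]; group⟩
    rwa [lift_fst_snd, Category.id_comp] at h1
  · intro T x x' h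
    obtain ⟨t, ht⟩ := (hπ T x x').1 h
    refine ⟨t, ?_, fun t' ht' => ?_⟩
    · change lift t x' ≫ (rAct m).act = x
      rw [lift_rAct, ht]; group
    · change lift t' x' ≫ (rAct m).act = x at ht'
      rw [lift_rAct] at ht'
      rw [← cancel_mono m, ht, ← ht']
      group

/-- Left translations on the first factor. -/
noncomputable def lAct (G Y : Over S) [GrpObj G] : AlgGrp.Action G (G ⊗ Y) :=
  mkAct (lift (fst G (G ⊗ Y) * (snd G (G ⊗ Y) ≫ fst G Y)) (snd G (G ⊗ Y) ≫ snd G Y))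
    (fun T x => by
      rw [comp_lift, MonObj.comp_mul, lift_fst, lift_snd_assoc, lift_snd_assoc, one_mul, ← comp_lift, lift_fst_snd,
        Category.comp_id])
    (fun T g h x => by
      simp only [comp_lift, MonObj.comp_mul, lift_fst, lift_snd_assoc, lift_snd]
      rw [mul_assoc])

theorem lift_lAct {G Y T : Over S} [GrpObj G] (g : T ⟶ G) (x : T ⟶ G) (y : T ⟶ Y) :
    lift g (lift x y) ≫ (lAct G Y).act = lift (g * x) y := by
  change lift g (lift x y) ≫ lift (fst G (G ⊗ Y) * (snd G (G ⊗ Y) ≫ fst G Y)) (snd G (G ⊗ Y) ≫ snd G Y) = _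
  rw [comp_lift, MonObj.comp_mul, lift_fst, lift_snd_assoc, lift_fst, lift_snd_assoc, lift_snd]

end gen

section field

variable {k : Type u} [Field k]

/-- Factorisation through a monomorphism may be checked on affine points. -/
theorem exists_fac_of_affine {H M T : Over (Spec (CommRingCat.of k))} (z : H ⟶ M) [Mono z] (x : T ⟶ M)
    (h : ∀ (C : Type u) [CommRing C] [Algebra k C] (s : sp k C ⟶ T), ∃ t : sp k C ⟶ H, t ≫ z = s ≫ x) :
    ∃ t : T ⟶ H, t ≫ z = x := by
  obtain ⟨t, ht⟩ := exists_hom_zar (X := T) (Z := H) (fun C _ _ s t => t ≫ z = s ≫ x)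
    (fun C C' _ _ _ _ φ s t hst => by rw [Category.assoc, hst, Category.assoc])
    (fun C _ _ s t t' h1 h2 => by rw [← cancel_mono z, h1, h2])
    (fun C _ _ s p => ⟨1, p.isPrime.one_notMem, h _ _⟩)
  refine ⟨t, hom_ext_sp fun C _ _ s => ?_⟩
  obtain ⟨t', ht'⟩ := h C s
  rw [← Category.assoc, ht C s t' ht', ht']

/-- The rational point of projective space with given homogeneous coordinates. -/
noncomputable def kp {n : ℕ} (v : Fin (n + 1) → k) (hv : IsUni v) : 𝟙_ (Over (Spec (CommRingCat.of k))) ⟶ Pn k n :=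
  Over.homMk (uPt (RingHom.id k) v hv) (by
    have h1 : uPt (RingHom.id k) v hv ≫ CohB1.ProjSpace.toSpec n k = Spec.map (CommRingCat.ofHom (RingHom.id k)) :=
      uPt_toSpec _ _ _
    have h2 : CommRingCat.ofHom (RingHom.id k) = 𝟙 (CommRingCat.of k) := rfl
    rw [h2, Spec.map_id] at h1
    exact h1)

theorem toUnit_kp {n : ℕ} (v : Fin (n + 1) → k) (hv : IsUni v) (C : Type u) [CommRing C] [Algebra k C]
    (hv' : IsUni fun i => algebraMap k C (v i)) :
    toUnit (sp k C) ≫ kp v hv = up (k := k) (fun i => algebraMap k C (v i)) hv' := by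
  apply Over.OverMorphism.ext
  rw [Over.comp_left]
  have h1 : (toUnit (sp k C)).left = Spec.map (CommRingCat.ofHom (algebraMap k C)) := by
    have h2 := Over.w (toUnit (sp k C))
    exact h2
  rw [h1]
  exact spec_uPt' (RingHom.id k) v hv (algebraMap k C) hv'

variable {G H M Q : Over (Spec (CommRingCat.of k))} [GrpObj G] [GrpObj H] [GrpObj M] (m : M ⟶ G) [IsMonHom m] [Mono m]
  (π : G ⟶ Q)

/-- **A projective `G`-scheme with a rational point of stabiliser `H`.** -/
theorem exists_proj_action [Flat π.left] [Surjective π.left] [QuasiCompact π.left] [QuasiSeparated Q.hom]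
    (hπ : ∀ (T : Over (Spec (CommRingCat.of k))) (x x' : T ⟶ G), x ≫ π = x' ≫ π ↔ ∃ t : T ⟶ M, t ≫ m = x⁻¹ * x')
    {d : ℕ} (c : Q.left ⟶ CohB1.ProjSpace d k) [IsClosedImmersion c] (hc : c ≫ CohB1.ProjSpace.toSpec d k = Q.hom)
    {n : ℕ} (ρ : MatRep k M (n + 1)) (E : EmbData (rAct m) π ρ) (v : Fin (n + 1) → k) (hv : v ≠ 0) (z : H ⟶ M)
    [IsMonHom z] [Mono z]
    (hline : ∀ (C : Type u) [CommRing C] [Algebra k C] (g : sp k C ⟶ M),
        (∃ g' : sp k C ⟶ H, g' ≫ z = g) ↔
          ∃ c : C, (ρ.c g).mulVec (fun j => algebraMap k C (v j)) = c • fun j => algebraMap k C (v j)) :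
    ∃ (W : Over (Spec (CommRingCat.of k))) (aW : AlgGrp.Action G W) (w : 𝟙_ (Over (Spec (CommRingCat.of k))) ⟶ W)
      (N : ℕ) (κ : W.left ⟶ CohB1.ProjSpace N k), IsClosedImmersion κ ∧ κ ≫ CohB1.ProjSpace.toSpec N k = W.hom ∧
      ∀ (T : Over (Spec (CommRingCat.of k))) (g : T ⟶ G),
        lift g (toUnit T ≫ w) ≫ aW.act = toUnit T ≫ w ↔ ∃ t : T ⟶ H, t ≫ z ≫ m = g := by
  have hcart := isPullback_rAct m π hπ
  obtain ⟨b, hb⟩ := exists_pnAct ρ
  obtain ⟨F, hF, hFcl⟩ := exists_embedding hcart E b hb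
  obtain ⟨W, i, Ψ, hi, hΨ, hsq⟩ := exists_twist (rAct m) b π hcart F hF
  have hmono : Mono (lift (fst G (Pn k n)) F) := by
    have : Mono (lift (fst G (Pn k n)) F).left := inferInstance
    exact Over.mono_of_mono_left _
  have himono : Mono i := by
    have : Mono i.left := inferInstance
    exact Over.mono_of_mono_left _
  have hsql := hsq.map (Over.forget _)
  have hf1 : Flat Ψ.left := MorphismProperty.of_isPullback (P := @Flat) hsql.flip ‹_›
  have hf2 : Surjective Ψ.left := MorphismProperty.of_isPullback (P := @Surjective) hsql.flip ‹_›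
  have hf3 : QuasiCompact Ψ.left := MorphismProperty.of_isPullback (P := @QuasiCompact) hsql.flip ‹_›
  have hLS : LS Ψ.left := ls_of_flat _
  -- points of `W`
  have hW : ∀ (T : Over (Spec (CommRingCat.of k))) (x x' : T ⟶ G) (y y' : T ⟶ Pn k n),
      lift x y ≫ Ψ = lift x' y' ≫ Ψ ↔ ∃ t : T ⟶ M, x * (t ≫ m) = x' ∧ lift t y' ≫ b.act = y := by
    intro T x x' y y'
    have e1 : ∀ (x : T ⟶ G) (y : T ⟶ Pn k n), (lift x y ≫ Ψ) ≫ i = lift (x ≫ π) (lift x y ≫ F) := by
      intro x y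
      rw [Category.assoc, hΨ, comp_lift, lift_fst_assoc]
    rw [← cancel_mono i, e1, e1]
    constructor
    · intro h
      have h1 : x ≫ π = x' ≫ π := by simpa only [lift_fst] using congrArg (· ≫ fst _ _) h
      have h2 : lift x y ≫ F = lift x' y' ≫ F := by simpa only [lift_snd] using congrArg (· ≫ snd _ _) h
      obtain ⟨t, ht⟩ := (hπ T x x').1 h1
      have h3 : lift t x' ≫ (rAct m).act = x := by rw [lift_rAct, ht]; group
      refine ⟨t, by rw [ht]; group, ?_⟩
      have h4 := hF T t x' y'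
      rw [h3, ← h2] at h4
      have h5 : lift x (lift t y' ≫ b.act) ≫ lift (fst G (Pn k n)) F = lift x y ≫ lift (fst G (Pn k n)) F := by
        rw [comp_lift, comp_lift, lift_fst, lift_fst, h4]
      rw [cancel_mono] at h5
      simpa only [lift_snd] using congrArg (· ≫ snd _ _) h5
    · rintro ⟨t, ht, rfl⟩
      have h3 : lift t x' ≫ (rAct m).act = x := by rw [lift_rAct, ← ht]; group
      have h4 := hF T t x' y'
      rw [h3] at h4
      have h5 : x ≫ π = x' ≫ π := (hπ T x x').2 ⟨t, by rw [← ht]; group⟩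
      rw [h4, h5]
  obtain ⟨aW, haW⟩ := exists_action_desc (lAct G (Pn k n)) Ψ hLS fun T g x x' hx => by
    have e1 : x = lift (x ≫ fst _ _) (x ≫ snd _ _) := by rw [← comp_lift, lift_fst_snd, Category.comp_id]
    have e2 : x' = lift (x' ≫ fst _ _) (x' ≫ snd _ _) := by rw [← comp_lift, lift_fst_snd, Category.comp_id]
    generalize x ≫ fst _ _ = x₁ at e1
    generalize x ≫ snd _ _ = x₂ at e1
    generalize x' ≫ fst _ _ = x₁' at e2
    generalize x' ≫ snd _ _ = x₂' at e2
    subst e1 e2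
    obtain ⟨t, h1, h2⟩ := (hW T _ _ _ _).1 hx
    rw [lift_lAct, lift_lAct]
    exact (hW T _ _ _ _).2 ⟨t, by rw [mul_assoc, h1], h2⟩
  have haW' : ∀ (T : Over (Spec (CommRingCat.of k))) (g x : T ⟶ G) (y : T ⟶ Pn k n),
      lift g (lift x y ≫ Ψ) ≫ aW.act = lift (g * x) y ≫ Ψ := by
    intro T g x y
    have h1 : lift g (lift x y ≫ Ψ) = lift g (lift x y) ≫ (G ◁ Ψ) := by
      apply CartesianMonoidalCategory.hom_ext <;> simp
    rw [h1, Category.assoc, haW, ← Category.assoc, lift_lAct]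
  -- the base point
  have hvu : IsUni v := by
    obtain ⟨j, hj⟩ := Function.ne_iff.1 hv
    exact isUni_of_isUnit (i := j) (isUnit_iff_ne_zero.2 hj)
  have hy : ∀ (T : Over (Spec (CommRingCat.of k))) (t : T ⟶ M),
      lift t (toUnit T ≫ kp v hvu) ≫ b.act = toUnit T ≫ kp v hvu ↔ ∃ t' : T ⟶ H, t' ≫ z = t := by
    intro T t
    have key : ∀ (C : Type u) [CommRing C] [Algebra k C] (s : sp k C ⟶ T),
        lift (s ≫ t) (toUnit (sp k C) ≫ kp v hvu) ≫ b.act = toUnit (sp k C) ≫ kp v hvu ↔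
          ∃ g' : sp k C ⟶ H, g' ≫ z = s ≫ t := by
      intro C _ _ s
      have hv' : IsUni fun i => algebraMap k C (v i) := hvu.map (algebraMap k C)
      rw [toUnit_kp v hvu C hv', hb C (s ≫ t) _ hv' (isUni_rep ρ _ hv'), hline, eq_comm, up_eq_iff]
      constructor
      · rintro ⟨c, hc⟩
        exact ⟨c, hc⟩
      · rintro ⟨c, hc⟩
        obtain ⟨j, hj⟩ := Function.ne_iff.1 hv
        -- the scalar is a unit
        have hu : IsUnit c := by
          have h1 : IsUni (c • fun i => algebraMap k C (v i)) := hc ▸ isUni_rep ρ (s ≫ t) hv'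
          have h2 : Ideal.span (Set.range (c • fun i => algebraMap k C (v i))) ≤ Ideal.span {c} := by
            rw [Ideal.span_le]
            rintro _ ⟨l, rfl⟩
            exact Ideal.mem_span_singleton.2 ⟨_, rfl⟩
          rw [h1, top_le_iff, Ideal.span_singleton_eq_top] at h2
          exact h2
        exact ⟨hu.unit, hc⟩
    have hs : ∀ (C : Type u) [CommRing C] [Algebra k C] (s : sp k C ⟶ T), s ≫ toUnit T ≫ kp v hvu =
        toUnit (sp k C) ≫ kp v hvu := by
      intro C _ _ s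
      rw [← Category.assoc, toUnit_unique (s ≫ toUnit T) (toUnit _)]
    constructor
    · intro h
      refine exists_fac_of_affine z t fun C _ _ s => (key C s).1 ?_
      rw [← hs C s, ← comp_lift_assoc, h]
    · rintro ⟨t', rfl⟩
      refine hom_ext_sp fun C _ _ s => ?_
      rw [comp_lift_assoc, hs]
      exact (key C s).2 ⟨s ≫ t', by rw [Category.assoc]⟩
  refine ⟨W, aW, lift 1 (kp v hvu) ≫ Ψ, ?_⟩
  have hw : ∀ T : Over (Spec (CommRingCat.of k)), toUnit T ≫ lift 1 (kp v hvu) ≫ Ψ =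
      lift 1 (toUnit T ≫ kp v hvu) ≫ Ψ := by
    intro T
    rw [comp_lift_assoc, MonObj.comp_one]
  obtain ⟨N, κ, hκ, hκ'⟩ := K304.SegreEmb.exists_embedding Q.hom (Pn k E.m).hom c hc (𝟙 _)
    (Category.id_comp _) (T := W.left) i.left
  refine ⟨N, κ, hκ, ?_, fun T g => ?_⟩
  · rw [hκ', ← Over.w i]
    congr 1
  · rw [hw, haW', mul_one, hW]
    constructor
    · rintro ⟨t, h1, h2⟩
      obtain ⟨t', rfl⟩ := (hy T t).1 h2
      refine ⟨t'⁻¹, ?_⟩
      rw [GrpObj.inv_comp, eq_comm, ← mul_eq_one_iff_eq_inv, ← h1, Category.assoc]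
    · rintro ⟨t, rfl⟩
      refine ⟨t⁻¹ ≫ z, ?_, (hy T _).2 ⟨_, rfl⟩⟩
      rw [Category.assoc, GrpObj.inv_comp, mul_inv_cancel]

end field

end K401.Compact
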