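import Groth.Agent.Sga3.H821.ChevDesc
import Groth.Agent.AlgGrp.K401.AffKer
import Groth.Agent.S3280

/-!
# Descent of a normal subgroup with proper quotient along an algebraic extension
-/

set_option autoImplicit false
open CategoryTheory MonoidalCategory CartesianMonoidalCategory MonObj GrpObj AlgebraicGeometry CategoryTheory.Limits
universe u

namespace K401.DescNorm

open Groth.Agent Groth.Agent.Sga3.H821 Groth.Agent.Sga3B.BcPts Groth.Agent.Sga3B K401.AffKer

variable {k K : Type u} [Field k] [Field K]
  {f : Spec (CommRingCat.of K) ⟶ Spec (CommRingCat.of k)}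
  {G : Over (Spec (CommRingCat.of k))} [GrpObj G]

/-- Two reduced closed subschemes with the same range are isomorphic. -/
theorem exists_iso_of_range {S : Scheme.{u}} {X Y Z : Over S} (a : X ⟶ Z) (b : Y ⟶ Z) [IsClosedImmersion a.left]
    [IsClosedImmersion b.left] [IsReduced X.left] [IsReduced Y.left] (h : Set.range a.left = Set.range b.left) :
    ∃ e : X ≅ Y, e.hom ≫ b = a := by
  obtain ⟨s, hs⟩ := Books.AlgPtsGrp.exists_lift b a h.le
  obtain ⟨t, ht⟩ := Books.AlgPtsGrp.exists_lift a b h.ge
  have ha : Mono a := Books.AlgPtsGrp.mono_of_isClosedImmersion a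
  have hb : Mono b := Books.AlgPtsGrp.mono_of_isClosedImmersion b
  refine ⟨⟨s, t, ?_, ?_⟩, hs⟩
  · rw [← cancel_mono a, Category.assoc, ht, hs, Category.id_comp]
  · rw [← cancel_mono b, Category.assoc, hs, ht, Category.id_comp]

/-- A closed subscheme whose base change is a normal subgroup is a normal subgroup. -/
theorem exists_grpObj [Surjective f] {L : Over (Spec (CommRingCat.of K))} [GrpObj L]
    (l : L ⟶ Red.bc f G) [IsMonHom l] (hN : AlgGrp.IsNormalHom l)
    (M : Over (Spec (CommRingCat.of k))) (m : M ⟶ G) (hm : IsClosedImmersion m.left) (e : L ≅ Red.bc f M)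
    (he : e.hom ≫ (Over.pullback f).map m = l) :
    ∃ _ : GrpObj M, IsMonHom m ∧ AlgGrp.IsNormalHom m := by
  have hl : e.inv ≫ l = (Over.pullback f).map m := by rw [← he, Iso.inv_hom_id_assoc]
  -- the criterion
  have crit : ∀ {X : Over (Spec (CommRingCat.of k))} (g : X ⟶ G),
      (∃ y : Red.bc f X ⟶ L, y ≫ l = (Over.pullback f).map g) → ∃ x : X ⟶ M, x ≫ m = g := by
    rintro X g ⟨y, hy⟩
    exact DescSub.exists_factor (f := f) m g ⟨y ≫ e.hom, by rw [Category.assoc, he, hy]⟩
  have crit' : ∀ {X : Over (Spec (CommRingCat.of k))} (x : X ⟶ M),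
      ((Over.pullback f).map x ≫ e.inv) ≫ l = (Over.pullback f).map (x ≫ m) := by
    intro X x
    rw [Category.assoc, hl, Functor.map_comp]
  obtain ⟨inst, hmon⟩ : ∃ _ : GrpObj M, IsMonHom m := by
    have : Mono m := Books.AlgPtsGrp.mono_of_isClosedImmersion m
    apply Sga3C.SubGrp.exists_grpObj_of_mono
    · apply crit
      refine ⟨((Over.pullback f).map (fst M M) ≫ e.inv) * ((Over.pullback f).map (snd M M) ≫ e.inv), ?_⟩
      rw [MonObj.mul_comp, crit', crit', ← Functor.map_mul]
      congr 1
    · apply crit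
      refine ⟨1, ?_⟩
      rw [MonObj.one_comp, MonObj.one_eq_one, Functor.map_one]
    · apply crit
      refine ⟨((Over.pullback f).map (𝟙 M) ≫ e.inv)⁻¹, ?_⟩
      rw [GrpObj.inv_comp, crit', Category.id_comp, ← Hom.inv_def, Functor.map_inv']
  refine ⟨inst, hmon, ?_⟩
  intro T g n
  obtain ⟨n', hn'⟩ := hN (Red.bc f T) ((Over.pullback f).map g) ((Over.pullback f).map n ≫ e.inv)
  obtain ⟨x, hx⟩ := crit (g * (n ≫ m) * g⁻¹) ⟨n', by
    rw [← hn', crit', Functor.map_mul, Functor.map_mul, Functor.map_inv']⟩
  exact ⟨x, hx.symm⟩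

/-- If a closed subscheme of `G` becomes the affine kernel of a quotient map onto a proper group over `K`, it
is itself the kernel of a quotient map onto a proper group. -/
theorem exists_quot [IsIntegralHom f] [Surjective f] [Smooth G.hom] [QuasiCompact G.hom]
    {L Q : Over (Spec (CommRingCat.of K))} [GrpObj L] [GrpObj Q]
    (l : L ⟶ Red.bc f G) [IsMonHom l] (hN : AlgGrp.IsNormalHom l) [IsAffine L.left]
    (q : Red.bc f G ⟶ Q) [IsMonHom q] [Surjective q.left] [Flat q.left] (hk : AlgGrp.IsKernel l q) [IsProper Q.hom]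
    (M : Over (Spec (CommRingCat.of k))) (m : M ⟶ G) (hm : IsClosedImmersion m.left) (e : L ≅ Red.bc f M)
    (he : e.hom ≫ (Over.pullback f).map m = l) :
    ∃ (_ : GrpObj M) (R : Over (Spec (CommRingCat.of k))) (_ : GrpObj R) (p : G ⟶ R), IsMonHom m ∧
      AlgGrp.IsNormalHom m ∧ IsAffine M.left ∧ IsMonHom p ∧ Surjective p.left ∧ Flat p.left ∧
      AlgGrp.IsKernel m p ∧ IsProper R.hom := by
  obtain ⟨inst, hm1, hm3⟩ := exists_grpObj l hN M m hm e he
  have hI : IsIso e.hom.left := inferInstanceAs (IsIso ((Over.forget _).mapIso e).hom)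
  have hI' : IsIso e.inv.left := inferInstanceAs (IsIso ((Over.forget _).mapIso e).inv)
  have hff : (@Surjective ⊓ @Flat ⊓ @QuasiCompact : MorphismProperty Scheme.{u}) f :=
    ⟨⟨inferInstance, inferInstance⟩, inferInstance⟩
  have hsnd : pullback.snd M.hom f = e.inv.left ≫ L.hom := (Over.w e.inv).symm
  have hMa : IsAffineHom M.hom := by
    refine MorphismProperty.of_pullback_snd_of_descendsAlong
      (Q := @Surjective ⊓ @Flat ⊓ @QuasiCompact) (g := f) hff ?_
    rw [hsnd]
    infer_instance
  have hMa' : IsAffine M.left := isAffine_of_isAffineHom M.hom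
  -- the quotient
  have hMm : Mono m := Books.AlgPtsGrp.mono_of_isClosedImmersion m
  have hMf : LocallyOfFiniteType M.hom := by rw [← Over.w m]; infer_instance
  obtain ⟨R, _, p, hp1, hp2, hp3, hp4, hp5, hp6, hp7, hp8⟩ := S3030.result k M G m hm3
  have hRq : QuasiCompact R.hom := by
    have h : CompactSpace G.left := (quasiCompact_iff_compactSpace G.hom).1 inferInstance
    have h' : CompactSpace R.left := hp3.surj.compactSpace p.left.continuous
    exact (quasiCompact_iff_compactSpace R.hom).2 h'
  have hRs : Smooth R.hom := hp8 inferInstance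
  refine ⟨inst, R, inferInstance, p, hm1, hm3, hMa', hp1, hp3, hp2, hp5, ?_⟩
  -- properness
  have hφ : l ≫ (Over.pullback f).map p = toUnit L ≫ η[Red.bc f R] := by
    have h : m ≫ p = 1 := hp5.w
    rw [← he, Category.assoc, ← Functor.map_comp, h, Functor.map_one, MonObj.comp_one]
    rfl
  have hpm : IsMonHom ((Over.pullback f).map p) := NormBc.isMonHom_pullback_map f p
  have hpmS : Surjective ((Over.pullback f).map p).left :=
    MorphismProperty.of_isPullback (Parab.EtHom.isPullback_map f p) hp3
  have i1 : LocallyOfFiniteType (Red.bc f G).hom := inferInstanceAs (LocallyOfFiniteType (pullback.snd G.hom f))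
  have i2 : QuasiCompact (Red.bc f G).hom := inferInstanceAs (QuasiCompact (pullback.snd G.hom f))
  have i3 : LocallyOfFiniteType (Red.bc f R).hom := inferInstanceAs (LocallyOfFiniteType (pullback.snd R.hom f))
  have i4 : QuasiCompact (Red.bc f R).hom := inferInstanceAs (QuasiCompact (pullback.snd R.hom f))
  obtain ⟨φ', hφ1, hφ2, -⟩ := S3280.result K (Red.bc f G) L Q (Red.bc f R) q l hk ((Over.pullback f).map p) hφ
  have hφs : Surjective φ'.left := by
    have : Surjective (q.left ≫ φ'.left) := by rw [← Over.comp_left, hφ2]; exact hpmS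
    exact Surjective.of_comp q.left φ'.left
  have huc : UniversallyClosed R.hom := by
    have h : (φ'.left ≫ pullback.fst R.hom f) ≫ R.hom = Q.hom ≫ f := by
      rw [Category.assoc, pullback.condition, ← Category.assoc]
      exact congrArg (· ≫ f) (Over.w φ')
    have h' : UniversallyClosed ((φ'.left ≫ pullback.fst R.hom f) ≫ R.hom) := by
      rw [h]; infer_instance
    exact UniversallyClosed.of_comp_surjective (φ'.left ≫ pullback.fst R.hom f) R.hom
  exact { }

end K401.DescNorm
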