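import Groth.Agent.Sga3B.BcPts
import Groth.Agent.Sga3C.SubGrp
import Groth.Agent.LVCorr.K954.FrobIter
import Groth.Agent.Variety.K430.Frob
import Mathlib.FieldTheory.PurelyInseparable.Exponent

/-!
# Abstract Frobenius data for a purely inseparable morphism, and descent of subgroup schemes

For a finite purely inseparable extension `K/k` some power of the Frobenius of `K` factors through `k`; this gives a
morphism `σ : Spec k ⟶ Spec K`. For a `k`-group `G` we get a homomorphism from `G` (regarded over `K` via `σ`) to `G_K`,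
natural in everything, which on underlying spaces is inverse to the projection `G_K ⟶ G`.
-/

set_option autoImplicit false
open CategoryTheory MonoidalCategory CartesianMonoidalCategory MonObj GrpObj AlgebraicGeometry CategoryTheory.Limits
universe u

namespace K401.Frob

open Groth.Agent.Sga3B.BcPts

/-- Frobenius data for `f : S' ⟶ S`. -/
structure Data {S S' : Scheme.{u}} (f : S' ⟶ S) where
  σ : S ⟶ S'
  F : ∀ {X : Scheme.{u}}, (X ⟶ S) → (X ⟶ X)
  nat : ∀ {X Y : Scheme.{u}} (g : X ⟶ Y) (t : Y ⟶ S), F (g ≫ t) ≫ g = g ≫ F t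
  F_src : F f = f ≫ σ
  F_tgt : F (𝟙 S) = σ ≫ f
  apply : ∀ {X : Scheme.{u}} (t : X ⟶ S) (x : X), F t x = x
  integral : ∀ {X : Scheme.{u}} (t : X ⟶ S), IsIntegralHom (F t)

variable {S S' : Scheme.{u}} {f : S' ⟶ S} (D : Data f)

namespace Data

lemma F_over {X : Scheme.{u}} (t : X ⟶ S) : D.F t ≫ t = t ≫ D.σ ≫ f := by
  have := D.nat t (𝟙 S)
  rw [Category.comp_id, D.F_tgt] at this
  exact this

lemma F_over' {X : Scheme.{u}} (s : X ⟶ S') : D.F (s ≫ f) ≫ s = s ≫ f ≫ D.σ := by
  rw [D.nat s f, D.F_src]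

/-- The Frobenius of `T` as a morphism over `S`. -/
noncomputable def FT (T : Over S) : (Over.map f).obj ((Over.map D.σ).obj T) ⟶ T :=
  Over.homMk (D.F T.hom) (by
    have := D.F_over T.hom
    simpa using this)

@[simp] lemma FT_left (T : Over S) : (D.FT T).left = D.F T.hom := rfl

lemma FT_nat {T T' : Over S} (t : T' ⟶ T) :
    (Over.map f).map ((Over.map D.σ).map t) ≫ D.FT T = D.FT T' ≫ t := by
  apply Over.OverMorphism.ext
  have h := D.nat t.left T.hom
  rw [Over.w t] at h
  simpa using h.symm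

/-- The map on points `G(T) → G_{S'}(T via σ)`. -/
noncomputable def θ {T G : Over S} (g : T ⟶ G) : (Over.map D.σ).obj T ⟶ Red.bc f G :=
  bcEquiv f _ G (D.FT T ≫ g)

lemma comp_θ {T T' G : Over S} (t : T' ⟶ T) (g : T ⟶ G) :
    D.θ (t ≫ g) = (Over.map D.σ).map t ≫ D.θ g := by
  rw [θ, θ, ← comp_bcEquiv, ← Category.assoc, ← D.FT_nat t, Category.assoc]

lemma θ_comp {T G G' : Over S} (g : T ⟶ G) (h : G ⟶ G') :
    D.θ (g ≫ h) = D.θ g ≫ (Over.pullback f).map h := by
  rw [θ, θ, ← bcEquiv_comp, Category.assoc]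

lemma θ_mul {T G : Over S} [GrpObj G] (g g' : T ⟶ G) : D.θ (g * g') = D.θ g * D.θ g' := by
  rw [θ, θ, θ, ← bcEquiv_mul, MonObj.comp_mul]

lemma θ_one {T G : Over S} [GrpObj G] : D.θ (1 : T ⟶ G) = 1 := by
  rw [θ, MonObj.comp_one, bcEquiv_one]

lemma θ_inv {T G : Over S} [GrpObj G] (g : T ⟶ G) : D.θ (g⁻¹) = (D.θ g)⁻¹ := by
  rw [eq_inv_iff_mul_eq_one, ← θ_mul, inv_mul_cancel, θ_one]

lemma bcEquiv_left {T : Over S'} {X : Over S} (x : (Over.map f).obj T ⟶ X) :
    (bcEquiv f T X x).left = pullback.lift x.left T.hom (by simp) := by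
  rw [bcEquiv, Over.mapPullbackAdj, Adjunction.mkOfHomEquiv_homEquiv]
  rfl

/-- The `φ : G ⟶ G_{S'}` over `σ`. -/
noncomputable def φ (G : Over S) : (Over.map D.σ).obj G ⟶ Red.bc f G := D.θ (𝟙 G)

lemma θ_eq {T G : Over S} (g : T ⟶ G) : D.θ g = (Over.map D.σ).map g ≫ D.φ G := by
  rw [φ, ← comp_θ, Category.comp_id]

lemma φ_left_fst (G : Over S) : (D.φ G).left ≫ pullback.fst G.hom f = D.F G.hom := by
  rw [φ, θ, bcEquiv_left, Category.comp_id]
  exact pullback.lift_fst _ _ _

lemma φ_left_snd (G : Over S) : (D.φ G).left ≫ pullback.snd G.hom f = G.hom ≫ D.σ := by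
  rw [φ, θ, bcEquiv_left, Category.comp_id]
  exact pullback.lift_snd _ _ _

lemma fst_φ (G : Over S) :
    pullback.fst G.hom f ≫ (D.φ G).left = D.F (pullback.fst G.hom f ≫ G.hom) := by
  apply pullback.hom_ext
  · rw [Category.assoc, φ_left_fst, ← D.nat]
  · rw [Category.assoc, φ_left_snd, ← Category.assoc, pullback.condition, Category.assoc, D.F_over']

include D in
lemma fst_injective (G : Over S) : Function.Injective (pullback.fst G.hom f) := by
  intro x y h
  have h1 := congr($(D.fst_φ G) x)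
  have h2 := congr($(D.fst_φ G) y)
  rw [D.apply, Scheme.Hom.comp_apply] at h1 h2
  rw [← h1, ← h2, h]

lemma φ_left_apply_fst (G : Over S) (x : ↑(pullback G.hom f)) :
    (D.φ G).left ((pullback.fst G.hom f) x) = x := by
  have h1 := congr($(D.fst_φ G) x)
  rw [D.apply, Scheme.Hom.comp_apply] at h1
  exact h1

lemma fst_apply_φ (G : Over S) (x : G.left) :
    (pullback.fst G.hom f) ((D.φ G).left x) = x := by
  have h1 := congr($(D.φ_left_fst G) x)
  rw [D.apply, Scheme.Hom.comp_apply] at h1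
  exact h1

/-- Frobenius of an `S'`-scheme. -/
noncomputable def FT' (T : Over S') : (Over.map D.σ).obj ((Over.map f).obj T) ⟶ T :=
  Over.homMk (D.F (T.hom ≫ f)) (by
    have := D.F_over' T.hom
    simpa using this)

lemma map_FT' (T : Over S') : (Over.map f).map (D.FT' T) = D.FT ((Over.map f).obj T) := rfl

lemma θ_symm {T : Over S'} {X : Over S} (x : (Over.map f).obj T ⟶ X) :
    D.θ x = D.FT' T ≫ bcEquiv f T X x := by
  rw [θ, ← map_FT', comp_bcEquiv]

omit D in
lemma isPullback_map {X Y : Over S} (g : X ⟶ Y) :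
    IsPullback (pullback.fst X.hom f) ((Over.pullback f).map g).left g.left (pullback.fst Y.hom f) := by
  have e : pullback.fst X.hom f ≫ g.left = ((Over.pullback f).map g).left ≫ pullback.fst Y.hom f :=
    (pullback.lift_fst _ _ _).symm
  have h2 : ((Over.pullback f).map g).left ≫ pullback.snd Y.hom f = pullback.snd X.hom f :=
    pullback.lift_snd _ _ _
  have big : IsPullback (pullback.fst X.hom f) (((Over.pullback f).map g).left ≫ pullback.snd Y.hom f)
      (g.left ≫ Y.hom) f := by
    rw [h2, Over.w g]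
    exact IsPullback.of_hasPullback _ _
  exact IsPullback.of_bot big e (IsPullback.of_hasPullback _ _)

section Pull

variable {G : Over S} {H' : Over S'} (h' : H' ⟶ Red.bc f G)

/-- The pull-back of `h' : H' ⟶ G_{S'}` along `φ`. -/
noncomputable def pl : Over S := Over.mk (pullback.fst (D.φ G).left h'.left ≫ G.hom)

noncomputable def plι : D.pl h' ⟶ G := Over.homMk (pullback.fst (D.φ G).left h'.left) rfl

noncomputable def plφ : (Over.map D.σ).obj (D.pl h') ⟶ H' :=
  Over.homMk (pullback.snd (D.φ G).left h'.left) (by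
    have e : pullback.snd (D.φ G).left h'.left ≫ H'.hom =
        (pullback.fst (D.φ G).left h'.left ≫ G.hom) ≫ D.σ := by
      rw [← Over.w h', ← Category.assoc, ← pullback.condition, Category.assoc, Category.assoc]
      exact congrArg (pullback.fst (D.φ G).left h'.left ≫ ·) (D.φ_left_snd G)
    exact e)

lemma plφ_comp : D.plφ h' ≫ h' = D.θ (D.plι h') := by
  rw [θ_eq]
  apply Over.OverMorphism.ext
  exact pullback.condition.symm

instance [IsClosedImmersion h'.left] : IsClosedImmersion (D.plι h').left :=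
  inferInstanceAs (IsClosedImmersion (pullback.fst (D.φ G).left h'.left))

/-- A `T`-point of `G` lies in `D.pl h'` iff its image under `θ` lies in `H'`. -/
lemma factor_iff {T : Over S} (g : T ⟶ G) :
    (∃ g' : T ⟶ D.pl h', g' ≫ D.plι h' = g) ↔
      ∃ y : (Over.map D.σ).obj T ⟶ H', y ≫ h' = D.θ g := by
  constructor
  · rintro ⟨g', rfl⟩
    exact ⟨(Over.map D.σ).map g' ≫ D.plφ h', by rw [Category.assoc, plφ_comp, comp_θ]⟩
  · rintro ⟨y, hy⟩
    rw [θ_eq] at hy
    have hy' := congrArg Over.Hom.left hy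
    refine ⟨Over.homMk (pullback.lift g.left y.left hy'.symm) ?_, ?_⟩
    · change pullback.lift g.left y.left _ ≫ pullback.fst (D.φ G).left h'.left ≫ G.hom = _
      rw [pullback.lift_fst_assoc, Over.w g]
    · apply Over.OverMorphism.ext
      exact pullback.lift_fst _ _ _

theorem exists_grpObj [GrpObj G] [GrpObj H'] [IsMonHom h'] [Mono h'] [Mono (D.plι h')] :
    ∃ _ : GrpObj (D.pl h'), IsMonHom (D.plι h') := by
  apply Groth.Agent.Sga3C.SubGrp.exists_grpObj_of_mono
  · rw [D.factor_iff h']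
    have : (D.plι h' ⊗ₘ D.plι h') ≫ μ[G] =
        (fst _ _ ≫ D.plι h') * (snd _ _ ≫ D.plι h') := by
      rw [Hom.mul_def]
      congr 1
    rw [this, θ_mul, comp_θ, comp_θ, ← plφ_comp, ← Category.assoc, ← Category.assoc, ← MonObj.mul_comp]
    exact ⟨_, rfl⟩
  · rw [D.factor_iff h']
    have : η[G] = (1 : 𝟙_ (Over S) ⟶ G) := by
      rw [Hom.one_def, toUnit_unique (toUnit (𝟙_ (Over S))) (𝟙 _), Category.id_comp]
    rw [this, θ_one]
    exact ⟨1, MonObj.one_comp h'⟩
  · rw [D.factor_iff h']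
    have : D.plι h' ≫ ι[G] = (D.plι h')⁻¹ := rfl
    rw [this, θ_inv, ← plφ_comp, ← GrpObj.inv_comp]
    exact ⟨_, rfl⟩

end Pull

include D in
theorem exists_subgroup (G : Over S) [GrpObj G] (H' : Over S') [GrpObj H']
    (h' : H' ⟶ Red.bc f G) [IsMonHom h'] [IsClosedImmersion h'.left] :
    ∃ (H : Over S) (_ : GrpObj H) (h : H ⟶ G), IsMonHom h ∧ IsClosedImmersion h.left ∧
      ∃ g : H' ⟶ Red.bc f H, g ≫ (Over.pullback f).map h = h' ∧ Surjective g.left := by
  have hm' : Mono h' := Over.mono_of_mono_left h'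
  have hm : Mono (D.plι h') := Over.mono_of_mono_left _
  obtain ⟨_, hι⟩ := D.exists_grpObj h'
  refine ⟨D.pl h', inferInstance, D.plι h', hι, inferInstance, ?_⟩
  -- the given subgroup maps to the pull-back
  obtain ⟨g', hg'⟩ : ∃ g' : (Over.map f).obj H' ⟶ D.pl h', g' ≫ D.plι h' = (bcEquiv f _ G).symm h' := by
    rw [D.factor_iff h']
    exact ⟨D.FT' H', by rw [θ_symm, Equiv.apply_symm_apply]⟩
  have hg : bcEquiv f _ _ g' ≫ (Over.pullback f).map (D.plι h') = h' := by
    rw [← bcEquiv_comp, hg', Equiv.apply_symm_apply]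
  refine ⟨bcEquiv f _ _ g', hg, ⟨fun x => ?_⟩⟩
  have hcl : IsClosedImmersion ((Over.pullback f).map (D.plι h')).left :=
    MorphismProperty.of_isPullback (P := @IsClosedImmersion) (isPullback_map (D.plι h')) inferInstance
  let z := pullback.fst (D.pl h').hom f x
  let w := (D.plφ h').left z
  refine ⟨w, ((Over.pullback f).map (D.plι h')).left.isClosedEmbedding.injective ?_⟩
  have e1 : ((Over.pullback f).map (D.plι h')).left ((bcEquiv f _ _ g').left w) = h'.left w := by
    rw [← Scheme.Hom.comp_apply]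
    exact congr($(congrArg Over.Hom.left hg) w)
  rw [e1]
  have e2 : h'.left w = (D.φ G).left ((D.plι h').left z) := by
    have := congr($(congrArg Over.Hom.left (D.plφ_comp h')) z)
    rw [D.θ_eq] at this
    exact this
  rw [e2]
  have e3 : (D.plι h').left z = pullback.fst G.hom f (((Over.pullback f).map (D.plι h')).left x) := by
    have := congr($((isPullback_map (D.plι h')).w) x)
    exact this
  rw [e3, D.φ_left_apply_fst]

end Data

end K401.Frob
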