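import Groth.Agent.AlgGrp.K401.Frob

/-!
# Frobenius data for a purely inseparable extension with exponent
-/

set_option autoImplicit false
open CategoryTheory AlgebraicGeometry CategoryTheory.Limits
universe u

namespace K401.FrobPI

open K401.Frob

lemma fm_integral (X : Scheme.{u}) (p : ℕ) [Fact p.Prime] [FrobSch.IsCharP X p] (m : ℕ) :
    IsIntegralHom (K954.FrobIter.fm X p m) := by
  induction m with
  | zero => rw [K954.FrobIter.fm_zero]; infer_instance
  | succ m ih =>
    rw [K954.FrobIter.fm_succ]
    have := K430.Frob.frob_isIntegralHom X p
    infer_instance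

/-- Characteristic `p`. -/
theorem nonempty_data_of_prime (p : ℕ) [Fact p.Prime] (k K : Type u) [Field k] [CharP k p] [Field K] [Algebra k K]
    [IsPurelyInseparable.HasExponent k K] :
    Nonempty (Data (Spec.map (CommRingCat.ofHom (algebraMap k K)))) := by
  have hE : ExpChar k p := ExpChar.prime Fact.out
  have hK : CharP K p := charP_of_injective_algebraMap (algebraMap k K).injective p
  let n := IsPurelyInseparable.exponent k K
  let φ : K →+* k := IsPurelyInseparable.iterateFrobenius k K p (le_refl n)
  refine ⟨{ σ := Spec.map (CommRingCat.ofHom φ)
            F := fun {X} t => by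
              haveI := FrobSch.IsCharP.of_hom t p
              exact K954.FrobIter.fm X p n
            nat := fun {X Y} g t => ?_
            F_src := ?_
            F_tgt := ?_
            apply := fun {X} t x => ?_
            integral := fun {X} t => ?_ }⟩
  · have := FrobSch.IsCharP.of_hom t p
    have := FrobSch.IsCharP.of_hom (g ≫ t) p
    exact K954.FrobIter.fm_comp p g n
  · have : FrobSch.IsCharP (Spec (CommRingCat.of K)) p := inferInstance
    refine (K954.FrobIter.fm_Spec (CommRingCat.of K) p n (iterateFrobenius K p n)
      (fun x => iterateFrobenius_def p n x)).trans ?_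
    rw [← Spec.map_comp, ← CommRingCat.ofHom_comp]
    congr 2
    ext x
    exact (IsPurelyInseparable.algebraMap_iterateFrobenius k p (le_refl n) x).symm
  · have : FrobSch.IsCharP (Spec (CommRingCat.of k)) p := inferInstance
    refine (K954.FrobIter.fm_Spec (CommRingCat.of k) p n (iterateFrobenius k p n)
      (fun x => iterateFrobenius_def p n x)).trans ?_
    rw [← Spec.map_comp, ← CommRingCat.ofHom_comp]
    congr 2
    ext x
    exact (IsPurelyInseparable.iterateFrobenius_algebraMap K p (le_refl n) x).symm
  · have := FrobSch.IsCharP.of_hom t p
    exact K954.FrobIter.fm_apply X p n x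
  · have := FrobSch.IsCharP.of_hom t p
    exact fm_integral X p n

/-- An isomorphism has trivial Frobenius data. -/
theorem nonempty_data_of_isIso {S S' : Scheme.{u}} (f : S' ⟶ S) [IsIso f] : Nonempty (Data f) :=
  ⟨{ σ := inv f
     F := fun {X} _ => 𝟙 X
     nat := fun g t => by rw [Category.comp_id, Category.id_comp]
     F_src := by rw [IsIso.hom_inv_id]
     F_tgt := by rw [IsIso.inv_hom_id]
     apply := fun _ _ => rfl
     integral := fun _ => inferInstance }⟩

/-- Frobenius data for a purely inseparable extension with exponent (for instance a finite one). -/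
theorem nonempty_data (k K : Type u) [Field k] [Field K] [Algebra k K]
    [IsPurelyInseparable.HasExponent k K] :
    Nonempty (Data (Spec.map (CommRingCat.ofHom (algebraMap k K)))) := by
  obtain ⟨p, hp⟩ := ExpChar.exists k
  cases hp with
  | zero =>
    have hb := IsPurelyInseparable.bijective_algebraMap_of_isSeparable k K
    have : IsIso (CommRingCat.ofHom (algebraMap k K)) := by
      rw [ConcreteCategory.isIso_iff_bijective]
      exact hb
    exact nonempty_data_of_isIso _
  | prime hp =>
    have : Fact p.Prime := ⟨hp⟩
    exact nonempty_data_of_prime p k K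

end K401.FrobPI
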