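import Groth.Agent.AlgGrp.K401.FrobPI
import Groth.Agent.S2264
import Groth.Agent.S0353
import Groth.Agent.Sga3C.SchemImage
import Groth.Agent.Sga3C.FlatGeneric
import Groth.Agent.Etcore.SmoothRed
import Mathlib.AlgebraicGeometry.Noetherian
import Mathlib.AlgebraicGeometry.Morphisms.Smooth

/-!
# A high power of Frobenius factors through a closed subscheme with the same space
-/

set_option autoImplicit false
open CategoryTheory MonoidalCategory CartesianMonoidalCategory MonObj GrpObj AlgebraicGeometry CategoryTheory.Limits
universe u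

namespace K401.FrobRed

open K401.Frob K954.FrobIter

/-- The ideal of a surjective closed immersion is contained in the nilradical. -/
theorem ker_le_nilradical {X₀ X : Scheme.{u}} (i : X₀ ⟶ X) [IsClosedImmersion i] [Surjective i] :
    i.ker ≤ X.nilradical := by
  rw [← Scheme.IdealSheafData.vanishingIdeal_top,
    ← Scheme.IdealSheafData.le_support_iff_le_vanishingIdeal]
  intro x _
  have h2 : x ∈ (i.ker.support : Set X) := by
    rw [Scheme.Hom.support_ker]
    obtain ⟨y, rfl⟩ := i.surjective x
    exact subset_closure ⟨y, rfl⟩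
  exact h2

/-- On a Noetherian scheme of characteristic `p` a high power of Frobenius factors through any closed
subscheme with the same underlying space. -/
theorem exists_factor_fm (X : Scheme.{u}) [IsNoetherian X] (p : ℕ) [Fact p.Prime] [FrobSch.IsCharP X p]
    {X' : Scheme.{u}} (i : X' ⟶ X) [IsClosedImmersion i] [Surjective i] :
    ∃ m : ℕ, ∀ n, m ≤ n → ∃ v : X ⟶ X', v ≫ i = fm X p n := by
  obtain ⟨m, hm⟩ := Groth.Agent.S2264.result X
  refine ⟨m, fun n hn => ?_⟩
  have hint := K401.FrobPI.fm_integral X p n
  refine ⟨IsClosedImmersion.lift i (fm X p n) ?_, IsClosedImmersion.lift_fac _ _ _⟩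
  intro U a ha
  have h1 : a ∈ X.nilradical.ideal U := ker_le_nilradical i U ha
  have h2 : a ^ m = 0 := by
    have h3 : (X.nilradical ^ m).ideal U = ⊥ := by rw [hm]; rfl
    rw [Scheme.IdealSheafData.ideal_pow, Pi.pow_apply] at h3
    have h4 := Ideal.pow_mem_pow h1 m
    rwa [h3] at h4
  have h5 : m ≤ p ^ n := hn.trans (Nat.lt_pow_self (Fact.out : p.Prime).one_lt).le
  rw [Scheme.Hom.ker_apply, RingHom.mem_ker]
  have h6 : a ^ p ^ n = 0 := pow_eq_zero_of_le h5 h2
  have h7 := fm_appLE X p n U.1 (fm X p n ⁻¹ᵁ U.1) le_rfl (fm_preimage X p n U.1).le a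
  rw [Scheme.Hom.appLE_eq_app] at h7
  rw [h7, ← map_pow, h6, map_zero]

/-- Frobenius data in characteristic `p` with a high power of Frobenius. -/
theorem exists_data_of_prime (p : ℕ) [Fact p.Prime] (k K : Type u) [Field k] [CharP k p] [Field K] [Algebra k K]
    [IsPurelyInseparable.HasExponent k K] (N : ℕ) :
    ∃ (D : Data (Spec.map (CommRingCat.ofHom (algebraMap k K)))) (n : ℕ), N ≤ n ∧
      ∀ (X : Scheme.{u}) (t : X ⟶ Spec (CommRingCat.of k)) (_ : FrobSch.IsCharP X p), D.F t = fm X p n := by
  have hE : ExpChar k p := ExpChar.prime Fact.out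
  have hK : CharP K p := charP_of_injective_algebraMap (algebraMap k K).injective p
  let n := max N (IsPurelyInseparable.exponent k K)
  have hn : IsPurelyInseparable.exponent k K ≤ n := le_max_right _ _
  let φ : K →+* k := IsPurelyInseparable.iterateFrobenius k K p hn
  refine ⟨{ σ := Spec.map (CommRingCat.ofHom φ)
            F := fun {X} t => by
              haveI := FrobSch.IsCharP.of_hom t p
              exact K954.FrobIter.fm X p n
            nat := fun {X Y} g t => ?_
            F_src := ?_
            F_tgt := ?_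
            apply := fun {X} t x => ?_
            integral := fun {X} t => ?_ }, n, le_max_left _ _, fun X t _ => rfl⟩
  · have := FrobSch.IsCharP.of_hom t p
    have := FrobSch.IsCharP.of_hom (g ≫ t) p
    exact K954.FrobIter.fm_comp p g n
  · have : FrobSch.IsCharP (Spec (CommRingCat.of K)) p := inferInstance
    refine (K954.FrobIter.fm_Spec (CommRingCat.of K) p n (iterateFrobenius K p n)
      (fun x => iterateFrobenius_def p n x)).trans ?_
    rw [← Spec.map_comp, ← CommRingCat.ofHom_comp]
    congr 2
    ext x
    exact (IsPurelyInseparable.algebraMap_iterateFrobenius k p hn x).symm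
  · have : FrobSch.IsCharP (Spec (CommRingCat.of k)) p := inferInstance
    refine (K954.FrobIter.fm_Spec (CommRingCat.of k) p n (iterateFrobenius k p n)
      (fun x => iterateFrobenius_def p n x)).trans ?_
    rw [← Spec.map_comp, ← CommRingCat.ofHom_comp]
    congr 2
    ext x
    exact (IsPurelyInseparable.iterateFrobenius_algebraMap K p hn x).symm
  · have := FrobSch.IsCharP.of_hom t p
    exact K954.FrobIter.fm_apply X p n x
  · have := FrobSch.IsCharP.of_hom t p
    exact K401.FrobPI.fm_integral X p n

variable {k K : Type u} [Field k] [Field K] [Algebra k K]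

/-- If `v ≫ j` is the Frobenius of `G_K` then `φ` factors through `j`. -/
theorem exists_factor_φ (D : Data (Spec.map (CommRingCat.ofHom (algebraMap k K))))
    (G : Over (Spec (CommRingCat.of k))) (G' : Over (Spec (CommRingCat.of K)))
    (j : G' ⟶ Red.bc (Spec.map (CommRingCat.ofHom (algebraMap k K))) G) [IsClosedImmersion j.left]
    (v : (Red.bc (Spec.map (CommRingCat.ofHom (algebraMap k K))) G).left ⟶ G'.left)
    (hv : v ≫ j.left = D.F ((Red.bc (Spec.map (CommRingCat.ofHom (algebraMap k K))) G).hom ≫
      Spec.map (CommRingCat.ofHom (algebraMap k K)))) :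
    ∃ φ' : (Over.map D.σ).obj G ⟶ G', φ' ≫ j = D.φ G := by
  let f := Spec.map (CommRingCat.ofHom (algebraMap k K))
  let ε : Over.mk (pullback.fst G.hom f ≫ G.hom ≫ D.σ) ⟶ (Over.map D.σ).obj G :=
    Over.homMk (pullback.fst G.hom f) rfl
  have hf : Flat ε.left := inferInstanceAs (Flat (pullback.fst G.hom f))
  have hs : Surjective ε.left := inferInstanceAs (Surjective (pullback.fst G.hom f))
  have hdom : IsSchemeTheoreticallyDominant ε.left :=
    Groth.Agent.Sga3C.FlatGeneric.isSchemeTheoreticallyDominant_of_flat_surjective _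
  have e1 : v ≫ j.left = ε.left ≫ (D.φ G).left := by
    rw [hv]
    change _ = pullback.fst G.hom f ≫ (D.φ G).left
    rw [D.fst_φ]
    have : pullback.fst G.hom f ≫ G.hom = pullback.snd G.hom f ≫ f := pullback.condition
    rw [this]
    rfl
  let y : Over.mk (pullback.fst G.hom f ≫ G.hom ≫ D.σ) ⟶ G' := Over.homMk v (by
    have h2 : v ≫ G'.hom = v ≫ j.left ≫ (Red.bc f G).hom := by rw [Over.w j]
    have h3 := Over.w (D.φ G)
    have h4 := congrArg (· ≫ (Red.bc f G).hom) e1
    simp only [Category.assoc] at h4
    refine h2.trans (h4.trans ?_)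
    rw [Over.w]
    rfl)
  exact Groth.Agent.Sga3C.SchemImage.exists_lift_over ε (D.φ G) j y (by
    apply Over.OverMorphism.ext
    exact e1)

/-- For a purely inseparable extension `K/k` with exponent, a `k`-group `G` of finite type and a closed subscheme
`G'` of `G_K` with the same underlying space, there are Frobenius data such that `φ : G ⟶ G_K` factors through `G'`. -/
theorem exists_data_factor [IsPurelyInseparable.HasExponent k K]
    (G : Over (Spec (CommRingCat.of k))) [GrpObj G] [LocallyOfFiniteType G.hom] [QuasiCompact G.hom]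
    (G' : Over (Spec (CommRingCat.of K)))
    (j : G' ⟶ Red.bc (Spec.map (CommRingCat.ofHom (algebraMap k K))) G) [IsClosedImmersion j.left]
    [Surjective j.left] :
    ∃ (D : Data (Spec.map (CommRingCat.ofHom (algebraMap k K)))) (φ' : (Over.map D.σ).obj G ⟶ G'),
      φ' ≫ j = D.φ G := by
  have hft : LocallyOfFiniteType (Red.bc (Spec.map (CommRingCat.ofHom (algebraMap k K))) G).hom :=
    inferInstanceAs (LocallyOfFiniteType (pullback.snd G.hom (Spec.map (CommRingCat.ofHom (algebraMap k K)))))
  have hqc : QuasiCompact (Red.bc (Spec.map (CommRingCat.ofHom (algebraMap k K))) G).hom :=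
    inferInstanceAs (QuasiCompact (pullback.snd G.hom (Spec.map (CommRingCat.ofHom (algebraMap k K)))))
  obtain ⟨p, hp⟩ := ExpChar.exists k
  cases hp with
  | zero =>
    obtain ⟨D⟩ := K401.FrobPI.nonempty_data k K
    have hK : CharZero K := charZero_of_injective_algebraMap (algebraMap k K).injective
    have hsm : Smooth (Red.bc (Spec.map (CommRingCat.ofHom (algebraMap k K))) G).hom :=
      Groth.Agent.S0353.result K _
    have hred : IsReduced (Red.bc (Spec.map (CommRingCat.ofHom (algebraMap k K))) G).left :=
      Groth.Agent.Etcore.SmoothRed.isReduced_of_smooth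
        (Red.bc (Spec.map (CommRingCat.ofHom (algebraMap k K))) G).hom
    have hiso : IsIso j.left := isIso_of_isClosedImmersion_of_surjective j.left
    have hiso' : IsIso j := by
      have : IsIso ((Over.forget _).map j) := hiso
      exact isIso_of_reflects_iso j (Over.forget _)
    exact ⟨D, D.φ G ≫ inv j, by rw [Category.assoc, IsIso.inv_hom_id, Category.comp_id]⟩
  | prime hp =>
    have : Fact p.Prime := ⟨hp⟩
    have hK : CharP K p := charP_of_injective_algebraMap (algebraMap k K).injective p
    have hc : FrobSch.IsCharP (Red.bc (Spec.map (CommRingCat.ofHom (algebraMap k K))) G).left p :=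
      FrobSch.IsCharP.of_hom (Red.bc (Spec.map (CommRingCat.ofHom (algebraMap k K))) G).hom p
    have hN : IsNoetherian (Red.bc (Spec.map (CommRingCat.ofHom (algebraMap k K))) G).left :=
      { toIsLocallyNoetherian := LocallyOfFiniteType.isLocallyNoetherian
          (Red.bc (Spec.map (CommRingCat.ofHom (algebraMap k K))) G).hom
        toCompactSpace := (quasiCompact_iff_compactSpace
          (Red.bc (Spec.map (CommRingCat.ofHom (algebraMap k K))) G).hom).1 inferInstance }
    obtain ⟨m, hm⟩ := exists_factor_fm (Red.bc (Spec.map (CommRingCat.ofHom (algebraMap k K))) G).left p j.left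
    obtain ⟨D, n, hn, hD⟩ := exists_data_of_prime p k K m
    obtain ⟨v, hv⟩ := hm n hn
    obtain ⟨φ', hφ⟩ := exists_factor_φ D G G' j v (by rw [hv, hD _ _ hc])
    exact ⟨D, φ', hφ⟩

end K401.FrobRed
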