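import Groth.Agent.AlgGrp.K401.PIDesc
import Groth.Agent.AlgGrp.K401.FrobRed
import Groth.Agent.AlgGrp.K401.ChevSm
import Groth.Agent.Sga3B.RedIdComp
import Mathlib.AlgebraicGeometry.Group.Smooth

/-!
# Every group of finite type over a field has a homomorphism to a proper group with affine kernel

(given the structure theorem of Chevalley over algebraically closed fields)
-/

set_option autoImplicit false
open CategoryTheory MonoidalCategory CartesianMonoidalCategory MonObj GrpObj AlgebraicGeometry CategoryTheory.Limits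
universe u

namespace K401.GenAK

open Groth.Agent Groth.Agent.Books.AlgPts Groth.Agent.Books.AlgPtsGrp K401.AffKer

/-- Chevalley's structure theorem over algebraically closed fields. -/
def Chev : Prop := ∀ (K : Type u) [Field K] [IsAlgClosed K] (G : Over (Spec (CommRingCat.of K))) [GrpObj G]
    [Smooth G.hom] [QuasiCompact G.hom] [ConnectedSpace ↥G.left],
    ∃ (L : Over (Spec (CommRingCat.of K))) (_ : GrpObj L) (l : L ⟶ G) (Q : Over (Spec (CommRingCat.of K)))
      (_ : GrpObj Q) (q : G ⟶ Q), IsMonHom l ∧ IsClosedImmersion l.left ∧ IsAffine L.left ∧ Smooth L.hom ∧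
      ConnectedSpace ↥L.left ∧ AlgGrp.IsNormalHom l ∧ IsMonHom q ∧ Surjective q.left ∧ Flat q.left ∧
      AlgGrp.IsKernel l q ∧ IsProper Q.hom ∧ Smooth Q.hom ∧ ConnectedSpace ↥Q.left

variable {k : Type u} [Field k]

/-- The smooth case. -/
theorem hasAK_of_smooth (hC : Chev.{u}) (G : Over (Spec (CommRingCat.of k))) [GrpObj G] [Smooth G.hom]
    [QuasiCompact G.hom] : HasAK G := by
  let Ω := AlgebraicClosure k
  let f : Spec (CommRingCat.of Ω) ⟶ Spec (CommRingCat.of k) := Spec.map (CommRingCat.ofHom (algebraMap k Ω))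
  have i1 : Smooth (Red.bc f G).hom := inferInstanceAs (Smooth (pullback.snd G.hom f))
  have i2 : QuasiCompact (Red.bc f G).hom := inferInstanceAs (QuasiCompact (pullback.snd G.hom f))
  obtain ⟨U, _, u, hu1, hu2, hu3, hu4, hu5⟩ := Sga3B.RedIdComp.exists_redIdComp (Red.bc f G)
  have i3 : QuasiCompact U.hom := by rw [← Over.w u]; infer_instance
  obtain ⟨L, _, l, Q, _, q, h1, h2, h3, h4, h5, h6, h7, h8, h9, h10, h11, h12, h13⟩ := hC Ω U
  obtain ⟨Q', _, p, hp1, hp2, hp3, hp4, hp5⟩ := ChevSm.exists_quot (Red.bc f G) U L Q u hu5 l q h10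
  have i4 : IsClosedImmersion (l ≫ u).left := by rw [Over.comp_left]; infer_instance
  exact PIDesc.hasAK_of_chev G f rfl (l ≫ u) p hp4

/-- The reduced subscheme of a group, when it is geometrically reduced, is a smooth subgroup. -/
theorem exists_grpObj_of_geometricallyReduced {G G' : Over (Spec (CommRingCat.of k))} [GrpObj G]
    [LocallyOfFiniteType G.hom] (j : G' ⟶ G) [IsClosedImmersion j.left] [Surjective j.left]
    [GeometricallyReduced G'.hom] : ∃ _ : GrpObj G', IsMonHom j ∧ Smooth G'.hom := by
  have hft : LocallyOfFiniteType G'.hom := by rw [← Over.w j]; infer_instance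
  have hfl : Flat G'.hom := inferInstance
  have hN : IsLocallyNoetherian G'.left := LocallyOfFiniteType.isLocallyNoetherian G'.hom
  have hred : IsReduced G'.left := GeometricallyReduced.isReduced_of_flat_of_isLocallyNoetherian G'.hom
  have hred2 : IsReduced (G' ⊗ G').left := inferInstanceAs (IsReduced (pullback G'.hom G'.hom))
  have hred0 : IsReduced (𝟙_ (Over (Spec (CommRingCat.of k)))).left := by
    change IsReduced (Spec (CommRingCat.of k))
    infer_instance
  have hr : Set.range j.left = Set.univ := Set.range_eq_univ.mpr j.left.surjective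
  have hmono : Mono j := mono_of_isClosedImmersion j
  obtain ⟨inst, hj⟩ := Sga3C.SubGrp.exists_grpObj_of_mono j
    (exists_lift j ((j ⊗ₘ j) ≫ μ[G]) (by rw [hr]; exact Set.subset_univ _))
    (exists_lift j η[G] (by rw [hr]; exact Set.subset_univ _))
    (exists_lift j (j ≫ ι[G]) (by rw [hr]; exact Set.subset_univ _))
  refine ⟨inst, hj, ?_⟩
  have : GrpObj (Over.mk G'.hom) := inst
  exact smooth_of_grpObj G'.hom

/-- The general case. -/
theorem hasAK (hC : Chev.{u}) (G : Over (Spec (CommRingCat.of k))) [GrpObj G] [LocallyOfFiniteType G.hom]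
    [QuasiCompact G.hom] : HasAK G := by
  let _ : G.left.Over (Spec (CommRingCat.of k)) := ⟨G.hom⟩
  have e₀ : G.left ↘ Spec (CommRingCat.of k) = G.hom := rfl
  have hft : LocallyOfFiniteType (G.left ↘ Spec (CommRingCat.of k)) := by rw [e₀]; infer_instance
  have hirr : (irreducibleComponents (G.left : Type u)).Finite := by
    have : CompactSpace G.left := (quasiCompact_iff_compactSpace G.hom).1 inferInstance
    have : IsLocallyNoetherian G.left := LocallyOfFiniteType.isLocallyNoetherian G.hom
    have : IsNoetherian G.left := { }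
    exact TopologicalSpace.NoetherianSpace.finite_irreducibleComponents
  obtain ⟨K, _, _, hfd, hpi, hgr⟩ := S1629.result k G.left hirr
  let h : Spec (CommRingCat.of K) ⟶ Spec (CommRingCat.of k) := Spec.map (CommRingCat.ofHom (algebraMap k K))
  let G' : Over (Spec (CommRingCat.of K)) :=
    Over.mk ((Curv2.bc k G.left K).nilradical.subschemeι ≫ Curv2.bcSnd k G.left K)
  let j : G' ⟶ Red.bc h G := Over.homMk (Curv2.bc k G.left K).nilradical.subschemeι rfl
  have hj1 : IsClosedImmersion j.left :=
    inferInstanceAs (IsClosedImmersion (Curv2.bc k G.left K).nilradical.subschemeι)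
  have hj2 : Surjective j.left := by
    refine ⟨Set.range_eq_univ.mp ?_⟩
    change Set.range (Curv2.bc k G.left K).nilradical.subschemeι = Set.univ
    rw [Scheme.IdealSheafData.range_subschemeι]
    rfl
  have hgr' : GeometricallyReduced G'.hom := hgr
  have i1 : LocallyOfFiniteType (Red.bc h G).hom := inferInstanceAs (LocallyOfFiniteType (pullback.snd G.hom h))
  have i2 : QuasiCompact (Red.bc h G).hom := inferInstanceAs (QuasiCompact (pullback.snd G.hom h))
  obtain ⟨inst, hj, hsm⟩ := exists_grpObj_of_geometricallyReduced j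
  have i3 : QuasiCompact G'.hom := by rw [← Over.w j]; infer_instance
  obtain ⟨D, φ', hφ⟩ := K401.FrobRed.exists_data_factor G G' j
  exact hasAK_of_factor D j φ' hφ (hasAK_of_smooth hC G')

end K401.GenAK
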