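import Mathlib.CategoryTheory.Monoidal.Cartesian.Grp

/-!
# Pointed maps of group objects and the difference morphism
-/

set_option autoImplicit false
open CategoryTheory MonoidalCategory CartesianMonoidalCategory MonObj GrpObj

namespace K401.HomOfDiff

variable {C : Type*} [Category C] [CartesianMonoidalCategory C] {H G : C} [GrpObj H] [GrpObj G]

/-- `(x, y) ↦ f (x y) (f y)⁻¹ (f x)⁻¹` -/
abbrev diff (f : H ⟶ G) : H ⊗ H ⟶ G := (μ[H] ≫ f) * (snd H H ≫ f)⁻¹ * (fst H H ≫ f)⁻¹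

theorem isMonHom_of_diff (f : H ⟶ G) (hf : η[H] ≫ f = η[G]) (hD : diff f = 1) : IsMonHom f := by
  refine ⟨hf, ?_⟩
  rw [diff, _root_.mul_assoc, ← _root_.mul_inv_rev, mul_inv_eq_one] at hD
  rw [hD, Hom.mul_def]
  congr 1
  ext1 <;> simp

theorem diff_right (f : H ⟶ G) (hf : η[H] ≫ f = η[G]) :
    (H ◁ η[H]) ≫ diff f = toUnit _ ≫ η[G] := by
  have e1 : (H ◁ η[H]) ≫ μ[H] = fst H (𝟙_ C) := by rw [MonObj.mul_one, CartesianMonoidalCategory.rightUnitor_hom]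
  have e2 : (H ◁ η[H]) ≫ snd H H ≫ f = 1 := by
    rw [whiskerLeft_snd_assoc, hf, one_eq_one, comp_one]
  simp only [diff, comp_mul, GrpObj.comp_inv]
  rw [← Category.assoc, e1, e2]
  simp [one_eq_one]

theorem diff_left (f : H ⟶ G) (hf : η[H] ≫ f = η[G]) :
    snd H H ≫ lift (toUnit H ≫ η[H]) (𝟙 H) ≫ diff f = 1 := by
  have e1 : lift (toUnit H ≫ η[H]) (𝟙 H) ≫ μ[H] = 𝟙 H := by simp
  have e2 : lift (toUnit H ≫ η[H]) (𝟙 H) ≫ fst H H ≫ f = 1 := by
    rw [lift_fst_assoc, Category.assoc, hf, one_eq_one, comp_one]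
  have e3 : lift (toUnit H ≫ η[H]) (𝟙 H) ≫ snd H H ≫ f = f := by
    rw [lift_snd_assoc, Category.id_comp]
  simp only [diff, comp_mul, GrpObj.comp_inv]
  rw [← Category.assoc (lift _ _) (μ[H]), e1, e2, e3]
  simp

end K401.HomOfDiff
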