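import Groth.Agent.AlgGrp.K401.DescNorm
import Groth.Agent.AlgGrp.K401.FrobPI
import Groth.Agent.Sga3B.DsBc
import Groth.Agent.Sga3.H821.AffProper
import Groth.Agent.S1629

/-!
# Homomorphisms to proper groups with affine kernel: descent from an algebraic closure, smooth case
-/

set_option autoImplicit false
open CategoryTheory MonoidalCategory CartesianMonoidalCategory MonObj GrpObj AlgebraicGeometry CategoryTheory.Limits
universe u

namespace K401.PIDesc

open Groth.Agent Groth.Agent.Sga3.H821 Groth.Agent.Sga3B.BcPts Groth.Agent.Sga3B K401.AffKer K401.DescNorm RedIso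

/-- A homomorphism onto a proper group with affine kernel. -/
theorem hasAK_of_kernel {k : Type u} [Field k] {G N R : Over (Spec (CommRingCat.of k))} [GrpObj G] [GrpObj R]
    (n : N ⟶ G) (p : G ⟶ R) [IsMonHom p] (hk : AlgGrp.IsKernel n p) [IsAffine N.left] [IsProper R.hom] : HasAK G := by
  refine ⟨R, inferInstance, p, inferInstance, inferInstance, ?_⟩
  obtain ⟨t, ht⟩ := K395.Pts.exists_of_comp_eq_one hk (KerGrp.kerι p) (KerGrp.kerι_comp p)
  obtain ⟨s, hs⟩ := KerGrp.exists_lift p n (by
    have := K395.Pts.comp_eq_one hk (𝟙 N)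
    rwa [Category.id_comp] at this)
  have hn : Mono n := K395.Pts.mono_of_isKernel hk
  let e : KerGrp.kerObj p ≅ N := ⟨t, s, by rw [← cancel_mono (KerGrp.kerι p), Category.assoc, hs, ht, Category.id_comp],
    by rw [← cancel_mono n, Category.assoc, ht, hs, Category.id_comp]⟩
  have hI : IsIso e.hom.left := inferInstanceAs (IsIso ((Over.forget _).mapIso e).hom)
  exact IsAffine.of_isIso e.hom.left

section step

variable {k K Ω : Type u} [Field k] [Field K] [Field Ω]
  (g : Spec (CommRingCat.of Ω) ⟶ Spec (CommRingCat.of K)) (h : Spec (CommRingCat.of K) ⟶ Spec (CommRingCat.of k))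
  [IsIntegralHom g] [Surjective g]
  {G : Over (Spec (CommRingCat.of k))} [GrpObj G] [Smooth G.hom] [QuasiCompact G.hom]
  {L Q : Over (Spec (CommRingCat.of Ω))} [GrpObj L] [GrpObj Q]
  (l : L ⟶ Red.bc (g ≫ h) G) [IsMonHom l] [IsClosedImmersion l.left] [IsAffine L.left] [Smooth L.hom]
  (q : Red.bc (g ≫ h) G ⟶ Q) [IsMonHom q] [Surjective q.left] [Flat q.left] (hk : AlgGrp.IsKernel l q)
  [IsProper Q.hom]
  (hsat : (pullback.fst G.hom (g ≫ h)) ⁻¹' ((pullback.fst G.hom (g ≫ h)) '' Set.range l.left) = Set.range l.left)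
  {M : Over (Spec (CommRingCat.of K))} (m : M ⟶ Red.bc h G) [IsClosedImmersion m.left] [GeometricallyReduced M.hom]
  (hr : Set.range m.left = (pullback.fst G.hom h) ⁻¹' ((pullback.fst G.hom (g ≫ h)) '' Set.range l.left))

include hk hsat hr in
theorem hasAK_step : HasAK (Red.bc h G) := by
  let e := und (BcIso.bcCompIso g h G)
  have he : e.hom.left ≫ pullback.fst (Red.bc h G).hom g ≫ pullback.fst G.hom h = pullback.fst G.hom (g ≫ h) :=
    DsBc.bcComp_fst g h G
  have hei : e.inv.left ≫ pullback.fst G.hom (g ≫ h) = pullback.fst (Red.bc h G).hom g ≫ pullback.fst G.hom h := by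
    rw [← he, ← Category.assoc, ← Over.comp_left, Iso.inv_hom_id]
    exact Category.id_comp _
  have hI : IsIso e.hom.left := inferInstanceAs (IsIso ((Over.forget _).mapIso e).hom)
  have hI' : IsIso e.inv.left := inferInstanceAs (IsIso ((Over.forget _).mapIso e).inv)
  let l' : L ⟶ Red.bc g (Red.bc h G) := l ≫ e.hom
  let q' : Red.bc g (Red.bc h G) ⟶ Q := e.inv ≫ q
  have i1 : IsMonHom l' := inferInstance
  have i2 : IsMonHom q' := inferInstance
  have i3 : IsClosedImmersion l'.left := by
    change IsClosedImmersion (l.left ≫ e.hom.left); infer_instance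
  have i4 : Surjective q'.left := by
    change Surjective (e.inv.left ≫ q.left); infer_instance
  have i5 : Flat q'.left := by
    change Flat (e.inv.left ≫ q.left); infer_instance
  have hmono : Mono l' := Books.AlgPtsGrp.mono_of_isClosedImmersion l'
  have hk' : AlgGrp.IsKernel l' q' := by
    apply K395.Pts.isKernel_of_pts
    · intro T n
      simp only [l', q', Category.assoc, Iso.hom_inv_id_assoc]
      rw [← Category.assoc]
      exact K395.Pts.comp_eq_one hk n
    · intro T x hx
      obtain ⟨n, hn⟩ := K395.Pts.exists_of_comp_eq_one hk (x ≫ e.inv) (by rw [Category.assoc]; exact hx)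
      exact ⟨n, by simp only [l']; rw [← Category.assoc, hn, Category.assoc, Iso.inv_hom_id, Category.comp_id]⟩
  have hN : AlgGrp.IsNormalHom l' := AffProper.isNormalHom_of_isKernel Ω l' q' hk'
  have hLr : IsReduced L.left := Etcore.SmoothRed.isReduced_of_smooth L.hom
  have hMr : IsReduced (Red.bc g M).left := by
    have : Flat M.hom := inferInstance
    exact inferInstanceAs (IsReduced (pullback M.hom g))
  have hmc : IsClosedImmersion ((Over.pullback g).map m).left :=
    MorphismProperty.of_isPullback (Parab.EtHom.isPullback_map g m) inferInstance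
  have hrange : Set.range l'.left = Set.range ((Over.pullback g).map m).left := by
    have h1 : Set.range ((Over.pullback g).map m).left = (pullback.fst (Red.bc h G).hom g) ⁻¹' (Set.range m.left) :=
      DescSub.range_of_isPullback (Parab.EtHom.isPullback_map g m).flip
    rw [h1, hr, ← Set.preimage_comp]
    have h2 : (pullback.fst G.hom h : _ → _) ∘ (pullback.fst (Red.bc h G).hom g : _ → _) =
        (pullback.fst G.hom (g ≫ h) : _ → _) ∘ (e.inv.left : _ → _) := by
      funext x
      have := congr($hei x)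
      simp only [Scheme.Hom.comp_apply] at this
      exact this.symm
    rw [h2, Set.preimage_comp, hsat]
    ext x
    constructor
    · rintro ⟨y, rfl⟩
      refine ⟨y, ?_⟩
      change _ = e.inv.left ((l.left ≫ e.hom.left) y)
      rw [← Scheme.Hom.comp_apply, Category.assoc, ← Over.comp_left, Iso.hom_inv_id]
      rfl
    · rintro ⟨y, hy⟩
      refine ⟨y, ?_⟩
      change (l.left ≫ e.hom.left) y = x
      rw [Scheme.Hom.comp_apply, hy, ← Scheme.Hom.comp_apply, ← Over.comp_left, Iso.inv_hom_id]
      rfl
  obtain ⟨e', he'⟩ := exists_iso_of_range l' ((Over.pullback g).map m) hrange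
  have i6 : Smooth (Red.bc h G).hom := inferInstanceAs (Smooth (pullback.snd G.hom h))
  have i7 : QuasiCompact (Red.bc h G).hom := inferInstanceAs (QuasiCompact (pullback.snd G.hom h))
  obtain ⟨_, R, _, p, h1, h2, h3, h4, h5, h6, h7, h8⟩ :=
    DescNorm.exists_quot l' hN q' hk' M m inferInstance e' he'
  exact hasAK_of_kernel m p h7

end step

variable {k Ω : Type u} [Field k] [Field Ω] [IsAlgClosed Ω] [Algebra k Ω] [Algebra.IsAlgebraic k Ω]

theorem hasAK_of_chev (G : Over (Spec (CommRingCat.of k))) [GrpObj G] [Smooth G.hom] [QuasiCompact G.hom]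
    {L Q : Over (Spec (CommRingCat.of Ω))} [GrpObj L] [GrpObj Q]
    (f : Spec (CommRingCat.of Ω) ⟶ Spec (CommRingCat.of k))
    (hf : f = Spec.map (CommRingCat.ofHom (algebraMap k Ω)))
    (l : L ⟶ Red.bc f G) [IsMonHom l] [IsClosedImmersion l.left] [IsAffine L.left] [Smooth L.hom]
    [ConnectedSpace L.left]
    (q : Red.bc f G ⟶ Q) [IsMonHom q] [Surjective q.left] [Flat q.left] (hk : AlgGrp.IsKernel l q)
    [IsProper Q.hom] : HasAK G := by
  have hfi : IsIntegralHom f := by
    rw [hf, IsIntegralHom.SpecMap_iff]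
    exact algebraMap_isIntegral_iff.mpr inferInstance
  have hgc := ChevDesc.geometricallyConnected L
  have hsym : DescSub.Sym l := MemSym.sym l q hk
  have hsat := DescSub.preimage_image_eq l hsym
  let Z : Set G.left := (pullback.fst G.hom f) '' Set.range l.left
  have hZ : IsClosed Z := by
    apply (pullback.fst G.hom f).isClosedMap
    exact l.left.isClosedEmbedding.isClosed_range
  obtain ⟨M₀, m₀, hm₀, hM₀, hr₀⟩ := Ega1.ReducedSub.exists_reduced_immersion Z hZ.isLocallyClosed
  have hm₀c : IsClosedImmersion m₀ := IsClosedImmersion.of_isPreimmersion m₀ (by rw [hr₀]; exact hZ)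
  let _ : M₀.Over (Spec (CommRingCat.of k)) := ⟨m₀ ≫ G.hom⟩
  have e₀ : M₀ ↘ Spec (CommRingCat.of k) = m₀ ≫ G.hom := rfl
  have hft : LocallyOfFiniteType (M₀ ↘ Spec (CommRingCat.of k)) := by rw [e₀]; infer_instance
  have hirr : (irreducibleComponents (M₀ : Type u)).Finite := by
    have : CompactSpace M₀ := by
      have : QuasiCompact (m₀ ≫ G.hom) := inferInstance
      exact (quasiCompact_iff_compactSpace (m₀ ≫ G.hom)).1 this
    have : IsLocallyNoetherian M₀ := LocallyOfFiniteType.isLocallyNoetherian (M₀ ↘ Spec (CommRingCat.of k))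
    have : IsNoetherian M₀ := { }
    exact TopologicalSpace.NoetherianSpace.finite_irreducibleComponents
  obtain ⟨K, _, _, hfd, hpi, hgr⟩ := S1629.result k M₀ hirr
  let j : K →ₐ[k] Ω := IsAlgClosed.lift
  let g : Spec (CommRingCat.of Ω) ⟶ Spec (CommRingCat.of K) := Spec.map (CommRingCat.ofHom (j : K →+* Ω))
  let h : Spec (CommRingCat.of K) ⟶ Spec (CommRingCat.of k) := Spec.map (CommRingCat.ofHom (algebraMap k K))
  have hgh : f = g ≫ h := by
    rw [hf, ← Spec.map_comp, ← CommRingCat.ofHom_comp]
    congr 2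
    exact j.comp_algebraMap.symm
  subst hgh
  have hgi : IsIntegralHom g := by
    have hh : IsSeparated h := inferInstance
    exact MorphismProperty.of_postcomp (W := @IsIntegralHom) (W' := @IsSeparated) g h hh hfi
  have hgs : Surjective g := inferInstance
  let m₀' : Over.mk (m₀ ≫ G.hom) ⟶ G := Over.homMk m₀ rfl
  let ν := (Curv2.bc k M₀ K).nilradical.subschemeι
  let M : Over (Spec (CommRingCat.of K)) := Over.mk (ν ≫ Curv2.bcSnd k M₀ K)
  have hcl : IsClosedImmersion ((Over.pullback h).map m₀').left :=
    MorphismProperty.of_isPullback (Parab.EtHom.isPullback_map h m₀') hm₀c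
  let w : Curv2.bc k M₀ K ⟶ (Red.bc h G).left := ((Over.pullback h).map m₀').left
  have hw : IsClosedImmersion w := hcl
  let m : M ⟶ Red.bc h G := Over.homMk (ν ≫ w) (by
    have := Over.w ((Over.pullback h).map m₀')
    exact (Category.assoc _ _ _).trans (congrArg (ν ≫ ·) this))
  have hmc : IsClosedImmersion m.left := inferInstanceAs (IsClosedImmersion (ν ≫ w))
  have hgr' : GeometricallyReduced M.hom := hgr
  refine hasAK_of_bc (K401.FrobPI.nonempty_data k K).some (hasAK_step g h l q hk hsat m ?_)
  change Set.range (ν ≫ w) = (pullback.fst G.hom h) ⁻¹' Z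
  have h1 : Set.range ((Over.pullback h).map m₀').left = (pullback.fst G.hom h) ⁻¹' (Set.range m₀) :=
    DescSub.range_of_isPullback (Parab.EtHom.isPullback_map h m₀').flip
  rw [← hr₀, ← h1]
  have h2 : Set.range ν = Set.univ := by
    rw [Scheme.IdealSheafData.range_subschemeι]
    rfl
  rw [Scheme.Hom.comp_base, TopCat.coe_comp, Set.range_comp, h2, Set.image_univ]
  rfl

end K401.PIDesc
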