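import Groth.Agent.AlgGrp.K401.CompDef
import Groth.Prelude.Def_AlgGrp
import Groth.Prelude.Def_AGF
import Groth.Prelude.Def_CohB1
import Groth.Prelude.Def_Pi1

/-!
# PLAN for S14591 and S11422 (equivariant projective compactification of `G/H`); nodes, all sorried here

Never import this file in a shipped proof.  Nodes N2, N3, N4, N8, N9, N10 are posted as jobs; N1, N5, N6, N7, N11 are done
by helper401 (K401.RelHom, K401.PnAct, K401.PnEmb, K401.TwistDesc, K401.TorsAct).
Put your module in your own namespace (`Groth/Agent/AlgGrp/K<n>/...`), importing `Groth.Agent.AlgGrp.K401.CompDef`.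
-/

set_option autoImplicit false
universe u
open CategoryTheory CategoryTheory.Limits MonoidalCategory CartesianMonoidalCategory
  AlgebraicGeometry

namespace K401.PlanCompact

open CoactBr K443.PnUni K443.PnMor K690.Chart K690.EqMat K401.CompDef

/-- **N2 (forms on a projective scheme).**  A closed subscheme `Q` of `P^d` has, subordinate to any open cover, a finite
cover by affine opens `U j = {f_j ≠ 0}` (`f_j` forms of one common positive degree, whose opens cover `Q`), with ratio
functions `t i j = f_i / f_j` on `U j`. -/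
theorem exists_ratios {k : Type u} [Field k] {Q : Scheme.{u}} {d : ℕ} (c : Q ⟶ CohB1.ProjSpace d k)
    [IsClosedImmersion c] (V : Q → Q.Opens) (hV : ∀ q, q ∈ V q) :
    ∃ (r : ℕ) (U : Fin r → Q.Opens) (t : ∀ _ j : Fin r, Γ(Q, U j)),
      (⨆ i, U i = ⊤) ∧ (∀ i, IsAffineOpen (U i)) ∧ (∀ i, ∃ q, U i ≤ V q) ∧ (∀ i, t i i = 1) ∧
      (∀ i j, U i ⊓ U j = Q.basicOpen (t i j)) ∧
      (∀ i j l, Q.presheaf.map (homOfLE (inf_le_left : U j ⊓ U l ≤ U j)).op (t i j) =
        Q.presheaf.map (homOfLE (inf_le_right : U j ⊓ U l ≤ U l)).op (t i l) *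
          Q.presheaf.map (homOfLE (inf_le_left : U j ⊓ U l ≤ U j)).op (t l j)) := by
  sorry

/-- **N3 (equivariant matrices on charts of a torsor which need not be affine).**  As `K690.EqMat.exists_equivMat`, but `π`
is not affine: the chart `R` is an affine open of `G` meeting the fibre (use `K690.EqMat.coc` and
`MatCoc.exists_trivialisation` of `K690.Coinv`). -/
theorem exists_chartMat {k : Type u} [Field k] {M G Q : Over (Spec (CommRingCat.of k))} [GrpObj M]
    {a : AlgGrp.Action M G} {π : G ⟶ Q} (hcart : IsPullback a.act (snd M G) π π)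
    [Flat π.left] [Surjective π.left] [LocallyOfFinitePresentation π.left] [Q.left.IsSeparated]
    {n : ℕ} (ρ : MatRep k M n) (q : Q.left) :
    ∃ V : Q.left.Opens, q ∈ V ∧ ∀ U : Q.left.Opens, U ≤ V → IsAffineOpen U →
      ∃ (R : Type u) (_ : CommRing R) (_ : Algebra k R) (s : sp k R ⟶ G) (M₀ : Matrix (Fin n) (Fin n) R),
        Flat (s ≫ π).left ∧ Set.range (s ≫ π).left = (U : Set Q.left) ∧ IsUnit M₀.det ∧
        ∀ (C : Type u) [CommRing C] [Algebra k C] (x y : R →ₐ[k] C) (g : sp k C ⟶ M),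
          lift g (pt y ≫ s) ≫ a.act = pt x ≫ s → ρ.c g * M₀.map y = M₀.map x := by
  sorry

/-- **N4 (embedding data from charts and ratios).**  Put `g i j := (M₀ i)⁻¹ ρ(trans) (M₀ j)`, which by flat descent is a
matrix over `Γ(Q, U i ⊓ U j)` with `g i j * g j l = g i l`; then `t_{ij}^N g_{ij} = Ĝ_{ij}` extends to a matrix over
`Γ(Q, U j)` (`U i ⊓ U j` is a basic open of the affine `U j`), and for `N` large `Ĝ_{ij} g_{jl} = t_{lj}^N Ĝ_{il}` on
`U j ⊓ U l`.  The embedding data are `F j := (Ĝ_{ij} (M₀ j)⁻¹)_i`, with left inverse `M₀ j` applied to the `j`-th block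
(`Ĝ_{jj} = 1`). -/
theorem nonempty_embData {k : Type u} [Field k] {M G Q : Over (Spec (CommRingCat.of k))} [GrpObj M]
    {a : AlgGrp.Action M G} {π : G ⟶ Q} (hcart : IsPullback a.act (snd M G) π π) [Q.left.IsSeparated]
    {n : ℕ} (ρ : MatRep k M (n + 1)) (r : ℕ) (U : Fin r → Q.left.Opens) (t : ∀ _ j : Fin r, Γ(Q.left, U j))
    (hU : ⨆ i, U i = ⊤) (haff : ∀ i, IsAffineOpen (U i)) (ht : ∀ i, t i i = 1)
    (hb : ∀ i j, U i ⊓ U j = Q.left.basicOpen (t i j))
    (hm : ∀ i j l, Q.left.presheaf.map (homOfLE (inf_le_left : U j ⊓ U l ≤ U j)).op (t i j) =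
        Q.left.presheaf.map (homOfLE (inf_le_right : U j ⊓ U l ≤ U l)).op (t i l) *
          Q.left.presheaf.map (homOfLE (inf_le_left : U j ⊓ U l ≤ U j)).op (t l j))
    (R : Fin r → Type u) [∀ j, CommRing (R j)] [∀ j, Algebra k (R j)] (s : ∀ j, sp k (R j) ⟶ G)
    (M₀ : ∀ j, Matrix (Fin (n + 1)) (Fin (n + 1)) (R j)) (hfl : ∀ j, Flat (s j ≫ π).left)
    (hr : ∀ j, Set.range (s j ≫ π).left = (U j : Set Q.left)) (hdet : ∀ j, IsUnit (M₀ j).det)
    (hM : ∀ (j : Fin r) (C : Type u) [CommRing C] [Algebra k C] (x y : R j →ₐ[k] C) (g : sp k C ⟶ M),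
      lift g (pt y ≫ s j) ≫ a.act = pt x ≫ s j → ρ.c g * (M₀ j).map y = (M₀ j).map x) :
    Nonempty (EmbData a π ρ) := by
  sorry

/-- **N8 (closure of an orbit).**  Over any field, `G` of finite type (not nec. smooth) acting on a separated `W` of finite
type, `w` a rational point whose stabiliser is `h : H ⟶ G` (points form), `X₀ = G/H`.  Then `X₀` is an open subscheme of a
closed `G`-stable subscheme `X` of `W`, with schematically dense image.  (Orbit map `X₀ ⟶ W` is a monomorphism, its range is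
locally closed by `K395.OrbLC.isLocallyClosed_range`; it is an immersion; `X` = schematic image; flat base change of the
schematic image along `G ⊗ W ⟶ W`.) -/
theorem exists_orbit_closure {k : Type u} [Field k] {G H X₀ W : Over (Spec (CommRingCat.of k))} [GrpObj G] [GrpObj H]
    [LocallyOfFiniteType G.hom] [QuasiCompact G.hom] (h : H ⟶ G) [IsMonHom h] [IsClosedImmersion h.left]
    (a₀ : AlgGrp.Action G X₀) (o : 𝟙_ (Over (Spec (CommRingCat.of k))) ⟶ X₀) (hq : AGF.IsQuotient h X₀ a₀ o)
    [LocallyOfFiniteType W.hom] [QuasiCompact W.hom] [IsSeparated W.hom] (aW : AlgGrp.Action G W)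
    (w : 𝟙_ (Over (Spec (CommRingCat.of k))) ⟶ W)
    (hstab : ∀ (T : Over (Spec (CommRingCat.of k))) (g : T ⟶ G),
      lift g (toUnit T ≫ w) ≫ aW.act = toUnit T ≫ w ↔ ∃ t : T ⟶ H, t ≫ h = g) :
    ∃ (X : Over (Spec (CommRingCat.of k))) (a : AlgGrp.Action G X) (u : X₀ ⟶ X) (i : X ⟶ W),
      IsClosedImmersion i.left ∧ (G ◁ i) ≫ aW.act = a.act ≫ i ∧ IsOpenImmersion u.left ∧
      (G ◁ u) ≫ a.act = a₀.act ≫ u ∧ u.left.ker = ⊥ := by
  sorry

/-- **N9 (a line with stabiliser `H` in a representation of `M = H · N`, `N` affine normal).**  Any field, nothing smooth.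
`M_ant ⊆ H` (`K398.Affin.exists_affSeq`; `M_ant/H_ant` is a quotient of an affine group and anti-affine), so `H` is the
preimage of a closed subgroup of the affine group `M/M_ant = Spec O(M)`; then `S3019` (Chevalley). -/
theorem exists_line {k : Type u} [Field k] (M N H P : Over (Spec (CommRingCat.of k))) [GrpObj M] [GrpObj N]
    [GrpObj H] [GrpObj P] [LocallyOfFiniteType M.hom] [QuasiCompact M.hom] [LocallyOfFiniteType P.hom]
    (i : N ⟶ M) (q : M ⟶ P) (h : H ⟶ M) [IsMonHom i] [IsMonHom q] [IsMonHom h] [IsClosedImmersion h.left]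
    [IsClosedImmersion i.left] (hi : AlgGrp.IsKernel i q) [IsAffine N.left] [Flat (h ≫ q).left]
    [Surjective (h ≫ q).left] :
    ∃ (n : ℕ) (ρ : MatRep k M (n + 1)) (v : Fin (n + 1) → k), v ≠ 0 ∧
      ∀ (C : Type u) [CommRing C] [Algebra k C] (g : sp k C ⟶ M),
        (∃ g' : sp k C ⟶ H, g' ≫ h = g) ↔
          ∃ c : C, (ρ.c g).mulVec (fun j => algebraMap k C (v j)) = c • fun j => algebraMap k C (v j) := by
  sorry

/-- **N10 (proper homogeneous spaces are projective).**  Any field, `P` a proper group scheme (possibly non-reduced,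
non-connected), `Q = P/K`.  Over `k̄` the components of `Q_red` are abelian varieties (`P⁰_red` abelian variety, `S1841` for
its quotients), in characteristic `p` an ample module on `Q_red` gives one on `Q` (a power of the absolute Frobenius of `Q`
factors through `Q_red`), descent from `k̄` to `k` is `Groth.Agent.VarietyA.AmpleField.exists_isAmple`. -/
theorem exists_isAmple_of_isQuotient {k : Type u} [Field k] {P K Q : Over (Spec (CommRingCat.of k))} [GrpObj P]
    [GrpObj K] [IsProper P.hom] (h : K ⟶ P) [IsMonHom h] [IsClosedImmersion h.left] (a : AlgGrp.Action P Q)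
    (o : 𝟙_ (Over (Spec (CommRingCat.of k))) ⟶ Q) (hq : AGF.IsQuotient h Q a o) :
    ∃ L : Q.left.Modules, CohB1.IsAmple L := by
  sorry

/-- **N10b.**  The same conclusion in projective form. -/
theorem exists_closedImmersion_of_isQuotient {k : Type u} [Field k] {P K Q : Over (Spec (CommRingCat.of k))} [GrpObj P]
    [GrpObj K] [IsProper P.hom] (h : K ⟶ P) [IsMonHom h] [IsClosedImmersion h.left] (a : AlgGrp.Action P Q)
    (o : 𝟙_ (Over (Spec (CommRingCat.of k))) ⟶ Q) (hq : AGF.IsQuotient h Q a o) :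
    ∃ (d : ℕ) (c : Q.left ⟶ CohB1.ProjSpace d k), IsClosedImmersion c ∧ c ≫ CohB1.ProjSpace.toSpec d k = Q.hom := by
  sorry

/-- **N12 (normalisation of an equivariant completion; for S11422).**  `G` smooth over an algebraically closed field acting
on an integral projective `X` with a `G`-stable open normal `X₀`: the action lifts to the normalisation, which is
projective, and `X₀` is still open in it. -/
theorem exists_normal {k : Type u} [Field k] [IsAlgClosed k] {G X₀ X : Over (Spec (CommRingCat.of k))} [GrpObj G]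
    [Smooth G.hom] [QuasiCompact G.hom] [ConnectedSpace ↥G.left] (a : AlgGrp.Action G X) (a₀ : AlgGrp.Action G X₀)
    (u : X₀ ⟶ X) [IsOpenImmersion u.left] (hu : (G ◁ u) ≫ a.act = a₀.act ≫ u) [IsIntegral X.left]
    [Smooth X₀.hom] [Nonempty ↥X₀.left] (n : ℕ) (c : X.left ⟶ CohB1.ProjSpace n k) [IsClosedImmersion c]
    (hc : c ≫ CohB1.ProjSpace.toSpec n k = X.hom) :
    ∃ (X' : Over (Spec (CommRingCat.of k))) (a' : AlgGrp.Action G X') (u' : X₀ ⟶ X') (n' : ℕ)
      (c' : X'.left ⟶ CohB1.ProjSpace n' k), IsClosedImmersion c' ∧ c' ≫ CohB1.ProjSpace.toSpec n' k = X'.hom ∧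
      IsIntegral X'.left ∧ Pi1.IsNormalScheme X'.left ∧
      IsOpenImmersion u'.left ∧ IsDominant u'.left ∧ (G ◁ u') ≫ a'.act = a₀.act ≫ u' := by
  sorry

end K401.PlanCompact
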