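import Groth.Agent.GIT.K690.TorsorTower
import Groth.Agent.GIT.K690.Chart
import Groth.Agent.Brauer.K443.LocExt

/-!
# Morphisms defined by natural relations on affine points

* `Cov p`: the family `p` of morphisms to `X` is a covering for the fpqc topology; `Cov.zariski`, `Cov.finite`, `Cov.baseChange`.
* `exists_desc_family`, `hom_ext_family`: gluing along a covering family.
* `exists_hom_of_cover`, `exists_hom_zar`: a functional relation between the affine points of `X` and of `Z`, stable under
  base change and locally defined, comes from a morphism `X ⟶ Z`.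
-/

set_option autoImplicit false
universe w u
open CategoryTheory CategoryTheory.Limits MonoidalCategory CartesianMonoidalCategory
  AlgebraicGeometry

namespace K401.RelHom

open CoactBr K690.Chart K690.LocSec

section family

variable {S : Scheme.{u}}

/-- A covering family for the fpqc topology. -/
def Cov {ι : Type w} {X' : ι → Over S} {X : Over S} (p : ∀ i, X' i ⟶ X) : Prop :=
  Presieve.ofArrows (fun i => (X' i).left) (fun i => (p i).left) ∈ Scheme.fpqcPrecoverage X.left

variable {ι : Type w} {X' : ι → Over S} {X Z : Over S} (p : ∀ i, X' i ⟶ X)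

theorem exists_desc_family (hp : Cov p) (f : ∀ i, X' i ⟶ Z)
    (h : ∀ (i j : ι) (T : Over S) (a : T ⟶ X' i) (b : T ⟶ X' j), a ≫ p i = b ≫ p j → a ≫ f i = b ≫ f j) :
    ∃ d : X ⟶ Z, ∀ i, p i ≫ d = f i := by
  have hJ : Sieve.generate (Presieve.ofArrows (fun i => (X' i).left) (fun i => (p i).left)) ∈
      Scheme.fpqcTopology X.left := Precoverage.generate_mem_toGrothendieck hp
  have hsh : ∀ W : Scheme.{u}, (Presieve.ofArrows (fun i => (X' i).left) (fun i => (p i).left)).IsSheafFor
      (yoneda.obj W) := by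
    intro W
    have h1 : Presieve.IsSheaf Scheme.fpqcTopology (yoneda.obj W) :=
      GrothendieckTopology.Subcanonical.isSheaf_of_isRepresentable _
    have h2 := h1 _ hJ
    rwa [← Presieve.isSheafFor_iff_generate] at h2
  obtain ⟨d, hd, -⟩ := (Presieve.isSheafFor_arrows_iff _ _).1 (hsh Z.left) (fun i => (f i).left) (by
    intro i j W gi gj hg
    have e1 : gj ≫ (X' j).hom = gi ≫ (X' i).hom := by
      rw [← Over.w (p i), ← Over.w (p j), ← Category.assoc, ← Category.assoc]
      exact congrArg (· ≫ X.hom) hg.symm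
    have h1 := h i j (Over.mk (gi ≫ (X' i).hom)) (Over.homMk gi) (Over.homMk gj e1)
      (Over.OverMorphism.ext hg)
    exact congrArg CommaMorphism.left h1)
  have hd' : ∀ i, (p i).left ≫ d = (f i).left := hd
  refine ⟨Over.homMk d ?_, fun i => Over.OverMorphism.ext (hd' i)⟩
  have h2 := (hsh S).isSeparatedFor
  refine h2.ext fun T' g hg => ?_
  obtain ⟨i⟩ := hg
  change (p i).left ≫ d ≫ Z.hom = (p i).left ≫ X.hom
  rw [← Category.assoc, hd', Over.w, Over.w]

theorem hom_ext_family (hp : Cov p) {f g : X ⟶ Z} (h : ∀ i, p i ≫ f = p i ≫ g) : f = g := by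
  have hJ : Sieve.generate (Presieve.ofArrows (fun i => (X' i).left) (fun i => (p i).left)) ∈
      Scheme.fpqcTopology X.left := Precoverage.generate_mem_toGrothendieck hp
  have h1 : Presieve.IsSheaf Scheme.fpqcTopology (yoneda.obj Z.left) :=
    GrothendieckTopology.Subcanonical.isSheaf_of_isRepresentable _
  have h2 := h1 _ hJ
  rw [← Presieve.isSheafFor_iff_generate] at h2
  apply Over.OverMorphism.ext
  refine h2.isSeparatedFor.ext fun T' g hg => ?_
  obtain ⟨i⟩ := hg
  exact congrArg CommaMorphism.left (h i)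

/-- Base change of a covering family. -/
theorem Cov.baseChange (hp : Cov p) {T : Over S} (t : T ⟶ X) (P : ι → Over S) (q : ∀ i, P i ⟶ T) (r : ∀ i, P i ⟶ X' i)
    (hsq : ∀ i, IsPullback (r i) (q i) (p i) t) : Cov q := by
  have h1 := Precoverage.mem_coverings_of_isPullback (fun i => (p i).left) hp t.left (fun i => (q i).left)
    (fun i => (r i).left) (fun i => ((hsq i).map (Over.forget S)).flip)
  exact h1

/-- Base change of a covering family along the chosen fibre products. -/
theorem Cov.pullback (hp : Cov p) {T : Over S} (t : T ⟶ X) : Cov fun i => Limits.pullback.fst t (p i) :=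
  Cov.baseChange p hp t _ _ (fun i => Limits.pullback.snd t (p i)) fun i => (IsPullback.of_hasPullback t (p i)).flip

/-- A jointly surjective family of open immersions. -/
theorem Cov.zariski (h1 : ∀ i, IsOpenImmersion (p i).left) (h2 : ∀ x : X.left, ∃ i, x ∈ Set.range (p i).left) :
    Cov p := by
  apply Scheme.zariskiPrecoverage_le_fpqcPrecoverage
  rw [Scheme.zariskiPrecoverage, Scheme.ofArrows_mem_precoverage_iff]
  exact ⟨h2, h1⟩

/-- A finite jointly surjective family of flat quasi-compact morphisms. -/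
theorem Cov.finite [Finite ι] (h1 : ∀ i, Flat (p i).left) (h3 : ∀ i, QuasiCompact (p i).left)
    (h2 : ∀ x : X.left, ∃ i, x ∈ Set.range (p i).left) : Cov p := by
  have hm : Presieve.ofArrows (fun i => (X' i).left) (fun i => (p i).left) ∈ Scheme.precoverage @Flat X.left := by
    rw [Scheme.ofArrows_mem_precoverage_iff]
    exact ⟨h2, h1⟩
  refine ⟨?_, hm⟩
  let 𝒰 : Scheme.Cover (Scheme.precoverage @Flat) X.left :=
    { I₀ := ι, X := fun i => (X' i).left, f := fun i => (p i).left, mem₀ := hm }
  have hq : ∀ i, QuasiCompact (𝒰.f i) := h3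
  have hf : Finite 𝒰.I₀ := ‹_›
  have := QuasiCompactCover.of_finite (𝒰 := 𝒰)
  exact Scheme.presieve₀_mem_qcPrecoverage_iff.2 this

theorem Cov.single {X₁ : Over S} (q : X₁ ⟶ X) [Flat q.left] [Surjective q.left] [QuasiCompact q.left] :
    Cov (fun _ : PUnit.{1} => q) := by
  refine Cov.finite _ (fun _ => ‹_›) (fun _ => ‹_›) fun x => ⟨⟨⟩, ?_⟩
  exact Surjective.surj (f := q.left) x

end family

section rel

variable {k : Type u} [CommRing k] {X Z : Over (Spec (CommRingCat.of k))}
  (Rel : ∀ (C : Type u) [CommRing C] [Algebra k C], (sp k C ⟶ X) → (sp k C ⟶ Z) → Prop)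

/-- A functional relation between affine points defined on a covering comes from a morphism. -/
theorem exists_hom_of_cover
    (nat : ∀ (C C' : Type u) [CommRing C] [Algebra k C] [CommRing C'] [Algebra k C'] (φ : C →ₐ[k] C')
      (x : sp k C ⟶ X) (z : sp k C ⟶ Z), Rel C x z → Rel C' (pt φ ≫ x) (pt φ ≫ z))
    (func : ∀ (C : Type u) [CommRing C] [Algebra k C] (x : sp k C ⟶ X) (z z' : sp k C ⟶ Z), Rel C x z → Rel C x z' → z = z')
    {ι : Type w} (A : ι → Type u) [∀ i, CommRing (A i)] [∀ i, Algebra k (A i)] (x : ∀ i, sp k (A i) ⟶ X)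
    (hx : Cov x) (z : ∀ i, sp k (A i) ⟶ Z) (hR : ∀ i, Rel (A i) (x i) (z i)) :
    ∃ h : X ⟶ Z, ∀ (C : Type u) [CommRing C] [Algebra k C] (y : sp k C ⟶ X) (t : sp k C ⟶ Z), Rel C y t → y ≫ h = t := by
  have key : ∀ (i : ι) (C : Type u) [CommRing C] [Algebra k C] (y : sp k C ⟶ X) (t : sp k C ⟶ Z) (a : sp k C ⟶ sp k (A i)),
      a ≫ x i = y → Rel C y t → a ≫ z i = t := by
    intro i C _ _ y t a ha ht
    obtain ⟨φ, rfl⟩ := exists_pt a
    subst ha
    exact func C _ _ _ (nat _ _ φ _ _ (hR i)) ht
  obtain ⟨h, hh⟩ := exists_desc_family x hx z fun i j T a b hab => by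
    refine hom_ext_sp fun C _ _ t => ?_
    rw [← Category.assoc, ← Category.assoc]
    obtain ⟨ψ, hψ⟩ := exists_pt (t ≫ b)
    refine key i C ((t ≫ a) ≫ x i) ((t ≫ b) ≫ z j) (t ≫ a) rfl ?_
    rw [Category.assoc, hab, ← Category.assoc, ← hψ]
    exact nat _ _ ψ _ _ (hR j)
  refine ⟨h, fun C _ _ y t hyt => ?_⟩
  refine hom_ext_family _ (Cov.pullback x hx y) fun i => ?_
  refine hom_ext_sp fun D _ _ s => ?_
  obtain ⟨φ, hφ⟩ := exists_pt (s ≫ pullback.fst y (x i))
  have e1 : (s ≫ pullback.snd y (x i)) ≫ x i = pt φ ≫ y := by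
    rw [hφ, Category.assoc, Category.assoc, pullback.condition]
  have e2 := key i D (pt φ ≫ y) (pt φ ≫ t) (s ≫ pullback.snd y (x i)) e1 (nat _ _ φ _ _ hyt)
  rw [← Category.assoc, ← Category.assoc, ← Category.assoc, ← hφ, ← e1, ← e2, Category.assoc _ (x i), hh]

/-- A functional relation between affine points, defined Zariski locally, comes from a morphism. -/
theorem exists_hom_zar
    (nat : ∀ (C C' : Type u) [CommRing C] [Algebra k C] [CommRing C'] [Algebra k C'] (φ : C →ₐ[k] C')
      (x : sp k C ⟶ X) (z : sp k C ⟶ Z), Rel C x z → Rel C' (pt φ ≫ x) (pt φ ≫ z))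
    (func : ∀ (C : Type u) [CommRing C] [Algebra k C] (x : sp k C ⟶ X) (z z' : sp k C ⟶ Z), Rel C x z → Rel C x z' → z = z')
    (loc : ∀ (C : Type u) [CommRing C] [Algebra k C] (x : sp k C ⟶ X) (p : PrimeSpectrum C), ∃ g : C, g ∉ p.asIdeal ∧
      ∃ z : sp k (Localization.Away g) ⟶ Z, Rel _ (pt (IsScalarTower.toAlgHom k C (Localization.Away g)) ≫ x) z) :
    ∃ h : X ⟶ Z, ∀ (C : Type u) [CommRing C] [Algebra k C] (y : sp k C ⟶ X) (t : sp k C ⟶ Z), Rel C y t → y ≫ h = t := by
  have h1 : ∀ i : X.left.affineCover.I₀, ∃ (A : Type u) (_ : CommRing A) (_ : Algebra k A) (a : sp k A ⟶ X),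
      IsOpenImmersion a.left ∧ Set.range a.left = Set.range (X.left.affineCover.f i) := by
    intro i
    have : IsAffine (Over.mk (X.left.affineCover.f i ≫ X.hom)).left :=
      inferInstanceAs (IsAffine (X.left.affineCover.X i))
    obtain ⟨A, _, _, ⟨e⟩⟩ := exists_iso_sp (Over.mk (X.left.affineCover.f i ≫ X.hom))
    have h2 : IsOpenImmersion (Over.homMk (X.left.affineCover.f i) : Over.mk (X.left.affineCover.f i ≫ X.hom) ⟶ X).left :=
      inferInstanceAs (IsOpenImmersion (X.left.affineCover.f i))
    refine ⟨A, inferInstance, inferInstance, e.hom ≫ Over.homMk (X.left.affineCover.f i), ?_, ?_⟩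
    · rw [Over.comp_left]; infer_instance
    · have h3 : Function.Surjective e.hom.left := by
        have : IsIso e.hom.left := inferInstance
        exact e.hom.left.surjective
      ext x
      constructor
      · rintro ⟨y, rfl⟩
        exact ⟨e.hom.left y, by rw [Over.comp_left, Scheme.Hom.comp_apply]; rfl⟩
      · rintro ⟨y, rfl⟩
        obtain ⟨w, hw⟩ := h3 y
        refine ⟨w, ?_⟩
        rw [Over.comp_left, Scheme.Hom.comp_apply, hw]
        rfl
  choose A iA iA' a ha har using h1
  have h2 : ∀ i (p : PrimeSpectrum (A i)), ∃ g : A i, g ∉ p.asIdeal ∧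
      ∃ z : sp k (Localization.Away g) ⟶ Z,
        Rel _ (pt (IsScalarTower.toAlgHom k (A i) (Localization.Away g)) ≫ a i) z := fun i p => loc (A i) (a i) p
  choose g hg z hz using h2
  have hcov : Cov (fun j : (Σ i, PrimeSpectrum (A i)) =>
      pt (IsScalarTower.toAlgHom k (A j.1) (Localization.Away (g j.1 j.2))) ≫ a j.1) := by
    refine Cov.zariski _ (fun j => ?_) fun x => ?_
    · have h3 : IsOpenImmersion (pt (IsScalarTower.toAlgHom k (A j.1) (Localization.Away (g j.1 j.2)))).left :=
        inferInstanceAs (IsOpenImmersion (Spec.map (CommRingCat.ofHom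
          (algebraMap (A j.1) (Localization.Away (g j.1 j.2))))))
      have h4 := ha j.1
      rw [Over.comp_left]; infer_instance
    · have h3 : x ∈ Set.range (a (X.left.affineCover.idx x)).left := by
        rw [har]
        exact X.left.affineCover.covers x
      obtain ⟨p, hp⟩ := h3
      refine ⟨⟨_, p⟩, ?_⟩
      have h5 := PrimeSpectrum.localization_away_comap_range
        (Localization.Away (g (X.left.affineCover.idx x) p)) (g (X.left.affineCover.idx x) p)
      have h6 : p ∈ Set.range (PrimeSpectrum.comap (algebraMap (A (X.left.affineCover.idx x))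
          (Localization.Away (g (X.left.affineCover.idx x) p)))) := by
        rw [h5]
        exact hg _ p
      obtain ⟨w, hw⟩ := h6
      refine ⟨w, ?_⟩
      rw [Over.comp_left, Scheme.Hom.comp_apply]
      exact (congrArg _ hw).trans hp
  exact exists_hom_of_cover Rel nat func _ _ hcov (fun j => z j.1 j.2) fun j => hz j.1 j.2

end rel

end K401.RelHom
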