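import Groth.Agent.AlgGrp.K401.CompDef
import Groth.Agent.AlgGrp.K401.RelHom

/-!
# Families of matrices acting on projective spaces

* `MatFam k T m n`: a natural family of matrices on the affine points of `T`.
* `exists_matAct`: a left invertible family over `T` gives a morphism `T ⊗ P^n ⟶ P^m`, `(t, [v]) ↦ [N(t) v]`.
* `hom_ext_up`: morphisms from `T ⊗ P^n` are determined on the points `(t, [v])`.
* `exists_pnAct`: the action of a group on `P^n` through a matrix representation.
-/

set_option autoImplicit false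
universe u
open CategoryTheory CategoryTheory.Limits MonoidalCategory CartesianMonoidalCategory
  AlgebraicGeometry
open scoped MonObj

namespace K401.PnAct

open CoactBr K443.PnUni K690.Chart K690.EqMat K401.CompDef K401.RelHom

variable {k : Type u} [Field k]

/-- A natural family of matrices on the affine points of `T`. -/
structure MatFam (k : Type u) [Field k] (T : Over (Spec (CommRingCat.of k))) (m n : ℕ) where
  c : ∀ {C : Type u} [CommRing C] [Algebra k C], (sp k C ⟶ T) → Matrix (Fin m) (Fin n) C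
  c_map : ∀ {C C' : Type u} [CommRing C] [Algebra k C] [CommRing C'] [Algebra k C']
    (γ : C →ₐ[k] C') (t : sp k C ⟶ T), (c t).map γ = c (pt γ ≫ t)

theorem comp_mulVec {C C' : Type u} [CommRing C] [Algebra k C] [CommRing C'] [Algebra k C'] (γ : C →ₐ[k] C') {m n : ℕ}
    (N : Matrix (Fin m) (Fin n) C) (v : Fin n → C) : γ ∘ N.mulVec v = (N.map γ).mulVec (γ ∘ v) := by
  funext i
  exact RingHom.map_mulVec γ.toRingHom N v i

theorem isUni_mulVec {C : Type u} [CommRing C] {m n : ℕ} {N : Matrix (Fin m) (Fin n) C} {N' : Matrix (Fin n) (Fin m) C}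
    (h : N' * N = 1) {v : Fin n → C} (hv : IsUni v) : IsUni (N.mulVec v) := by
  have h1 : v = N'.mulVec (N.mulVec v) := by rw [Matrix.mulVec_mulVec, h, Matrix.one_mulVec]
  unfold IsUni at *
  rw [eq_top_iff, ← hv, Ideal.span_le]
  rintro _ ⟨i, rfl⟩
  have h2 : v i = ∑ l, N' i l * N.mulVec v l := congrFun h1 i
  rw [SetLike.mem_coe, h2]
  exact Ideal.sum_mem _ fun l _ => Ideal.mul_mem_left _ _ (Ideal.subset_span ⟨l, rfl⟩)

section

variable {T Z : Over (Spec (CommRingCat.of k))} {n m : ℕ}

/-- Equality of morphisms may be checked on the affine points where a given point of `P^n` has coordinates. -/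
theorem eq_of_local_up (y : T ⟶ Pn k n) {f g : T ⟶ Z}
    (h : ∀ (C : Type u) [CommRing C] [Algebra k C] (t : sp k C ⟶ T) (v : Fin (n + 1) → C) (hv : IsUni v),
      t ≫ y = up v hv → t ≫ f = t ≫ g) : f = g := by
  refine hom_ext_sp fun C _ _ x => ?_
  have key : ∀ p : PrimeSpectrum C, ∃ g' : C, g' ∉ p.asIdeal ∧
      pt (IsScalarTower.toAlgHom k C (Localization.Away g')) ≫ x ≫ f =
        pt (IsScalarTower.toAlgHom k C (Localization.Away g')) ≫ x ≫ g := by
    intro p
    obtain ⟨g', hg', v, hv, hx⟩ := exists_local_up (x ≫ y) p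
    refine ⟨g', hg', ?_⟩
    rw [← Category.assoc, ← Category.assoc]
    exact h _ _ v hv (by rw [Category.assoc, hx])
  choose g' hg' hk using key
  refine hom_ext_family (fun p : PrimeSpectrum C => pt (IsScalarTower.toAlgHom k C (Localization.Away (g' p))))
    (Cov.zariski _ (fun p => ?_) fun x => ⟨x, ?_⟩) hk
  · exact inferInstanceAs (IsOpenImmersion (Spec.map (CommRingCat.ofHom
      (algebraMap C (Localization.Away (g' p))))))
  · have h5 := PrimeSpectrum.localization_away_comap_range (Localization.Away (g' x)) (g' x)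
    have h6 : x ∈ Set.range (PrimeSpectrum.comap (algebraMap C (Localization.Away (g' x)))) := by
      rw [h5]
      exact hg' x
    exact h6

/-- Morphisms from `T ⊗ P^n` are determined on the points `(t, [v])`. -/
theorem hom_ext_up {f g : T ⊗ Pn k n ⟶ Z}
    (h : ∀ (C : Type u) [CommRing C] [Algebra k C] (t : sp k C ⟶ T) (v : Fin (n + 1) → C) (hv : IsUni v),
      lift t (up v hv) ≫ f = lift t (up v hv) ≫ g) : f = g := by
  refine hom_ext_sp fun C _ _ x => ?_
  have key : ∀ p : PrimeSpectrum C, ∃ g' : C, g' ∉ p.asIdeal ∧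
      pt (IsScalarTower.toAlgHom k C (Localization.Away g')) ≫ x ≫ f =
        pt (IsScalarTower.toAlgHom k C (Localization.Away g')) ≫ x ≫ g := by
    intro p
    obtain ⟨g', hg', v, hv, hx⟩ := exists_local_up (x ≫ snd T (Pn k n)) p
    refine ⟨g', hg', ?_⟩
    have h1 : pt (IsScalarTower.toAlgHom k C (Localization.Away g')) ≫ x =
        lift (pt (IsScalarTower.toAlgHom k C (Localization.Away g')) ≫ x ≫ fst T (Pn k n)) (up v hv) := by
      apply CartesianMonoidalCategory.hom_ext
      · rw [lift_fst, Category.assoc]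
      · rw [lift_snd, Category.assoc, hx]
    rw [← Category.assoc, ← Category.assoc, h1]
    exact h _ _ _ _
  choose g' hg' hk using key
  refine hom_ext_family (fun p : PrimeSpectrum C => pt (IsScalarTower.toAlgHom k C (Localization.Away (g' p))))
    (Cov.zariski _ (fun p => ?_) fun x => ⟨x, ?_⟩) hk
  · exact inferInstanceAs (IsOpenImmersion (Spec.map (CommRingCat.ofHom
      (algebraMap C (Localization.Away (g' p))))))
  · have h5 := PrimeSpectrum.localization_away_comap_range (Localization.Away (g' x)) (g' x)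
    have h6 : x ∈ Set.range (PrimeSpectrum.comap (algebraMap C (Localization.Away (g' x)))) := by
      rw [h5]
      exact hg' x
    exact h6

variable (N : MatFam k T (m + 1) (n + 1)) (N' : MatFam k T (n + 1) (m + 1))

/-- **The morphism `(t, [v]) ↦ [N(t) v]`** given by a left invertible natural family of matrices. -/
theorem exists_matAct
    (h : ∀ (C : Type u) [CommRing C] [Algebra k C] (t : sp k C ⟶ T), N'.c t * N.c t = 1) :
    ∃ f : T ⊗ Pn k n ⟶ Pn k m, ∀ (C : Type u) [CommRing C] [Algebra k C] (t : sp k C ⟶ T) (v : Fin (n + 1) → C)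
      (hv : IsUni v) (hw : IsUni ((N.c t).mulVec v)), lift t (up v hv) ≫ f = up ((N.c t).mulVec v) hw := by
  obtain ⟨f, hf⟩ := exists_hom_zar (X := T ⊗ Pn k n) (Z := Pn k m)
    (fun C _ _ x z => ∃ (v : Fin (n + 1) → C) (hv : IsUni v) (hw : IsUni ((N.c (x ≫ fst T (Pn k n))).mulVec v)),
      x ≫ snd T (Pn k n) = up v hv ∧ z = up ((N.c (x ≫ fst T (Pn k n))).mulVec v) hw)
    (by
      rintro C C' _ _ _ _ φ x _ ⟨v, hv, hw, h1, rfl⟩
      have e1 : φ ∘ (N.c (x ≫ fst T (Pn k n))).mulVec v = (N.c ((pt φ ≫ x) ≫ fst T (Pn k n))).mulVec (φ ∘ v) := by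
        rw [comp_mulVec, N.c_map, Category.assoc]
      refine ⟨φ ∘ v, hv.map φ.toRingHom, isUni_mulVec (h _ _) (hv.map φ.toRingHom), ?_, ?_⟩
      · rw [Category.assoc, h1, comp_up φ v hv (hv.map φ.toRingHom)]
      · rw [comp_up φ _ hw (hw.map φ.toRingHom)]
        exact up_congr e1 _ _)
    (by
      rintro C _ _ x _ _ ⟨v, hv, hw, h1, rfl⟩ ⟨v', hv', hw', h1', rfl⟩
      obtain ⟨c, hc⟩ := (up_eq_iff v v' hv hv').1 (h1.symm.trans h1')
      rw [up_eq_iff]
      exact ⟨c, by rw [hc, Matrix.mulVec_smul]⟩)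
    (by
      intro C _ _ x p
      obtain ⟨g, hg, v, hv, hx⟩ := exists_local_up (x ≫ snd T (Pn k n)) p
      exact ⟨g, hg, _, v, hv, isUni_mulVec (h _ _) hv, by rw [Category.assoc, hx], rfl⟩)
  refine ⟨f, fun C _ _ t v hv hw => hf C _ _ ⟨v, hv, ?_, lift_snd _ _, ?_⟩⟩
  · rw [lift_fst]; exact hw
  · exact up_congr (by rw [lift_fst]) _ _

end

section rep

variable {M : Over (Spec (CommRingCat.of k))} [GrpObj M] {n : ℕ} (ρ : MatRep k M (n + 1))

/-- The family of matrices of a matrix representation. -/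
def repFam : MatFam k M (n + 1) (n + 1) where
  c := ρ.c
  c_map := ρ.c_map

/-- The inverse family. -/
noncomputable def repFam' : MatFam k M (n + 1) (n + 1) where
  c g := ρ.c g⁻¹
  c_map γ g := by rw [ρ.c_map, GrpObj.comp_inv]

theorem rep_inv {C : Type u} [CommRing C] [Algebra k C] (g : sp k C ⟶ M) : ρ.c g⁻¹ * ρ.c g = 1 := by
  rw [← ρ.c_mul, inv_mul_cancel, ρ.c_one]

theorem isUni_rep {C : Type u} [CommRing C] [Algebra k C] (g : sp k C ⟶ M) {v : Fin (n + 1) → C} (hv : IsUni v) :
    IsUni ((ρ.c g).mulVec v) := isUni_mulVec (rep_inv ρ g) hv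

/-- **The action on projective space** through a matrix representation. -/
theorem exists_pnAct : ∃ b : AlgGrp.Action M (Pn k n), ∀ (C : Type u) [CommRing C] [Algebra k C] (g : sp k C ⟶ M)
    (v : Fin (n + 1) → C) (hv : IsUni v) (hw : IsUni ((ρ.c g).mulVec v)),
      lift g (up v hv) ≫ b.act = up ((ρ.c g).mulVec v) hw := by
  obtain ⟨f, hf⟩ := exists_matAct (repFam ρ) (repFam' ρ) fun C _ _ t => rep_inv ρ t
  have hf' : ∀ (C : Type u) [CommRing C] [Algebra k C] (g : sp k C ⟶ M)
    (v : Fin (n + 1) → C) (hv : IsUni v), lift g (up v hv) ≫ f = up ((ρ.c g).mulVec v) (isUni_rep ρ g hv) :=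
    fun C _ _ g v hv => hf C g v hv _
  refine ⟨⟨f, ?_, ?_⟩, hf⟩
  · refine hom_ext_up fun C _ _ t v hv => ?_
    have h1 : t ≫ η[M] = (1 : sp k C ⟶ M) := by
      rw [Hom.one_def, toUnit_unique t (toUnit _)]
    rw [lift_whiskerRight_assoc, h1, hf' C _ v hv, leftUnitor_hom, lift_snd]
    exact up_congr (by rw [ρ.c_one, Matrix.one_mulVec]) _ _
  · refine hom_ext_up fun C _ _ t v hv => ?_
    obtain ⟨g, h, rfl⟩ : ∃ g h, t = lift g h := ⟨t ≫ fst _ _, t ≫ snd _ _, by
      rw [← comp_lift, lift_fst_snd, Category.comp_id]⟩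
    rw [lift_whiskerRight_assoc, ← Hom.mul_def, lift_lift_associator_hom_assoc, lift_whiskerLeft_assoc,
      hf' C _ v hv, hf' C _ v hv, hf' C g _ (isUni_rep ρ h hv)]
    exact up_congr (by rw [ρ.c_mul, Matrix.mulVec_mulVec]) _ _

end rep

end K401.PnAct
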