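import Groth.Agent.AlgGrp.K401.PnAct
import Groth.Agent.Ega3B.ProjProper
import Mathlib.AlgebraicGeometry.ZariskisMainTheorem

/-!
# Embedding of the projective bundle of a torsor

`exists_embedding`: from embedding data for the torsor `π : G ⟶ Q` under `M` and the representation `ρ`, an `M`-invariant
morphism `F : G ⊗ P^n ⟶ P^m` such that `(g, y) ↦ (g, F(g, y))` is a closed immersion.
-/

set_option autoImplicit false
universe u
open CategoryTheory CategoryTheory.Limits MonoidalCategory CartesianMonoidalCategory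
  AlgebraicGeometry
open scoped MonObj

namespace K401.PnEmb

open CoactBr K443.PnUni K690.Chart K690.EqMat K690.Torsor K401.CompDef K401.RelHom K401.PnAct AlgGrp.Action

variable {k : Type u} [Field k] {M G Q : Over (Spec (CommRingCat.of k))} [GrpObj M] {a : AlgGrp.Action M G}
  {π : G ⟶ Q} (hcart : IsPullback a.act (snd M G) π π) {n : ℕ} {ρ : MatRep k M (n + 1)}

/-- The algebra homomorphism of a point of a spectrum. -/
noncomputable def ah {A C : Type u} [CommRing A] [Algebra k A] [CommRing C] [Algebra k C] (x : sp k C ⟶ sp k A) :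
    A →ₐ[k] C := (exists_pt x).choose

theorem pt_ah {A C : Type u} [CommRing A] [Algebra k A] [CommRing C] [Algebra k C] (x : sp k C ⟶ sp k A) :
    pt (ah x) = x := (exists_pt x).choose_spec

theorem ah_comp {A C C' : Type u} [CommRing A] [Algebra k A] [CommRing C] [Algebra k C] [CommRing C'] [Algebra k C']
    (γ : C →ₐ[k] C') (x : sp k C ⟶ sp k A) : ah (pt γ ≫ x) = γ.comp (ah x) := by
  apply pt_injective
  rw [pt_ah, pt_comp, pt_ah]

theorem mmap_mul {C C' : Type u} [CommRing C] [Algebra k C] [CommRing C'] [Algebra k C'] (γ : C →ₐ[k] C') {a b c : ℕ}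
    (A : Matrix (Fin a) (Fin b) C) (B : Matrix (Fin b) (Fin c) C) : (A * B).map γ = A.map γ * B.map γ :=
  Matrix.map_mul (f := γ.toRingHom)

theorem mmap_one {C C' : Type u} [CommRing C] [Algebra k C] [CommRing C'] [Algebra k C'] (γ : C →ₐ[k] C') {a : ℕ} :
    (1 : Matrix (Fin a) (Fin a) C).map γ = 1 := Matrix.map_one γ (map_zero γ) (map_one γ)

theorem mmap_comp {A C C' : Type u} [CommRing A] [Algebra k A] [CommRing C] [Algebra k C] [CommRing C'] [Algebra k C']
    (φ : A →ₐ[k] C) (γ : C →ₐ[k] C') {a b : ℕ} (N : Matrix (Fin a) (Fin b) A) :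
    (N.map φ).map γ = N.map (γ.comp φ) := rfl

section chart

variable {R : Type u} [CommRing R] [Algebra k R] (s : sp k R ⟶ G) {m : ℕ} (N : Matrix (Fin (m + 1)) (Fin (n + 1)) R)
  (N' : Matrix (Fin (n + 1)) (Fin (m + 1)) R)

/-- The chart pulled back to the torsor. -/
noncomputable abbrev Ch (π : G ⟶ Q) : Over (Spec (CommRingCat.of k)) := pullback π (s ≫ π)

theorem ch_eq {T : Over (Spec (CommRingCat.of k))} (e : T ⟶ Ch s π) :
    ((e ≫ pullback.snd π (s ≫ π)) ≫ s) ≫ π = (e ≫ pullback.fst π (s ≫ π)) ≫ π := by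
  rw [Category.assoc, Category.assoc, Category.assoc, pullback.condition]

/-- The element of the group carrying the point of the torsor to the chart. -/
noncomputable def tr {T : Over (Spec (CommRingCat.of k))} (e : T ⟶ Ch s π) : T ⟶ M :=
  trans hcart ((e ≫ pullback.snd π (s ≫ π)) ≫ s) (e ≫ pullback.fst π (s ≫ π)) (ch_eq s e)

theorem lift_tr {T : Over (Spec (CommRingCat.of k))} (e : T ⟶ Ch s π) :
    lift (tr hcart s e) (e ≫ pullback.fst π (s ≫ π)) ≫ a.act = (e ≫ pullback.snd π (s ≫ π)) ≫ s :=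
  lift_trans hcart _ _ _

theorem comp_tr {T T' : Over (Spec (CommRingCat.of k))} (f : T' ⟶ T) (e : T ⟶ Ch s π) :
    f ≫ tr hcart s e = tr hcart s (f ≫ e) := by
  apply trans_unique
  rw [Category.assoc f e, Category.assoc f e, Category.assoc f, ← lift_tr hcart s e, ← comp_lift_assoc]

variable (ρ)

/-- The family of matrices on the chart. -/
noncomputable def chFam : MatFam k (Ch s π) (m + 1) (n + 1) where
  c e := N.map (ah (e ≫ pullback.snd π (s ≫ π))) * ρ.c (tr hcart s e)
  c_map γ e := by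
    rw [mmap_mul, mmap_comp, ← ah_comp, ρ.c_map, comp_tr, Category.assoc]

/-- The family of left inverses. -/
noncomputable def chFam' : MatFam k (Ch s π) (n + 1) (m + 1) where
  c e := ρ.c (tr hcart s e)⁻¹ * N'.map (ah (e ≫ pullback.snd π (s ≫ π)))
  c_map γ e := by
    rw [mmap_mul, mmap_comp, ← ah_comp, ρ.c_map, GrpObj.comp_inv, comp_tr, Category.assoc]

theorem chFam_c {C : Type u} [CommRing C] [Algebra k C] (e : sp k C ⟶ Ch s π) :
    (chFam hcart ρ s N).c e = N.map (ah (e ≫ pullback.snd π (s ≫ π))) * ρ.c (tr hcart s e) := rfl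

theorem chFam_inv (h : N' * N = 1) {C : Type u} [CommRing C] [Algebra k C] (e : sp k C ⟶ Ch s π) :
    (chFam' hcart ρ s N').c e * (chFam hcart ρ s N).c e = 1 := by
  change (ρ.c (tr hcart s e)⁻¹ * N'.map (ah (e ≫ pullback.snd π (s ≫ π)))) *
    (N.map (ah (e ≫ pullback.snd π (s ≫ π))) * ρ.c (tr hcart s e)) = 1
  rw [Matrix.mul_assoc, ← Matrix.mul_assoc (N'.map _), ← mmap_mul, h, mmap_one, Matrix.one_mul, rep_inv]

/-- The morphism on a chart. -/
theorem exists_chMap (h : N' * N = 1) :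
    ∃ f : Ch s π ⊗ Pn k n ⟶ Pn k m, ∀ (C : Type u) [CommRing C] [Algebra k C] (e : sp k C ⟶ Ch s π) (v : Fin (n + 1) → C)
      (hv : IsUni v), lift e (up v hv) ≫ f = up (((chFam hcart ρ s N).c e).mulVec v)
        (isUni_mulVec (chFam_inv hcart ρ s N N' h e) hv) := by
  obtain ⟨f, hf⟩ := exists_matAct (chFam hcart ρ s N) (chFam' hcart ρ s N') fun C _ _ t => chFam_inv hcart ρ s N N' h t
  exact ⟨f, fun C _ _ e v hv => hf C e v hv _⟩

end chart

/-- Equality of morphisms may be checked on the affine points where a given point of `P^n` has coordinates and a given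
point of the torsor lifts to one of the charts. -/
theorem eq_of_local {r : ℕ} {R : Fin r → Type u} [∀ j, CommRing (R j)] [∀ j, Algebra k (R j)]
    (s : ∀ j, sp k (R j) ⟶ G) (hc : Cov fun j => s j ≫ π) {T Z : Over (Spec (CommRingCat.of k))} {l : ℕ}
    (x : T ⟶ G) (y : T ⟶ Pn k l) {f g : T ⟶ Z}
    (h : ∀ (C : Type u) [CommRing C] [Algebra k C] (t : sp k C ⟶ T) (v : Fin (l + 1) → C) (hv : IsUni v) (j : Fin r)
      (e : sp k C ⟶ Ch (s j) π), t ≫ y = up v hv → t ≫ x = e ≫ pullback.fst π (s j ≫ π) → t ≫ f = t ≫ g) : f = g := by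
  refine hom_ext_family _ (Cov.pullback _ hc (x ≫ π)) fun j => ?_
  refine eq_of_local_up (pullback.fst (x ≫ π) (s j ≫ π) ≫ y) fun C _ _ t v hv ht => ?_
  rw [← Category.assoc, ← Category.assoc]
  refine h C (t ≫ pullback.fst (x ≫ π) (s j ≫ π)) v hv j
    (t ≫ pullback.lift (pullback.fst (x ≫ π) (s j ≫ π) ≫ x) (pullback.snd (x ≫ π) (s j ≫ π)) ?_) ?_ ?_
  · rw [Category.assoc, pullback.condition]
  · rw [Category.assoc, ht]
  · rw [Category.assoc, Category.assoc, pullback.lift_fst]

theorem cov_of_embData [QuasiSeparated Q.hom] {r : ℕ} {R : Fin r → Type u} [∀ j, CommRing (R j)] [∀ j, Algebra k (R j)]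
    (s : ∀ j, sp k (R j) ⟶ G) (hfl : ∀ j, Flat (s j ≫ π).left)
    (hco : ∀ q : Q.left, ∃ j, q ∈ Set.range (s j ≫ π).left) : Cov fun j => s j ≫ π := by
  refine Cov.finite _ hfl (fun j => ?_) hco
  have h1 : QuasiCompact ((s j ≫ π).left ≫ Q.hom) := by
    rw [Over.w]
    exact inferInstanceAs (QuasiCompact (Spec.map (CommRingCat.ofHom (algebraMap k (R j)))))
  exact QuasiCompact.of_comp _ Q.hom

section main

variable [QuasiSeparated Q.hom] {r : ℕ} {R : Fin r → Type u}
  [∀ j, CommRing (R j)] [∀ j, Algebra k (R j)]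
  (s : ∀ j, sp k (R j) ⟶ G) (hfl : ∀ j, Flat (s j ≫ π).left)
  (hco : ∀ q : Q.left, ∃ j, q ∈ Set.range (s j ≫ π).left) {m : ℕ}
  (F : ∀ j, Matrix (Fin (m + 1)) (Fin (n + 1)) (R j)) (F' : ∀ j, Matrix (Fin (n + 1)) (Fin (m + 1)) (R j))
  (inv : ∀ j, F' j * F j = 1)
  (compat : ∀ (j l : Fin r) (C : Type u) [CommRing C] [Algebra k C] (x : R j →ₐ[k] C) (y : R l →ₐ[k] C)
    (g : sp k C ⟶ M), lift g (pt y ≫ s l) ≫ a.act = pt x ≫ s j →
    ∃ c : Cˣ, (F j).map x * ρ.c g = (c : C) • (F l).map y)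

include hfl hco compat in
/-- The morphism `(g, [v]) ↦ [F(u) ρ(tr(u, g)) v]`. -/
theorem exists_F : ∃ Fm : G ⊗ Pn k n ⟶ Pn k m, ∀ (j : Fin r) (C : Type u) [CommRing C] [Algebra k C]
    (e : sp k C ⟶ Ch (s j) π) (v : Fin (n + 1) → C) (hv : IsUni v),
    lift (e ≫ pullback.fst π (s j ≫ π)) (up v hv) ≫ Fm = up (((chFam hcart ρ (s j) (F j)).c e).mulVec v)
      (isUni_mulVec (chFam_inv hcart ρ (s j) (F j) (F' j) (inv j) e) hv) := by
  have hc : Cov fun j => s j ≫ π := cov_of_embData s hfl hco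
  have hf := fun j => exists_chMap hcart ρ (s j) (F j) (F' j) (inv j)
  choose f hf using hf
  have hcov : Cov fun j => pullback.fst π (s j ≫ π) ▷ Pn k n :=
    Cov.baseChange _ (Cov.pullback _ hc π) (fst G (Pn k n)) _ _ (fun j => fst _ _)
      fun j => (K686.Whisk.isPullback_whiskerRight (pullback.fst π (s j ≫ π)) (Pn k n)).flip
  obtain ⟨Fm, hFm⟩ := exists_desc_family _ hcov f fun i j T α β hαβ => by
    have h1 : α ≫ snd _ (Pn k n) = β ≫ snd _ (Pn k n) := by
      have := congrArg (· ≫ snd G (Pn k n)) hαβ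
      simpa using this
    have h2 : (α ≫ fst _ (Pn k n)) ≫ pullback.fst π (s i ≫ π) = (β ≫ fst _ (Pn k n)) ≫ pullback.fst π (s j ≫ π) := by
      have := congrArg (· ≫ fst G (Pn k n)) hαβ
      simpa using this
    refine eq_of_local_up (α ≫ snd _ (Pn k n)) fun C _ _ t v hv ht => ?_
    have e1 : t ≫ α = lift (t ≫ α ≫ fst _ (Pn k n)) (up v hv) := by
      apply CartesianMonoidalCategory.hom_ext
      · rw [lift_fst, Category.assoc]
      · rw [lift_snd, Category.assoc, ht]
    have e2 : t ≫ β = lift (t ≫ β ≫ fst _ (Pn k n)) (up v hv) := by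
      apply CartesianMonoidalCategory.hom_ext
      · rw [lift_fst, Category.assoc]
      · rw [lift_snd, Category.assoc, ← h1, ht]
    have e3 : (t ≫ α ≫ fst _ (Pn k n)) ≫ pullback.fst π (s i ≫ π) =
        (t ≫ β ≫ fst _ (Pn k n)) ≫ pullback.fst π (s j ≫ π) := by
      rw [Category.assoc, h2]
      simp only [Category.assoc]
    rw [← Category.assoc, ← Category.assoc, e1, e2, hf, hf, up_eq_iff]
    generalize t ≫ α ≫ fst _ (Pn k n) = e at e3 ⊢
    generalize t ≫ β ≫ fst _ (Pn k n) = e' at e3 ⊢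
    -- the transition element
    have h3 : ((e' ≫ pullback.snd π (s j ≫ π)) ≫ s j) ≫ π = ((e ≫ pullback.snd π (s i ≫ π)) ≫ s i) ≫ π := by
      rw [ch_eq, ch_eq, e3]
    let g : sp k C ⟶ M := trans hcart _ _ h3
    have hg : lift g ((e ≫ pullback.snd π (s i ≫ π)) ≫ s i) ≫ a.act = (e' ≫ pullback.snd π (s j ≫ π)) ≫ s j :=
      lift_trans hcart _ _ _
    have h4 : g * tr hcart (s i) e = tr hcart (s j) e' := by
      apply trans_unique
      rw [lift_mul_act, ← e3, lift_tr, hg]
    obtain ⟨c, hc⟩ := compat j i C (ah (e' ≫ pullback.snd π (s j ≫ π))) (ah (e ≫ pullback.snd π (s i ≫ π))) g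
      (by rw [pt_ah, pt_ah]; exact hg)
    refine ⟨c, ?_⟩
    rw [chFam_c, chFam_c, ← h4, ρ.c_mul, ← Matrix.mul_assoc, hc, Matrix.smul_mul, Matrix.smul_mulVec]
  refine ⟨Fm, fun j C _ _ e v hv => ?_⟩
  rw [← hf, ← hFm, lift_whiskerRight_assoc]

variable (b : AlgGrp.Action M (Pn k n)) (hb : ∀ (C : Type u) [CommRing C] [Algebra k C] (g : sp k C ⟶ M)
    (v : Fin (n + 1) → C) (hv : IsUni v) (hw : IsUni ((ρ.c g).mulVec v)),
      lift g (up v hv) ≫ b.act = up ((ρ.c g).mulVec v) hw)

include hcart F' inv hfl hco compat hb in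
/-- **The invariant morphism `F : G ⊗ P^n ⟶ P^m`**, a closed immersion on the fibres. -/
theorem exists_embedding' : ∃ Fm : G ⊗ Pn k n ⟶ Pn k m,
    (∀ (T : Over (Spec (CommRingCat.of k))) (g : T ⟶ M) (x : T ⟶ G) (y : T ⟶ Pn k n),
      lift (lift g x ≫ a.act) (lift g y ≫ b.act) ≫ Fm = lift x y ≫ Fm) ∧
    IsClosedImmersion (lift (fst G (Pn k n)) Fm).left := by
  have hc : Cov fun j => s j ≫ π := cov_of_embData s hfl hco
  obtain ⟨Fm, hFm⟩ := exists_F hcart s hfl hco F F' inv compat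
  refine ⟨Fm, fun T g x y => ?_, ?_⟩
  · refine eq_of_local s hc x y fun C _ _ t v hv j e h1 h2 => ?_
    let e' : sp k C ⟶ Ch (s j) π := pullback.lift (lift (t ≫ g) (e ≫ pullback.fst π (s j ≫ π)) ≫ a.act)
      (e ≫ pullback.snd π (s j ≫ π)) (by
        rw [invariant_pt hcart.w, Category.assoc, pullback.condition, Category.assoc])
    have e1 : e' ≫ pullback.fst π (s j ≫ π) = lift (t ≫ g) (e ≫ pullback.fst π (s j ≫ π)) ≫ a.act :=
      pullback.lift_fst _ _ _
    have e2 : e' ≫ pullback.snd π (s j ≫ π) = e ≫ pullback.snd π (s j ≫ π) := pullback.lift_snd _ _ _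
    have h3 : tr hcart (s j) e' * (t ≫ g) = tr hcart (s j) e := by
      apply trans_unique
      rw [lift_mul_act, ← e1, lift_tr, e2]
    rw [← Category.assoc, ← Category.assoc, comp_lift, comp_lift_assoc, comp_lift_assoc, h1, h2, comp_lift, h1, h2,
      hb C _ v hv (isUni_rep ρ _ hv), ← e1, hFm, hFm]
    apply up_congr
    rw [Matrix.mulVec_mulVec, chFam_c, chFam_c, Matrix.mul_assoc, ← ρ.c_mul, h3, e2]
  · rw [IsClosedImmersion.iff_isProper_and_mono]
    constructor
    · have hP : IsProper (Pn k n).hom := Groth.Agent.Ega3B.ProjProper.isProper_toSpec n k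
      have hP' : IsProper (Pn k m).hom := Groth.Agent.Ega3B.ProjProper.isProper_toSpec m k
      have h1 : IsProper (fst G (Pn k n)).left :=
        MorphismProperty.of_isPullback (P := @IsProper) (K408.Assoc.isPullback_fst_left G (Pn k n)).flip hP
      have h2 : IsProper (fst G (Pn k m)).left :=
        MorphismProperty.of_isPullback (P := @IsProper) (K408.Assoc.isPullback_fst_left G (Pn k m)).flip hP'
      have h3 : (lift (fst G (Pn k n)) Fm).left ≫ (fst G (Pn k m)).left = (fst G (Pn k n)).left := by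
        rw [← Over.comp_left, lift_fst]
      have h4 : IsProper ((lift (fst G (Pn k n)) Fm).left ≫ (fst G (Pn k m)).left) := by rw [h3]; exact h1
      exact IsProper.of_comp _ (fst G (Pn k m)).left
    · have hmono : Mono (lift (fst G (Pn k n)) Fm) := by
        refine ⟨fun {T} α β h => ?_⟩
        have h1 : α ≫ fst G (Pn k n) = β ≫ fst G (Pn k n) := by
          have := congrArg (· ≫ fst G (Pn k m)) h
          simpa using this
        have h2 : α ≫ Fm = β ≫ Fm := by
          have := congrArg (· ≫ snd G (Pn k m)) h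
          simpa using this
        apply CartesianMonoidalCategory.hom_ext _ _ h1
        refine eq_of_local s hc (α ≫ fst G (Pn k n)) (α ≫ snd G (Pn k n)) fun C _ _ t v hv j e h3 h4 => ?_
        refine eq_of_local_up (t ≫ β ≫ snd G (Pn k n)) fun D _ _ t' v' hv' h5 => ?_
        obtain ⟨φ, rfl⟩ := exists_pt t'
        have h6 : pt φ ≫ t ≫ α ≫ snd G (Pn k n) = up (φ ∘ v) (hv.map φ.toRingHom) := by
          rw [h3, comp_up φ v hv (hv.map φ.toRingHom)]
        have h7 : pt φ ≫ t ≫ α = lift ((pt φ ≫ e) ≫ pullback.fst π (s j ≫ π)) (up (φ ∘ v) (hv.map φ.toRingHom)) := by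
          apply CartesianMonoidalCategory.hom_ext
          · rw [lift_fst, Category.assoc, Category.assoc, h4, Category.assoc]
          · rw [lift_snd, Category.assoc, Category.assoc, h6]
        have h8 : pt φ ≫ t ≫ β = lift ((pt φ ≫ e) ≫ pullback.fst π (s j ≫ π)) (up v' hv') := by
          apply CartesianMonoidalCategory.hom_ext
          · rw [lift_fst, Category.assoc, Category.assoc, ← h1, h4, Category.assoc]
          · rw [lift_snd, Category.assoc, Category.assoc, h5]
        have h9 : (pt φ ≫ t ≫ α) ≫ Fm = (pt φ ≫ t ≫ β) ≫ Fm := by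
          rw [Category.assoc, Category.assoc, h2, Category.assoc, Category.assoc]
        rw [h7, h8, hFm, hFm, up_eq_iff] at h9
        obtain ⟨c, hc'⟩ := h9
        rw [h6, h5, up_eq_iff]
        refine ⟨c, ?_⟩
        have h10 := congrArg ((chFam' hcart ρ (s j) (F' j)).c (pt φ ≫ e)).mulVec hc'
        rwa [Matrix.mulVec_smul, Matrix.mulVec_mulVec, Matrix.mulVec_mulVec, chFam_inv hcart ρ (s j) (F j) (F' j) (inv j),
          Matrix.one_mulVec, Matrix.one_mulVec] at h10
      infer_instance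

end main

/-- **The projective bundle inside a constant projective space**, from embedding data. -/
theorem exists_embedding [QuasiSeparated Q.hom] (hcart : IsPullback a.act (snd M G) π π) (E : EmbData a π ρ)
    (b : AlgGrp.Action M (Pn k n)) (hb : ∀ (C : Type u) [CommRing C] [Algebra k C] (g : sp k C ⟶ M)
    (v : Fin (n + 1) → C) (hv : IsUni v) (hw : IsUni ((ρ.c g).mulVec v)),
      lift g (up v hv) ≫ b.act = up ((ρ.c g).mulVec v) hw) :
    ∃ Fm : G ⊗ Pn k n ⟶ Pn k E.m,
      (∀ (T : Over (Spec (CommRingCat.of k))) (g : T ⟶ M) (x : T ⟶ G) (y : T ⟶ Pn k n),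
        lift (lift g x ≫ a.act) (lift g y ≫ b.act) ≫ Fm = lift x y ≫ Fm) ∧
      IsClosedImmersion (lift (fst G (Pn k n)) Fm).left := by
  let i1 := E.ring
  let i2 := E.alg
  exact exists_embedding' hcart E.s E.flat E.cover E.F E.F' E.inv E.compat b hb

end K401.PnEmb
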