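import Groth.Agent.AlgGrp.K401.GenAK
import Groth.Agent.AlgGrp.K395.Hom
import Groth.Agent.Sga3.H794.ChevClosed

/-!
# Over any field, every group of finite type is an extension of a proper group by an affine group

(no smoothness, no hypothesis on the field)
-/

set_option autoImplicit false
open CategoryTheory MonoidalCategory CartesianMonoidalCategory MonObj GrpObj AlgebraicGeometry CategoryTheory.Limits
universe u

namespace K401.ProperQuot

open Groth.Agent Groth.Agent.Sga3B K401.AffKer

variable {k : Type u} [Field k]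

/-- Every group of finite type has a homomorphism to a proper group with affine kernel. -/
theorem hasAK (G : Over (Spec (CommRingCat.of k))) [GrpObj G] [LocallyOfFiniteType G.hom]
    [QuasiCompact G.hom] : HasAK G :=
  GenAK.hasAK Sga3.H794.ChevClosed.exists_chevalley G

/-- The image of a homomorphism to a proper group: a quotient which is proper, with the same kernel. -/
theorem exists_image (G P : Over (Spec (CommRingCat.of k))) [GrpObj G] [LocallyOfFiniteType G.hom]
    [QuasiCompact G.hom] [GrpObj P] [IsProper P.hom] (u : G ⟶ P) [IsMonHom u] :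
    ∃ (Q : Over (Spec (CommRingCat.of k))) (_ : GrpObj Q) (q : G ⟶ Q) (j : Q ⟶ P), IsMonHom q ∧ IsMonHom j ∧
      q ≫ j = u ∧ IsClosedImmersion j.left ∧ Surjective q.left ∧ Flat q.left ∧ QuasiCompact q.left ∧ IsProper Q.hom ∧
      AlgGrp.IsKernel (KerGrp.kerι u) q := by
  obtain ⟨Q, _, q, j, hq, hj, hqj, hcov, hcl⟩ := K395.Hom.exists_image u
  have hmono : Mono j := Books.AlgPtsGrp.mono_of_isClosedImmersion j
  have hQ : IsProper Q.hom := by rw [← Over.w j]; infer_instance
  refine ⟨Q, inferInstance, q, j, hq, hj, hqj, hcl, ?_, ?_, ?_, hQ, ?_⟩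
  · exact hcov.surj
  · exact hcov.flat
  · exact hcov.qc
  · apply K395.Pts.isKernel_of_pts
    · intro T n
      rw [← cancel_mono j, Category.assoc, hqj, MonObj.one_comp, Category.assoc, KerGrp.kerι_comp, MonObj.comp_one]
    · intro T x hx
      exact KerGrp.exists_lift u x (by rw [← hqj, ← Category.assoc, hx, MonObj.one_comp])

/-- Over any field `k`, any group `G` of finite type has a closed normal affine subgroup `N` with `G/N` proper. -/
theorem exists_quot (G : Over (Spec (CommRingCat.of k))) [GrpObj G] [LocallyOfFiniteType G.hom]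
    [QuasiCompact G.hom] :
    ∃ (N : Over (Spec (CommRingCat.of k))) (_ : GrpObj N) (i : N ⟶ G) (Q : Over (Spec (CommRingCat.of k)))
      (_ : GrpObj Q) (q : G ⟶ Q), IsMonHom i ∧ IsClosedImmersion i.left ∧ IsAffine N.left ∧ AlgGrp.IsNormalHom i ∧
      IsMonHom q ∧ Surjective q.left ∧ Flat q.left ∧ QuasiCompact q.left ∧ AlgGrp.IsKernel i q ∧ IsProper Q.hom := by
  obtain ⟨P, _, u, hu, hP, hA⟩ := hasAK G
  obtain ⟨_, hm⟩ := KerGrp.exists_grpObj u
  obtain ⟨Q, _, q, j, hq, hj, hqj, hcl, hs, hf, hqc, hQ, hk⟩ := exists_image G P u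
  exact ⟨KerGrp.kerObj u, inferInstance, KerGrp.kerι u, Q, inferInstance, q, hm, inferInstance, hA,
    Sga3.H794.ChevKer.isNormalHom_ker _ _ hk, hq, hs, hf, hqc, hk, hQ⟩

end K401.ProperQuot
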