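import Groth.Agent.Books.AlgPtsSmooth
import Groth.Agent.Books.AntiAffine
import Mathlib.AlgebraicGeometry.Morphisms.LocalFlatDescent

/-!
# Group schemes whose local ring at the unit is (geometrically) reduced are smooth
-/

set_option autoImplicit false
universe u
open CategoryTheory MonoidalCategory CartesianMonoidalCategory MonObj GrpObj AlgebraicGeometry Limits
open Groth.Agent.Books.AlgPts Groth.Agent.Books.AlgPtsIrred

namespace K401.RedUnit

/-- stalks along flat morphisms: the source stalk reduced implies the target stalk reduced. -/
lemma isReduced_stalk_of_flat {X Y : Scheme.{u}} (g : X ⟶ Y) [Flat g] (x : X)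
    [_root_.IsReduced (X.presheaf.stalk x)] : _root_.IsReduced (Y.presheaf.stalk (g x)) := by
  have h2 : (g.stalkMap x).hom.Flat := Flat.stalkMap g x
  have h3 : (g.stalkMap x).hom.FaithfullyFlat := by
    algebraize [(g.stalkMap x).hom]
    have : IsLocalHom (algebraMap (Y.presheaf.stalk (g x)) (X.presheaf.stalk x)) :=
      inferInstanceAs (IsLocalHom (g.stalkMap x).hom)
    exact Module.FaithfullyFlat.of_flat_of_isLocalHom
  exact isReduced_of_injective (g.stalkMap x).hom h3.injective

/-- reducedness of stalks is stable under generization -/
lemma isReduced_stalk_of_specializes {X : Scheme.{u}} {x y : X} (h : y ⤳ x)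
    [_root_.IsReduced (X.presheaf.stalk x)] : _root_.IsReduced (X.presheaf.stalk y) := by
  have h1 : y ∈ Set.range (X.fromSpecStalk x) := by
    rw [Scheme.range_fromSpecStalk]
    exact h
  obtain ⟨z, rfl⟩ := h1
  have := Groth.Agent.Books.AntiAffine.flat_fromSpecStalk X x
  exact isReduced_stalk_of_flat (X.fromSpecStalk x) z

variable {k : Type u} [Field k] [IsAlgClosed k]

/-- A group scheme locally of finite type over an algebraically closed field whose local ring at the
unit is reduced is reduced. -/
theorem isReduced_of_isReduced_stalk_unit (G : Over (Spec (CommRingCat.of k))) [GrpObj G]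
    [LocallyOfFiniteType G.hom] (h : _root_.IsReduced (G.left.presheaf.stalk (pt η[G]))) :
    IsReduced G.left := by
  have h1 : ∀ x : 𝟙_ (Over (Spec (CommRingCat.of k))) ⟶ G,
      _root_.IsReduced (G.left.presheaf.stalk (pt x)) := by
    intro x
    obtain ⟨α, hα⟩ := exists_iso_translate G η[G] x
    have hα' : α.hom.left (pt η[G]) = pt x := by rw [← pt_comp, hα]
    have hiso : IsIso α.hom.left := inferInstanceAs (IsIso ((Over.forget _).map α.hom))
    rw [← hα']
    exact isReduced_stalk_of_flat α.hom.left _
  have h2 : ∀ y : G.left, _root_.IsReduced (G.left.presheaf.stalk y) := by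
    intro y
    obtain ⟨x, hx⟩ := exists_pt_mem (X := G) (U := closure {y}) (by simp) isClosed_closure.isLocallyClosed
    have hs : y ⤳ pt x := specializes_iff_mem_closure.mpr hx
    have := h1 x
    exact isReduced_stalk_of_specializes hs
  exact isReduced_of_isReduced_stalk G.left

end K401.RedUnit
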