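import Groth.Agent.AlgGrp.K401.ProperQuot
import Groth.Agent.SGA3.K204.Neutral
import Groth.Agent.SGA3.K206.Comm
import Groth.Agent.S5353
import Groth.Agent.S4362
import Groth.Agent.S5938
import Groth.Agent.S3035
import Groth.Agent.S0658

/-!
# The smallest normal subgroup with proper quotient
-/

set_option autoImplicit false
open CategoryTheory MonoidalCategory CartesianMonoidalCategory MonObj GrpObj AlgebraicGeometry CategoryTheory.Limits
universe u

namespace K401.SmallProper

open Groth.Agent Groth.Agent.Sga3B K401.AffKer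

variable {k : Type u} [Field k]

lemma isNoetherian_left (G : Over (Spec (CommRingCat.of k))) [LocallyOfFiniteType G.hom] [QuasiCompact G.hom] :
    IsNoetherian G.left :=
  { toIsLocallyNoetherian := LocallyOfFiniteType.isLocallyNoetherian G.hom
    toCompactSpace := (quasiCompact_iff_compactSpace G.hom).1 inferInstance }

/-- There is a homomorphism to a proper group whose kernel is killed by every homomorphism to a proper group. -/
theorem exists_min (G : Over (Spec (CommRingCat.of k))) [GrpObj G] [LocallyOfFiniteType G.hom] [QuasiCompact G.hom] :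
    ∃ (P : Over (Spec (CommRingCat.of k))) (_ : GrpObj P) (u : G ⟶ P), IsMonHom u ∧ IsProper P.hom ∧
      ∀ (Q : Over (Spec (CommRingCat.of k))) (_ : GrpObj Q) (v : G ⟶ Q), IsMonHom v → IsProper Q.hom →
        KerGrp.kerι u ≫ v = 1 := by
  have hN := isNoetherian_left G
  have hwf : WellFoundedGT G.left.IdealSheafData := S4362.result G.left
  let Φ : Set G.left.IdealSheafData := {I | ∃ (P : Over (Spec (CommRingCat.of k))) (_ : GrpObj P) (u : G ⟶ P),
    IsMonHom u ∧ IsProper P.hom ∧ (KerGrp.kerι u).left.ker = I}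
  have hne : Φ.Nonempty := by
    obtain ⟨P, _, u, hu, hP, -⟩ := ProperQuot.hasAK G
    exact ⟨_, P, inferInstance, u, hu, hP, rfl⟩
  obtain ⟨I, ⟨P, _, u, hu, hP, rfl⟩, hmax⟩ := hwf.wf.has_min Φ hne
  refine ⟨P, inferInstance, u, hu, hP, ?_⟩
  intro Q _ v hv hQ
  let w : G ⟶ P ⊗ Q := lift u v
  have hw : IsMonHom w := by
    apply K395.Pts.isMonHom_of_pts
    intro T x y
    ext1
    · rw [Category.assoc, lift_fst, MonObj.mul_comp, MonObj.mul_comp, Category.assoc, Category.assoc, lift_fst]
    · rw [Category.assoc, lift_snd, MonObj.mul_comp, MonObj.mul_comp, Category.assoc, Category.assoc, lift_snd]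
  have hPQ : IsProper (P ⊗ Q).hom := by
    rw [Over.tensorObj_hom]
    infer_instance
  have h1 : KerGrp.kerι w ≫ u = 1 := by
    have : KerGrp.kerι w ≫ w ≫ fst P Q = 1 := by
      rw [← Category.assoc, KerGrp.kerι_comp, MonObj.one_comp]
    rwa [lift_fst] at this
  have h2 : KerGrp.kerι w ≫ v = 1 := by
    have : KerGrp.kerι w ≫ w ≫ snd P Q = 1 := by
      rw [← Category.assoc, KerGrp.kerι_comp, MonObj.one_comp]
    rwa [lift_snd] at this
  obtain ⟨t, ht⟩ := KerGrp.exists_lift u (KerGrp.kerι w) h1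
  have hle : (KerGrp.kerι u).left.ker ≤ (KerGrp.kerι w).left.ker := by
    have : (KerGrp.kerι w).left = t.left ≫ (KerGrp.kerι u).left := (congrArg Over.Hom.left ht).symm
    rw [this]
    exact Scheme.Hom.le_ker_comp _ _
  have heq : (KerGrp.kerι w).left.ker = (KerGrp.kerι u).left.ker := by
    by_contra hne
    exact hmax _ ⟨P ⊗ Q, inferInstance, w, hw, hPQ, rfl⟩ (lt_of_le_of_ne hle (Ne.symm hne))
  let s : KerGrp.kerObj u ⟶ KerGrp.kerObj w :=
    Over.homMk (IsClosedImmersion.lift (KerGrp.kerι w).left (KerGrp.kerι u).left heq.le) (by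
      rw [← Over.w (KerGrp.kerι w), ← Category.assoc, IsClosedImmersion.lift_fac, Over.w])
  have hs : s ≫ KerGrp.kerι w = KerGrp.kerι u := by
    apply Over.OverMorphism.ext
    exact IsClosedImmersion.lift_fac _ _ _
  rw [← hs, Category.assoc, h2, MonObj.comp_one]

/-- The neutral component of a normal subgroup is normal. -/
theorem isNormalHom_neutral {G N N₀ : Over (Spec (CommRingCat.of k))} [GrpObj G] [GrpObj N] [GrpObj N₀]
    (i : N ⟶ G) [IsMonHom i] [Mono i] (hN : AlgGrp.IsNormalHom i) (n₀ : N₀ ⟶ N) [IsMonHom n₀]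
    [IsOpenImmersion n₀.left] (s : Spec (CommRingCat.of k))
    (h₀ : Set.range n₀.left = connectedComponent (K204.Neutral.e N s)) : AlgGrp.IsNormalHom (n₀ ≫ i) := by
  have hsub : Subsingleton (Spec (CommRingCat.of k)) := inferInstanceAs (Subsingleton (PrimeSpectrum k))
  have hn : SGA3x.neutralSet N = Set.range n₀.left := by
    rw [K204.Neutral.neutralSet_of_subsingleton N s, h₀]
  intro T g n
  obtain ⟨ψ, hψ⟩ := hN (T ⊗ N) (fst T N ≫ g) (snd T N)
  have key : ∀ y : T ⟶ N, (lift (𝟙 T) y ≫ ψ) ≫ i = g * (y ≫ i) * g⁻¹ := by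
    intro y
    rw [Category.assoc, ← hψ, MonObj.comp_mul, MonObj.comp_mul, GrpObj.comp_inv, lift_fst_assoc, lift_snd_assoc,
      Category.id_comp]
  have hr : Set.range (lift (𝟙 T) (n ≫ n₀) ≫ ψ).left ⊆ Set.range n₀.left := by
    rintro _ ⟨t, rfl⟩
    rw [← hn]
    refine K204.Neutral.comp_mem ψ 1 (n ≫ n₀) t (K204.Neutral.one_mem t) ?_ ?_
    · rw [hn, Over.comp_left, Scheme.Hom.comp_apply]
      exact ⟨_, rfl⟩
    · have : lift (𝟙 T) (1 : T ⟶ N) ≫ ψ = 1 := by
        rw [← cancel_mono i, key, MonObj.one_comp, _root_.mul_one, mul_inv_cancel]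
      rw [this]
      exact K204.Neutral.one_mem t
  let n' : T ⟶ N₀ := Over.homMk (IsOpenImmersion.lift n₀.left (lift (𝟙 T) (n ≫ n₀) ≫ ψ).left hr) (by
    rw [← Over.w n₀, ← Category.assoc, IsOpenImmersion.lift_fac, Over.w])
  have hn' : n' ≫ n₀ = lift (𝟙 T) (n ≫ n₀) ≫ ψ := by
    apply Over.OverMorphism.ext
    exact IsOpenImmersion.lift_fac _ _ _
  refine ⟨n', ?_⟩
  rw [← Category.assoc n', hn', key, Category.assoc]

/-- The quotient by the neutral component of a normal subgroup with proper quotient is proper. -/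
theorem exists_quot_neutral {G N Q : Over (Spec (CommRingCat.of k))} [GrpObj G] [GrpObj N] [GrpObj Q]
    [LocallyOfFiniteType G.hom] [QuasiCompact G.hom]
    (i : N ⟶ G) [IsMonHom i] [IsClosedImmersion i.left] (q : G ⟶ Q) [IsMonHom q] [IsProper Q.hom]
    (hk : AlgGrp.IsKernel i q) :
    ∃ (N₀ : Over (Spec (CommRingCat.of k))) (_ : GrpObj N₀) (n₀ : N₀ ⟶ N) (R : Over (Spec (CommRingCat.of k)))
      (_ : GrpObj R) (p : G ⟶ R), IsMonHom n₀ ∧ IsClosedImmersion n₀.left ∧ ConnectedSpace N₀.left ∧ IsMonHom p ∧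
      Surjective p.left ∧ Flat p.left ∧ AlgGrp.IsKernel (n₀ ≫ i) p ∧ IsProper R.hom := by
  have hi : Mono i := K395.Pts.mono_of_isKernel hk
  have hNf : LocallyOfFiniteType N.hom := by rw [← Over.w i]; infer_instance
  have hNq : QuasiCompact N.hom := by rw [← Over.w i]; infer_instance
  have hN := Sga3.H794.ChevKer.isNormalHom_ker i q hk
  obtain ⟨N₀, _, n₀, hn1, hn2, hn3, hn4, hn5, hn6⟩ := K206.Comm.exists_neutral N
  have hNn := isNormalHom_neutral i hN n₀ (IsLocalRing.closedPoint k) (hn6 _)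
  have hm₀ : Mono n₀ := Books.AlgPtsGrp.mono_of_isClosedImmersion n₀
  have hmono : Mono (n₀ ≫ i) := inferInstance
  have hcl : IsClosedImmersion (n₀ ≫ i).left := by rw [Over.comp_left]; infer_instance
  have hN0f : LocallyOfFiniteType N₀.hom := by rw [← Over.w (n₀ ≫ i)]; infer_instance
  obtain ⟨R, _, p, hp1, hp2, hp3, hp4, hp5, hp6, hp7, hp8⟩ := S3030.result k N₀ G (n₀ ≫ i) hNn
  have hRf : LocallyOfFiniteType R.hom := by
    have : LocallyOfFiniteType (p.left ≫ R.hom) := by rw [Over.w]; infer_instance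
    exact S5938.result p.left R.hom
  have hRq : QuasiCompact R.hom := by
    have h : CompactSpace G.left := (quasiCompact_iff_compactSpace G.hom).1 inferInstance
    have h' : CompactSpace R.left := hp3.surj.compactSpace p.left.continuous
    exact (quasiCompact_iff_compactSpace R.hom).2 h'
  refine ⟨N₀, inferInstance, n₀, R, inferInstance, p, hn1, hn2, hn4, hp1, hp3, hp2, hp5, ?_⟩
  -- the map to `Q`
  obtain ⟨π, hπ1, hπ2⟩ := Sga3.H794.ChevKer.exists_desc_hom (n₀ ≫ i) p hp5 q (by
    rw [Category.assoc, show i ≫ q = 1 from hk.w, MonObj.comp_one])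
  obtain ⟨_, hE⟩ := KerGrp.exists_grpObj π
  obtain ⟨r, hr⟩ := KerGrp.exists_lift π (i ≫ p) (by rw [Category.assoc, hπ2]; exact hk.w)
  have hsq : IsPullback i r p (KerGrp.kerι π) := by
    have h6 : IsPullback i (r ≫ toUnit (KerGrp.kerObj π)) (p ≫ π) η[Q] := by
      rw [toUnit_unique (r ≫ toUnit (KerGrp.kerObj π)) (toUnit N), hπ2]
      exact hk
    exact IsPullback.of_bot (t := KerGrp.isPullback_ker π) (by simpa using h6) hr.symm
  have hsq' : IsPullback i.left r.left p.left (KerGrp.kerι π).left := hsq.map (Over.forget _)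
  have r1 : Flat r.left := MorphismProperty.of_isPullback hsq' hp2
  have r2 : Surjective r.left := MorphismProperty.of_isPullback hsq' hp3
  have r3 : LocallyOfFinitePresentation r.left := MorphismProperty.of_isPullback hsq' hp4
  have hrm : IsMonHom r := by
    have : IsMonHom (r ≫ KerGrp.kerι π) := by rw [hr]; infer_instance
    exact Sga3C.SubGrp.isMonHom_of_comp_mono r (KerGrp.kerι π)
  have hkr : AlgGrp.IsKernel n₀ r := by
    apply K395.Pts.isKernel_of_pts
    · intro T n
      rw [← cancel_mono (KerGrp.kerι π), Category.assoc, hr, MonObj.one_comp, Category.assoc]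
      have := K395.Pts.comp_eq_one hp5 n
      simpa only [Category.assoc] using this
    · intro T x hx
      obtain ⟨n, hn⟩ := K395.Pts.exists_of_comp_eq_one hp5 (x ≫ i) (by
        rw [Category.assoc, ← hr, ← Category.assoc, hx, MonObj.one_comp])
      exact ⟨n, by rw [← cancel_mono i, Category.assoc]; exact hn⟩
  have hEt : Etale (KerGrp.kerObj π).hom :=
    S5353.result k N₀ N (KerGrp.kerObj π) n₀ (IsLocalRing.closedPoint k) (hn6 _) r hkr
  have hEq : QuasiCompact (KerGrp.kerObj π).hom := by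
    rw [← Over.w (KerGrp.kerι π)]; infer_instance
  have hEfin : IsFinite (KerGrp.kerObj π).hom := by
    have hart : IsLocallyArtinian (Spec (CommRingCat.of k)) :=
      Scheme.isLocallyArtinianScheme_Spec.mpr inferInstance
    have hqf := S0658.locallyQuasiFinite_of_etale (KerGrp.kerObj π).hom
    exact IsFinite.of_locallyQuasiFinite (KerGrp.kerObj π).hom
  have hπq : QuasiCompact π.left := by
    have : QuasiCompact (π.left ≫ Q.hom) := by rw [Over.w]; infer_instance
    exact QuasiCompact.of_comp π.left Q.hom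
  have hπp : IsProper π.left := by
    rw [S3035.result k R Q π]
    exact inferInstanceAs (IsProper (KerGrp.kerObj π).hom)
  rw [← Over.w π]
  infer_instance

end K401.SmallProper
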