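import Groth.Agent.AbVar.K506.CurvePrinciple
import Groth.Agent.AbVar.K505.SumMap
import Groth.Agent.AbVar.K504.DescEt
import Groth.Agent.AbVar.K528.RedClosed

/-!
# Morphisms from a product of (possibly singular) varieties to an abelian variety

`eq_one_of_isAlgClosed`: `h : X × Y ⟶ A` trivial on `x₀ × Y` and on `X × y₀` is trivial; `eq_one`: over any field.
-/

set_option autoImplicit false
universe u
open AlgebraicGeometry CategoryTheory Limits MonoidalCategory CartesianMonoidalCategory MonObj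

namespace K401.SumVar

variable {k : Type u} [Field k]

/-- On a product of smooth integral schemes: `h (c, d) = f₁ c * f₂ d`. -/
theorem exists_sum [IsAlgClosed k] (V W A : Over (Spec (CommRingCat.of k))) [IsIntegral V.left] [Smooth V.hom]
    [IsIntegral W.left] [Smooth W.hom] [GrpObj A] [IsProper A.hom] (f : V ⊗ W ⟶ A)
    (v₀ : 𝟙_ (Over (Spec (CommRingCat.of k))) ⟶ V) :
    ∃ (f₁ : V ⟶ A) (f₂ : W ⟶ A), f = (fst V W ≫ f₁) * (snd V W ≫ f₂) := by
  let f₂ : W ⟶ A := lift (toUnit W ≫ v₀) (𝟙 W) ≫ f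
  obtain ⟨g, hg⟩ := K505.SumMap.indep_of_isAlgClosed V W A (f * (snd V W ≫ f₂)⁻¹) v₀ (by
    rw [comp_mul, GrpObj.comp_inv, lift_snd_assoc, Category.id_comp, mul_inv_cancel, Hom.one_def])
  refine ⟨g, f₂, ?_⟩
  rw [← hg]
  group

theorem eq_one_of_isAlgClosed [IsAlgClosed k] (X Y A : Over (Spec (CommRingCat.of k)))
    [LocallyOfFiniteType X.hom] [QuasiCompact X.hom] [ConnectedSpace X.left]
    [LocallyOfFiniteType Y.hom] [QuasiCompact Y.hom] [ConnectedSpace Y.left] [IsReduced (X ⊗ Y).left]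
    [GrpObj A] [IsProper A.hom] (h : X ⊗ Y ⟶ A)
    (x₀ : 𝟙_ (Over (Spec (CommRingCat.of k))) ⟶ X) (y₀ : 𝟙_ (Over (Spec (CommRingCat.of k))) ⟶ Y)
    (hx : ∀ y : 𝟙_ (Over (Spec (CommRingCat.of k))) ⟶ Y, lift x₀ y ≫ h = 1)
    (hy : ∀ x : 𝟙_ (Over (Spec (CommRingCat.of k))) ⟶ X, lift x y₀ ≫ h = 1) : h = 1 := by
  have hF := K506.CurvePrinciple.const_of_curves_over X (fun x => fun y : 𝟙_ (Over (Spec (CommRingCat.of k))) ⟶ Y =>
    lift x y ≫ h) (by
    intro C _ _ _ g c c'
    funext y
    have hC : Smooth C.hom := SmoothOfRelativeDimension.smooth 1 C.hom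
    have hΦ := K506.CurvePrinciple.const_of_curves_over Y (fun y => (lift (c ≫ g) y ≫ h) * (lift (c' ≫ g) y ≫ h)⁻¹) (by
      intro D _ _ _ g' d d'
      have hD : Smooth D.hom := SmoothOfRelativeDimension.smooth 1 D.hom
      obtain ⟨f₁, f₂, hf⟩ := exists_sum C D A ((g ⊗ₘ g') ≫ h) c
      have e : ∀ (c : 𝟙_ (Over (Spec (CommRingCat.of k))) ⟶ C) (d : 𝟙_ (Over (Spec (CommRingCat.of k))) ⟶ D),
          lift (c ≫ g) (d ≫ g') ≫ h = (c ≫ f₁) * (d ≫ f₂) := by
        intro c d
        have h1 := congrArg (fun t => lift c d ≫ t) hf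
        simp only [comp_mul, lift_fst_assoc, lift_snd_assoc] at h1
        rw [← h1, ← Category.assoc, lift_map]
      rw [e, e, e, e]
      group) y y₀
    rw [hy, hy, inv_one, _root_.mul_one] at hΦ
    exact mul_inv_eq_one.1 hΦ)
  have hl : LocallyOfFiniteType (X ⊗ Y).hom := by
    rw [← Over.w (fst X Y)]
    have : LocallyOfFiniteType (fst X Y).left := by dsimp; infer_instance
    infer_instance
  apply K504.DescEt.ext_points
  intro p
  have h1 : p = lift (p ≫ fst X Y) (p ≫ snd X Y) := by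
    rw [← comp_lift, lift_fst_snd, Category.comp_id]
  rw [h1, MonObj.comp_one]
  have h2 := congrFun (hF (p ≫ fst X Y) x₀) (p ≫ snd X Y)
  exact h2.trans (hx _)

theorem eq_one (X Y A : Over (Spec (CommRingCat.of k)))
    [LocallyOfFiniteType X.hom] [QuasiCompact X.hom] [GeometricallyIntegral X.hom]
    [LocallyOfFiniteType Y.hom] [QuasiCompact Y.hom] [GeometricallyIntegral Y.hom]
    [GrpObj A] [IsProper A.hom] (h : X ⊗ Y ⟶ A)
    (x₀ : 𝟙_ (Over (Spec (CommRingCat.of k))) ⟶ X) (y₀ : 𝟙_ (Over (Spec (CommRingCat.of k))) ⟶ Y)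
    (hx : lift (toUnit Y ≫ x₀) (𝟙 Y) ≫ h = 1) (hy : lift (𝟙 X) (toUnit X ≫ y₀) ≫ h = 1) : h = 1 := by
  let f := Spec.map (CommRingCat.ofHom <| algebraMap k (AlgebraicClosure k))
  let X' := (Over.pullback f).obj X
  let Y' := (Over.pullback f).obj Y
  let A' := (Over.pullback f).obj A
  have : LocallyOfFiniteType X'.hom := by dsimp [X']; infer_instance
  have : LocallyOfFiniteType Y'.hom := by dsimp [Y']; infer_instance
  have : QuasiCompact X'.hom := by dsimp [X']; infer_instance
  have : QuasiCompact Y'.hom := by dsimp [Y']; infer_instance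
  have : IsProper A'.hom := by dsimp [A']; infer_instance
  have : IsIntegral X'.left := by
    have : GeometricallyIntegral X'.hom := by dsimp [X']; infer_instance
    exact GeometricallyIntegral.isIntegral_of_subsingleton X'.hom
  have : IsIntegral Y'.left := by
    have : GeometricallyIntegral Y'.hom := by dsimp [Y']; infer_instance
    exact GeometricallyIntegral.isIntegral_of_subsingleton Y'.hom
  have : IsReduced (X' ⊗ Y').left := K528.RedClosed.isReduced_tensor X' Y'
  let : GrpObj A' := Functor.grpObjObj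
  let h' : X' ⊗ Y' ⟶ A' := Functor.LaxMonoidal.μ (Over.pullback f) X Y ≫ (Over.pullback f).map h
  let x₀' : 𝟙_ _ ⟶ X' := Functor.LaxMonoidal.ε (Over.pullback f) ≫ (Over.pullback f).map x₀
  let y₀' : 𝟙_ _ ⟶ Y' := Functor.LaxMonoidal.ε (Over.pullback f) ≫ (Over.pullback f).map y₀
  have hη : η[A'] = Functor.LaxMonoidal.ε (Over.pullback f) ≫ (Over.pullback f).map η[A] := rfl
  have hone : ∀ (T : Over (Spec (CommRingCat.of k))), (Over.pullback f).map (1 : T ⟶ A) = 1 := by
    intro T
    rw [Hom.one_def, Hom.one_def, CategoryTheory.Functor.map_comp, hη, ← Functor.Monoidal.toUnit_ε (Over.pullback f) T,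
      Category.assoc]
  have hl : ∀ {T : Over (Spec (CommRingCat.of k))} (a : T ⟶ X) (b : T ⟶ Y),
      (Over.pullback f).map (lift a b ≫ h) = lift ((Over.pullback f).map a) ((Over.pullback f).map b) ≫ h' := by
    intro T a b
    simp only [h', CategoryTheory.Functor.map_comp]
    rw [← Category.assoc, Functor.Monoidal.lift_μ]
  have hT : ∀ (T : Over (Spec (CommRingCat.of k))), (Over.pullback f).map (toUnit T) =
      toUnit _ ≫ Functor.LaxMonoidal.ε (Over.pullback f) := fun T =>
    (Functor.Monoidal.toUnit_ε (Over.pullback f) T).symm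
  have hx' : lift (toUnit Y' ≫ x₀') (𝟙 Y') ≫ h' = 1 := by
    have h1 := hl (toUnit Y ≫ x₀) (𝟙 Y)
    rw [hx, hone, CategoryTheory.Functor.map_comp, CategoryTheory.Functor.map_id, hT, Category.assoc] at h1
    exact h1.symm
  have hy' : lift (𝟙 X') (toUnit X' ≫ y₀') ≫ h' = 1 := by
    have h1 := hl (𝟙 X) (toUnit X ≫ y₀)
    rw [hy, hone, CategoryTheory.Functor.map_comp, CategoryTheory.Functor.map_id, hT, Category.assoc] at h1
    exact h1.symm
  have key : h' = 1 := by
    refine eq_one_of_isAlgClosed X' Y' A' h' x₀' y₀' ?_ ?_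
    · intro y
      have h1 : lift x₀' y = y ≫ lift (toUnit Y' ≫ x₀') (𝟙 Y') := by
        rw [comp_lift, Category.comp_id, ← Category.assoc, toUnit_unique (y ≫ toUnit Y') (𝟙 _), Category.id_comp]
      rw [h1, Category.assoc, hx', MonObj.comp_one]
    · intro x
      have h1 : lift x y₀' = x ≫ lift (𝟙 X') (toUnit X' ≫ y₀') := by
        rw [comp_lift, Category.comp_id, ← Category.assoc, toUnit_unique (x ≫ toUnit X') (𝟙 _), Category.id_comp]
      rw [h1, Category.assoc, hy', MonObj.comp_one]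
  apply (Over.pullback f).map_injective
  rw [hone]
  have h1 := hl (fst X Y) (snd X Y)
  rw [lift_fst_snd, Category.id_comp, key, MonObj.comp_one] at h1
  exact h1

end K401.SumVar
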