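import Groth.Agent.AlgGrp.K401.ActGen
import Groth.Agent.AbVar.K505.Ext
import Groth.Agent.Sga3.H780.Pointed

/-!
# Torsors under abelian varieties: from the generic fibre to the total space

`exists_map`: if the generic fibre of an `A`-torsor `X ⟶ Y` has a map `φ` to `A` with `φ (a x) = φ (x) a ^ n` then so has `X`.
-/

set_option autoImplicit false
universe u
open CategoryTheory CategoryTheory.Limits MonoidalCategory CartesianMonoidalCategory MonObj GrpObj AlgebraicGeometry
open Groth.Agent.Books.BorelOrb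

namespace K401.TorsGen

/-- A dominant field-valued point factors through the generic point. -/
theorem exists_factor_generic {X : Scheme.{u}} [IsIntegral X] {F : CommRingCat.{u}} [IsLocalRing F] [Subsingleton (Spec F)]
    (ψ : Spec F ⟶ X) [IsDominant ψ] :
    ∃ x1 : Spec F ⟶ Spec X.functionField, x1 ≫ X.fromSpecStalk (genericPoint X) = ψ := by
  have h1 : ψ (IsLocalRing.closedPoint F) = genericPoint X := by
    have h2 : closure (Set.range ψ) = Set.univ := ψ.denseRange.closure_eq
    have h3 : Set.range ψ = {ψ (IsLocalRing.closedPoint F)} := by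
      ext y
      constructor
      · rintro ⟨z, rfl⟩
        rw [Subsingleton.elim z (IsLocalRing.closedPoint F)]
        rfl
      · rintro rfl
        exact ⟨_, rfl⟩
    rw [h3] at h2
    exact ((genericPoint_spec X).eq h2).symm
  have h2 := Scheme.Spec_stalkClosedPointTo_fromSpecStalk ψ
  have key : ∀ x : X, ψ (IsLocalRing.closedPoint F) = x →
      ∃ x1 : Spec F ⟶ Spec (X.presheaf.stalk x), x1 ≫ X.fromSpecStalk x = ψ := by
    rintro x rfl
    exact ⟨_, h2⟩
  exact key _ h1

instance isDominant_fromSpecStalk {X : Scheme.{u}} [IsIntegral X] : IsDominant (X.fromSpecStalk (genericPoint X)) := by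
  refine ⟨?_⟩
  have h1 : genericPoint X ∈ Set.range (X.fromSpecStalk (genericPoint X)) :=
    ⟨IsLocalRing.closedPoint _, X.fromSpecStalk_closedPoint⟩
  have h2 : closure {genericPoint X} = Set.univ := genericPoint_spec X
  rw [DenseRange, dense_iff_closure_eq, Set.eq_univ_iff_forall]
  intro x
  exact closure_mono (Set.singleton_subset_iff.2 h1) (h2 ▸ Set.mem_univ x)

/-- Extension of a morphism from the generic point of a smooth variety to a proper group. -/
theorem exists_ext {k : Type u} [Field k] (X A : Over (Spec (CommRingCat.of k))) [Smooth X.hom] [IsIntegral X.left]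
    [GrpObj A] [IsProper A.hom] (v : Spec X.left.functionField ⟶ A.left)
    (hv : v ≫ A.hom = X.left.fromSpecStalk (genericPoint X.left) ≫ X.hom) :
    ∃ φ : X ⟶ A, X.left.fromSpecStalk (genericPoint X.left) ≫ φ.left = v := by
  let f₀ := Scheme.PartialMap.ofFromSpecStalk X.hom A.hom v hv
  have h1 : f₀.hom ≫ A.hom = f₀.domain.ι ≫ X.hom := Scheme.PartialMap.ofFromSpecStalk_comp X.hom A.hom v hv
  have hmem : genericPoint X.left ∈ f₀.domain := Scheme.PartialMap.mem_domain_ofFromSpecStalk X.hom A.hom v hv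
  obtain ⟨g, hg1, hg2⟩ := K505.Ext.exists_extension X.left X.hom A f₀.domain ⟨_, hmem⟩ f₀.hom h1
  refine ⟨Over.homMk g hg1, ?_⟩
  have h2 : f₀.fromSpecStalkOfMem hmem = v := Scheme.PartialMap.fromSpecStalkOfMem_ofFromSpecStalk X.hom A.hom v hv
  rw [← h2, Scheme.PartialMap.fromSpecStalkOfMem, ← hg2, ← Category.assoc, Scheme.Opens.fromSpecStalkOfMem_ι]
  rfl

/-- The conclusion for torsors over a field. -/
def HasMap (K : Type u) [Field K] (G : Over (Spec (CommRingCat.of K))) [GrpObj G] : Prop :=
  ∀ (V : Over (Spec (CommRingCat.of K))) [LocallyOfFiniteType V.hom] [QuasiCompact V.hom] [Nonempty V.left]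
    (a : AlgGrp.Action G V), IsIso (lift a.act (snd G V)) →
    ∃ (φ : V ⟶ G) (n : ℕ), 0 < n ∧ ∀ (T : Over (Spec (CommRingCat.of K))) (g : T ⟶ G) (v : T ⟶ V),
      lift g v ≫ a.act ≫ φ = (v ≫ φ) * g ^ n

/-- The generic point of `Y` over `k`. -/
noncomputable abbrev gpt {k : Type u} [Field k] (Y : Over (Spec (CommRingCat.of k))) [IsIntegral Y.left] :
    Spec (CommRingCat.of Y.left.functionField) ⟶ Y.left := Y.left.fromSpecStalk (genericPoint Y.left)

theorem exists_map {k : Type u} [Field k]
    (A X Y : Over (Spec (CommRingCat.of k))) [GrpObj A] [IsProper A.hom] [Smooth A.hom] [ConnectedSpace ↥A.left]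
    [Smooth X.hom] [QuasiCompact X.hom] [IsIntegral X.left] [IsIntegral Y.left] [IsSeparated Y.hom]
    (a : AlgGrp.Action A X) (f : X ⟶ Y) [Surjective f.left]
    (hinv : a.act ≫ f = snd A X ≫ f) (htors : IsIso (pullback.lift a.act (snd A X) hinv))
    (H : HasMap Y.left.functionField (Red.bc (gpt Y ≫ Y.hom) A)) :
    ∃ (φ : X ⟶ A) (n : ℕ), 0 < n ∧
      ∀ (T : Over (Spec (CommRingCat.of k))) (b : T ⟶ A) (x : T ⟶ X), lift b x ≫ a.act ≫ φ = (x ≫ φ) * b ^ n := by
  let g : Spec (CommRingCat.of Y.left.functionField) ⟶ Y.left := gpt Y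
  let h : Spec (CommRingCat.of Y.left.functionField) ⟶ Spec (CommRingCat.of k) := gpt Y ≫ Y.hom
  have hgmono : Mono g := inferInstanceAs (Mono (Y.left.fromSpecStalk (genericPoint Y.left)))
  let V : Over (Spec (CommRingCat.of Y.left.functionField)) := Over.mk (pullback.snd f.left g)
  let j : (Over.map h).obj V ⟶ X := Over.homMk (pullback.fst f.left g) (by
    rw [← Over.w f, pullback.condition_assoc]
    rfl)
  have hcond : ∀ {T : Over (Spec (CommRingCat.of Y.left.functionField))} (x : T ⟶ V),
      ((Over.map h).map x ≫ j).left ≫ f.left = T.hom ≫ g := by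
    intro T x
    change (x.left ≫ pullback.fst f.left g) ≫ f.left = T.hom ≫ g
    rw [Category.assoc, pullback.condition, ← Category.assoc]
    congr 1
    exact Over.w x
  have hlift : ∀ {T : Over (Spec (CommRingCat.of Y.left.functionField))} (y : (Over.map h).obj T ⟶ X)
      (_ : y.left ≫ f.left = T.hom ≫ g), ∃ y' : T ⟶ V, (Over.map h).map y' ≫ j = y := by
    intro T y hy
    refine ⟨Over.homMk (pullback.lift y.left T.hom hy) (pullback.lift_snd _ _ _), ?_⟩
    ext1
    exact pullback.lift_fst _ _ _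
  have hinj : ∀ {T : Over (Spec (CommRingCat.of Y.left.functionField))} (x y : T ⟶ V),
      (Over.map h).map x ≫ j = (Over.map h).map y ≫ j → x = y := by
    intro T x y hxy
    ext1
    apply pullback.hom_ext
    · exact congrArg (fun z => z.left) hxy
    · exact (Over.w x).trans (Over.w y).symm
  have hsm : ∀ {T : Over (Spec (CommRingCat.of k))} (b : T ⟶ A) (x : T ⟶ X), sm a b x ≫ f = x ≫ f := by
    intro T b x
    rw [sm, Category.assoc, hinv, lift_snd_assoc]
  have hact : ∀ {T : Over (Spec (CommRingCat.of Y.left.functionField))} (b : (Over.map h).obj T ⟶ A) (x : T ⟶ V),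
      ∃ y : T ⟶ V, (Over.map h).map y ≫ j = sm a b ((Over.map h).map x ≫ j) := by
    intro T b x
    refine hlift _ ?_
    rw [← Over.comp_left, hsm, Over.comp_left]
    exact hcond x
  obtain ⟨a', ha'⟩ := ActGen.exists_action h a j hinj hact
  have hex : ∀ {T : Over (Spec (CommRingCat.of Y.left.functionField))} (x y : T ⟶ V), ∃ b : (Over.map h).obj T ⟶ A,
      sm a b ((Over.map h).map x ≫ j) = (Over.map h).map y ≫ j := by
    intro T x y
    have hxy : ((Over.map h).map y ≫ j) ≫ f = ((Over.map h).map x ≫ j) ≫ f := by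
      ext1
      rw [Over.comp_left, hcond, Over.comp_left, hcond]
    let w := pullback.lift ((Over.map h).map y ≫ j) ((Over.map h).map x ≫ j) hxy ≫ inv (pullback.lift a.act (snd A X) hinv)
    have hw : w ≫ pullback.lift a.act (snd A X) hinv =
        pullback.lift ((Over.map h).map y ≫ j) ((Over.map h).map x ≫ j) hxy := by
      rw [Category.assoc, IsIso.inv_hom_id, Category.comp_id]
    have h1 : w ≫ a.act = (Over.map h).map y ≫ j := by
      have := congrArg (fun z => z ≫ pullback.fst f f) hw
      simpa only [Category.assoc, pullback.lift_fst] using this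
    have h2 : w ≫ snd A X = (Over.map h).map x ≫ j := by
      have := congrArg (fun z => z ≫ pullback.snd f f) hw
      simpa only [Category.assoc, pullback.lift_snd] using this
    refine ⟨w ≫ fst A X, ?_⟩
    rw [← h1, ← h2, sm, ← comp_lift, lift_fst_snd, Category.comp_id]
  have huniq : ∀ {T : Over (Spec (CommRingCat.of Y.left.functionField))} (x : T ⟶ V) (b b' : (Over.map h).obj T ⟶ A),
      sm a b ((Over.map h).map x ≫ j) = sm a b' ((Over.map h).map x ≫ j) → b = b' := by
    intro T x b b' hbb
    have h1 : lift b ((Over.map h).map x ≫ j) = lift b' ((Over.map h).map x ≫ j) := by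
      rw [← cancel_mono (pullback.lift a.act (snd A X) hinv)]
      apply pullback.hom_ext
      · simp only [Category.assoc, pullback.lift_fst]
        exact hbb
      · rw [Category.assoc, Category.assoc, pullback.lift_snd, lift_snd, lift_snd]
    have h2 := congrArg (fun z => z ≫ fst A X) h1
    simpa only [lift_fst] using h2
  have hV := ActGen.isIso_of_torsor h a j a' hinj ha' hex huniq
  have hfl : LocallyOfFiniteType f.left := by
    have : LocallyOfFiniteType (f.left ≫ Y.hom) := by rw [Over.w]; infer_instance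
    exact locallyOfFiniteType_of_comp f.left Y.hom
  have hfq : QuasiCompact f.left := by
    have : QuasiCompact (f.left ≫ Y.hom) := by rw [Over.w]; infer_instance
    exact QuasiCompact.of_comp f.left Y.hom
  have hVl : LocallyOfFiniteType V.hom := inferInstanceAs (LocallyOfFiniteType (pullback.snd f.left g))
  have hVq : QuasiCompact V.hom := inferInstanceAs (QuasiCompact (pullback.snd f.left g))
  have hVs : Surjective V.hom := inferInstanceAs (Surjective (pullback.snd f.left g))
  have hVn : Nonempty V.left := ⟨(V.hom.surjective (IsLocalRing.closedPoint Y.left.functionField)).choose⟩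
  obtain ⟨φK, n, hn, hφK⟩ := H V a' hV
  let φ' : (Over.map h).obj V ⟶ A := ActGen.dn h φK
  have hφ' : ∀ {T : Over (Spec (CommRingCat.of Y.left.functionField))} (b : T ⟶ Red.bc h A) (x : T ⟶ V),
      (Over.map h).map (sm a' b x) ≫ φ' = ((Over.map h).map x ≫ φ') * (ActGen.dn h b) ^ n := by
    intro T b x
    rw [← ActGen.dn_comp, ← ActGen.dn_comp, ← ActGen.dn_pow, ← ActGen.dn_mul]
    congr 1
    rw [sm, Category.assoc]
    exact hφK T b x
  -- the generic point of `X`
  let ξ := X.left.fromSpecStalk (genericPoint X.left)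
  have hξ : IsDominant ξ := isDominant_fromSpecStalk
  have hξf : IsDominant (ξ ≫ f.left) := inferInstance
  have hsub : Subsingleton ↥(Spec X.left.functionField) :=
    inferInstanceAs (Subsingleton (PrimeSpectrum X.left.functionField))
  obtain ⟨t0, ht0⟩ := exists_factor_generic (F := X.left.functionField) (ξ ≫ f.left)
  obtain ⟨v, hv⟩ := hlift (T := Over.mk t0) (Over.homMk ξ (by
    change ξ ≫ X.hom = t0 ≫ g ≫ Y.hom
    rw [← Category.assoc, show t0 ≫ g = ξ ≫ f.left from ht0, Category.assoc, Over.w])) ht0.symm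
  obtain ⟨φ, hφ⟩ := exists_ext X A ((Over.map h).map v ≫ φ').left (by
    have h1 := Over.w ((Over.map h).map v ≫ φ')
    rw [h1]
    change t0 ≫ g ≫ Y.hom = ξ ≫ X.hom
    rw [← Category.assoc, show t0 ≫ g = ξ ≫ f.left from ht0, Category.assoc, Over.w])
  refine ⟨φ, n, hn, ?_⟩
  -- the identity on `A × X`
  have hA : GeometricallyIntegral A.hom := Groth.Agent.Sga3.H780.Pointed.geometricallyIntegral A
  have hXn : IsLocallyNoetherian X.left := LocallyOfFiniteType.isLocallyNoetherian X.hom
  have hZ : IsIntegral (A ⊗ X).left := inferInstanceAs (IsIntegral (pullback A.hom X.hom))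
  have hpow : ∀ {T : Over (Spec (CommRingCat.of k))} (w : T ⟶ A ⊗ X) (n : ℕ), w ≫ (fst A X) ^ n = (w ≫ fst A X) ^ n := by
    intro T w n
    induction n with
    | zero => rw [pow_zero, pow_zero, MonObj.comp_one]
    | succ n ih => rw [pow_succ, pow_succ, comp_mul, ih]
  have hsnds : Surjective (snd A X).left := by dsimp; infer_instance
  have hacts : Surjective a.act.left := by
    have h1 : lift (1 : X ⟶ A) (𝟙 X) ≫ a.act = 𝟙 X := one_sm a (𝟙 X)
    have h2 : Surjective ((lift (1 : X ⟶ A) (𝟙 X)).left ≫ a.act.left) := by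
      rw [← Over.comp_left, h1]
      exact inferInstanceAs (Surjective (𝟙 X.left))
    exact Surjective.of_comp (lift (1 : X ⟶ A) (𝟙 X)).left a.act.left
  let ζ := (A ⊗ X).left.fromSpecStalk (genericPoint (A ⊗ X).left)
  have hζ : IsDominant ζ := isDominant_fromSpecStalk
  have hsub' : Subsingleton ↥(Spec (A ⊗ X).left.functionField) :=
    inferInstanceAs (Subsingleton (PrimeSpectrum (A ⊗ X).left.functionField))
  obtain ⟨x1, hx1⟩ := exists_factor_generic (F := (A ⊗ X).left.functionField) (ζ ≫ (snd A X).left)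
  obtain ⟨y1, hy1⟩ := exists_factor_generic (F := (A ⊗ X).left.functionField) (ζ ≫ a.act.left)
  have hxy : y1 ≫ t0 = x1 ≫ t0 := by
    have h1 : (y1 ≫ t0) ≫ g = (x1 ≫ t0) ≫ g := by
      rw [Category.assoc, Category.assoc, show t0 ≫ g = ξ ≫ f.left from ht0, ← Category.assoc, ← Category.assoc,
        show y1 ≫ ξ = ζ ≫ a.act.left from hy1, show x1 ≫ ξ = ζ ≫ (snd A X).left from hx1, Category.assoc,
        Category.assoc, ← Over.comp_left, ← Over.comp_left, hinv]
    exact (cancel_mono g).1 h1
  let T : Over (Spec (CommRingCat.of Y.left.functionField)) := Over.mk (x1 ≫ t0)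
  let xt : T ⟶ Over.mk t0 := Over.homMk x1 rfl
  let yt : T ⟶ Over.mk t0 := Over.homMk y1 hxy
  let z : (Over.map h).obj T ⟶ A ⊗ X := Over.homMk ζ (by
    change ζ ≫ (A ⊗ X).hom = (x1 ≫ t0) ≫ g ≫ Y.hom
    rw [← Over.w (snd A X), ← Over.w f, ← Category.assoc ζ,
      show ζ ≫ (snd A X).left = x1 ≫ ξ from hx1.symm, Category.assoc, Category.assoc, ← Category.assoc ξ,
      show ξ ≫ f.left = t0 ≫ g from ht0.symm, Category.assoc])
  have hvl : v.left ≫ pullback.fst f.left g = ξ := congrArg (fun z => z.left) hv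
  have hxj : (Over.map h).map (xt ≫ v) ≫ j = z ≫ snd A X := by
    ext1
    change (x1 ≫ v.left) ≫ pullback.fst f.left g = ζ ≫ (snd A X).left
    rw [Category.assoc, hvl]
    exact hx1
  have hyj : (Over.map h).map (yt ≫ v) ≫ j = z ≫ a.act := by
    ext1
    change (y1 ≫ v.left) ≫ pullback.fst f.left g = ζ ≫ a.act.left
    rw [Category.assoc, hvl]
    exact hy1
  have hxφ : (Over.map h).map (xt ≫ v) ≫ φ' = z ≫ snd A X ≫ φ := by
    ext1
    have h1 : ξ ≫ φ.left = v.left ≫ φ'.left := hφ
    change (x1 ≫ v.left) ≫ φ'.left = ζ ≫ (snd A X ≫ φ).left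
    rw [Category.assoc, ← h1, Over.comp_left, ← Category.assoc, ← Category.assoc]
    congr 1
  have hyφ : (Over.map h).map (yt ≫ v) ≫ φ' = z ≫ a.act ≫ φ := by
    ext1
    have h1 : ξ ≫ φ.left = v.left ≫ φ'.left := hφ
    change (y1 ≫ v.left) ≫ φ'.left = ζ ≫ (a.act ≫ φ).left
    rw [Category.assoc, ← h1, Over.comp_left, ← Category.assoc, ← Category.assoc]
    congr 1
  have hsmy : sm a' (ActGen.up h (z ≫ fst A X)) (xt ≫ v) = yt ≫ v := by
    apply hinj
    rw [ha', ActGen.dn_up, hxj, hyj, sm, ← comp_lift, lift_fst_snd, Category.comp_id]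
  have h3 := hφ' (ActGen.up h (z ≫ fst A X)) (xt ≫ v)
  rw [hsmy, hyφ, hxφ, ActGen.dn_up, ← hpow, ← comp_mul] at h3
  have key : a.act ≫ φ = (snd A X ≫ φ) * (fst A X) ^ n := by
    have hzd : IsDominant z.left := hζ
    exact Groth.Agent.Sga3.H780.PointedProd.ext_of_dominant _ _ A z _ _ h3
  intro T b x
  rw [key, comp_mul, lift_snd_assoc, hpow, lift_fst]

end K401.TorsGen
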